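import Groth.Agent.L02.Quot.Core
import Groth.Agent.L02.Hilb.FGAHilb
import Groth.Agent.L21.RR.Twist
import Groth.Agent.L22.Ideal
import Groth.Agent.L20.DescLocus.Unit
import Groth.Agent.L16.SchSupport
import Groth.Agent.L15.Ref.Stalk
import Groth.Agent.L16.AffineBC.Pullback

/-!
# Closed subschemes as quotients of the structure sheaf
-/

set_option autoImplicit false
set_option linter.style.haveILetI false
set_option linter.unusedSectionVars false
set_option backward.isDefEq.respectTransparency false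
set_option backward.isDefEq.respectTransparency.types false

universe u

open CategoryTheory CategoryTheory.Limits AlgebraicGeometry TopologicalSpace Opposite

noncomputable section

namespace Groth.L02.Quot.HilbQ

open Groth.L18.Frame (rs ro rs_rs ro_ro rs_smul ro_self rs_self pull pull_rs pull_smul)
open Groth.L16.EpiFrames (app_rs)

variable {Y Z : Scheme.{u}}

/-- Kernels are determined by the sections over small affine opens. -/
theorem kernel_eq_of_affine {E F G : Y.Modules} (q : E ⟶ F) (q' : E ⟶ G)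
    (h : ∀ (x : Y) (U : Y.Opens), x ∈ U → ∃ W : Y.affineOpens, x ∈ W.1 ∧ W.1 ≤ U ∧
      ∀ z : Γ(E, W.1), q.app W.1 z = 0 ↔ q'.app W.1 z = 0) :
    kernelSubobject q = kernelSubobject q' := by
  have key : ∀ {F G : Y.Modules} (q : E ⟶ F) (q' : E ⟶ G) (x : Y),
      (∀ U : Y.Opens, x ∈ U → ∃ W : Y.affineOpens, x ∈ W.1 ∧ W.1 ≤ U ∧
        ∀ z : Γ(E, W.1), q.app W.1 z = 0 → q'.app W.1 z = 0) →
      LinearMap.ker (stkₗ q x) ≤ LinearMap.ker (stkₗ q' x) := by
    intro F G q q' x hx v hv
    obtain ⟨U, hU, s, rfl⟩ := TopCat.Presheaf.exists_germ_eq (F := E.presheaf) (x := x) v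
    have h0 : F.presheaf.germ U x hU (q.app U s) = F.presheaf.germ U x hU 0 := by
      rw [map_zero, ← stkₗ_germ]; exact hv
    obtain ⟨U', hxU', iU, iU', hres⟩ := F.presheaf.germ_eq x hU hU _ _ h0
    obtain ⟨W, hxW, hWU, hW⟩ := hx U' hxU'
    have hle : W.1 ≤ U := hWU.trans iU.le
    have h1 : q.app W.1 (rs E hle s) = 0 := by
      rw [app_rs]
      have h2 := congrArg (rs F hWU) (show rs F iU.le (q.app U s) = rs F iU'.le 0 from hres)
      rw [rs_rs, rs_rs] at h2
      exact h2.trans (map_zero _)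
    show stkₗ q' x _ = 0
    rw [← TopCat.Presheaf.germ_res_apply E.presheaf (homOfLE hle) x hxW s, stkₗ_germ]
    exact (congrArg (G.presheaf.germ W.1 x hxW) (hW _ h1)).trans (map_zero _)
  refine kernelSubobject_eq q q' fun x => le_antisymm (key q q' x fun U hU => ?_) (key q' q x fun U hU => ?_)
  all_goals obtain ⟨W, a, b, c⟩ := h x U hU
  · exact ⟨W, a, b, fun z => (c z).1⟩
  · exact ⟨W, a, b, fun z => (c z).2⟩

theorem pullbackUnitIso_pull (p : Y ⟶ Z) (V : Z.Opens) (a : Γ(Z, V)) :
    (Groth.L29.LocFree.pullbackUnitIso p).hom.app (p ⁻¹ᵁ V) (pull p (Coh.structureModule Z) V a) = p.app V a :=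
  congr($(Groth.L20.DescLocus.unit_structure p).app V a)

/-- The generating section of the pullback of the structure sheaf. -/
def one' (p : Y ⟶ Z) (W : Y.Opens) : Γ((Scheme.Modules.pullback p).obj (Coh.structureModule Z), W) :=
  rs _ (le_top : W ≤ ⊤) (pull p (Coh.structureModule Z) ⊤ (1 : Γ(Z, ⊤)))

theorem pullbackUnitIso_one (p : Y ⟶ Z) (W : Y.Opens) :
    (Groth.L29.LocFree.pullbackUnitIso p).hom.app W (one' p W) = (1 : Γ(Y, W)) := by
  rw [one', app_rs]
  refine (congrArg (rs (Coh.structureModule Y) (le_top : W ≤ ⊤)) ((pullbackUnitIso_pull p ⊤ 1).trans (map_one (p.app ⊤).hom))).trans ?_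
  exact map_one (Y.presheaf.map (homOfLE (le_top : W ≤ ⊤)).op).hom

theorem pullbackUnitIso_smul_one (p : Y ⟶ Z) (W : Y.Opens) (r : Γ(Y, W)) :
    (Groth.L29.LocFree.pullbackUnitIso p).hom.app W (r • one' p W) = r := by
  rw [Scheme.Modules.Hom.app_smul, pullbackUnitIso_one]
  exact mul_one r

theorem exists_smul_one (p : Y ⟶ Z) (W : Y.Opens) (z : Γ((Scheme.Modules.pullback p).obj (Coh.structureModule Z), W)) :
    ∃ r : Γ(Y, W), z = r • one' p W :=
  ⟨(Groth.L29.LocFree.pullbackUnitIso p).hom.app W z,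
    (ConcreteCategory.bijective_of_isIso ((Groth.L29.LocFree.pullbackUnitIso p).hom.app W)).1
      (pullbackUnitIso_smul_one p W _).symm⟩

/-- The quotient of the pulled back structure sheaf by an ideal. -/
def qI (p : Y ⟶ Z) (I : Y.IdealSheafData) :
    (Scheme.Modules.pullback p).obj (Coh.structureModule Z) ⟶ ClSub.quotMod I :=
  (Groth.L29.LocFree.pullbackUnitIso p).hom ≫ ClSub.toSubscheme I

theorem qI_smul_one (p : Y ⟶ Z) (I : Y.IdealSheafData) (W : Y.Opens) (r : Γ(Y, W)) :
    (qI p I).app W (r • one' p W) = (show Γ(I.subscheme, I.subschemeι ⁻¹ᵁ W) from I.subschemeι.app W r) := by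
  rw [qI, Scheme.Modules.Hom.comp_app, ConcreteCategory.comp_apply, pullbackUnitIso_smul_one]
  rfl

instance epi_qI (p : Y ⟶ Z) (I : Y.IdealSheafData) : Epi (qI p I) := by
  haveI := Groth.L21.RR.epi_toSubscheme I
  unfold qI
  infer_instance

theorem qI_eq_zero_iff (p : Y ⟶ Z) (I : Y.IdealSheafData) (W : Y.affineOpens) (r : Γ(Y, W.1)) :
    (qI p I).app W.1 (r • one' p W.1) = 0 ↔ r ∈ I.ideal W := by
  rw [qI_smul_one, ← I.ker_subschemeι_app W]
  rfl

/-- A quotient whose kernel on small affine opens is given by an ideal. -/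
theorem kernel_eq_qI (p : Y ⟶ Z) {F : Y.Modules} (q : (Scheme.Modules.pullback p).obj (Coh.structureModule Z) ⟶ F)
    (I : Y.IdealSheafData)
    (h : ∀ (x : Y) (U : Y.Opens), x ∈ U → ∃ W : Y.affineOpens, x ∈ W.1 ∧ W.1 ≤ U ∧
      ∀ r : Γ(Y, W.1), r • q.app W.1 (one' p W.1) = 0 ↔ r ∈ I.ideal W) :
    kernelSubobject q = kernelSubobject (qI p I) := by
  refine kernel_eq_of_affine q _ fun x U hU => ?_
  obtain ⟨W, hx, hWU, hW⟩ := h x U hU
  refine ⟨W, hx, hWU, fun z => ?_⟩
  obtain ⟨r, rfl⟩ := exists_smul_one p W.1 z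
  rw [Scheme.Modules.Hom.app_smul, hW, qI_eq_zero_iff]

theorem qI_injective (p : Y ⟶ Z) {I J : Y.IdealSheafData} (h : kernelSubobject (qI p I) = kernelSubobject (qI p J)) :
    I = J := by
  refine Scheme.IdealSheafData.ext (funext fun W => Ideal.ext fun r => ?_)
  rw [← qI_eq_zero_iff p I, ← qI_eq_zero_iff p J]
  exact ⟨app_eq_zero_of_kernel_eq _ _ h, app_eq_zero_of_kernel_eq _ _ h.symm⟩

/-- A coherent quotient of the structure sheaf is given by its annihilator. -/
theorem exists_qI (p : Y ⟶ Z) {F : Y.Modules} (q : (Scheme.Modules.pullback p).obj (Coh.structureModule Z) ⟶ F)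
    [Epi q] (hF : Coh.IsCoh F) : ∃ I : Y.IdealSheafData, kernelSubobject q = kernelSubobject (qI p I) := by
  haveI : Coh.IsQCoh (Coh.structureModule Z) :=
    Groth.L21.Extend.isQCoh_of_isInvertible (Groth.L18.Ample.isInvertible_structureModule Z)
  haveI : Coh.IsQCoh ((Scheme.Modules.pullback p).obj (Coh.structureModule Z)) :=
    Groth.L16.AffineBC.isQCoh_pullback p _
  haveI : Coh.IsQCoh F := hF.1
  refine ⟨Groth.L16.SchSupport.annIdeal hF, kernel_eq_qI p q _ fun x U hU => ?_⟩
  obtain ⟨_, ⟨W, hW, rfl⟩, hxW, hWU⟩ := Y.isBasis_affineOpens.exists_subset_of_mem_open hU U.2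
  refine ⟨⟨W, hW⟩, hxW, hWU, fun r => ?_⟩
  rw [Groth.L16.SchSupport.annIdeal_ideal, Module.mem_annihilator]
  refine ⟨fun h0 m => ?_, fun h0 => h0 _⟩
  obtain ⟨z, rfl⟩ := Groth.L16.AffineBC.surjective_app_of_epi q hW m
  obtain ⟨s, rfl⟩ := exists_smul_one p W z
  rw [Scheme.Modules.Hom.app_smul, smul_comm, h0, smul_zero]

/-- Multiples of the generator killed in a base change of a cyclic module. -/
theorem smul_eq_zero_iff_mem_map {R A M N : Type u} [CommRing R] [CommRing A] [Algebra R A] [AddCommGroup M]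
    [Module R M] [AddCommGroup N] [Module R N] [Module A N] [IsScalarTower R A N] (g : M →ₗ[R] N)
    (hb : IsBaseChange A g) (m : M) (I : Ideal R) (hgen : ∀ z : M, ∃ a : R, z = a • m)
    (hI : ∀ a : R, a • m = 0 ↔ a ∈ I) (r : A) : r • g m = 0 ↔ r ∈ I.map (algebraMap R A) := by
  constructor
  · intro hr
    let J := I.map (algebraMap R A)
    have hsurj : Function.Surjective (LinearMap.toSpanSingleton R M m) := fun z => by
      obtain ⟨a, ha⟩ := hgen z; exact ⟨a, ha.symm⟩
    have hker : LinearMap.ker (LinearMap.toSpanSingleton R M m) ≤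
        LinearMap.ker (Algebra.linearMap R (A ⧸ J)) := fun a ha => by
      show algebraMap R (A ⧸ J) a = 0
      exact Ideal.Quotient.eq_zero_iff_mem.2 (Ideal.mem_map_of_mem _ ((hI a).1 ha))
    let h : M →ₗ[R] (A ⧸ J) := (Submodule.liftQ _ (Algebra.linearMap R (A ⧸ J)) hker).comp
        ((LinearMap.toSpanSingleton R M m).quotKerEquivOfSurjective hsurj).symm.toLinearMap
    have hm : h m = 1 := by
      have h2 : ((LinearMap.toSpanSingleton R M m).quotKerEquivOfSurjective hsurj).symm m =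
          Submodule.Quotient.mk 1 := by
        rw [LinearEquiv.symm_apply_eq]
        exact (one_smul _ m).symm
      show Submodule.liftQ _ _ hker (((LinearMap.toSpanSingleton R M m).quotKerEquivOfSurjective hsurj).symm m) = 1
      rw [h2]
      exact map_one (algebraMap R (A ⧸ J))
    have h3 := congrArg (hb.lift h) hr
    rw [map_smul, map_zero, hb.lift_eq, hm, Algebra.smul_def, mul_one] at h3
    exact Ideal.Quotient.eq_zero_iff_mem.1 h3
  · intro hr
    refine Submodule.span_induction (fun y hy => ?_) (zero_smul _ _)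
      (fun y y' _ _ hy hy' => by rw [add_smul, hy, hy', add_zero])
      (fun a y _ hy => by rw [smul_assoc, hy, smul_zero]) hr
    obtain ⟨a, ha, rfl⟩ := hy
    rw [algebraMap_smul, ← map_smul, (hI a).2 ha, map_zero]

/-- Sections killed in a pullback of a cyclic module. -/
theorem smul_pullRes_eq_zero_iff {Y' : Scheme.{u}} (j : Y' ⟶ Y) (G : Y.Modules) [Coh.IsQCoh G] {V : Y.affineOpens}
    {W : Y'.affineOpens} (e : W.1 ≤ j ⁻¹ᵁ V.1) (m : Γ(G, V.1)) (I : Ideal Γ(Y, V.1))
    (hgen : ∀ z : Γ(G, V.1), ∃ a : Γ(Y, V.1), z = a • m) (hI : ∀ a : Γ(Y, V.1), a • m = 0 ↔ a ∈ I)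
    (r : Γ(Y', W.1)) :
    r • Groth.L16.AffineBC.pullRes j G e m = 0 ↔ r ∈ I.map (j.appLE V.1 W.1 e).hom := by
  letI : Algebra Γ(Y, V.1) Γ(Y', W.1) := (j.appLE V.1 W.1 e).hom.toAlgebra
  letI := Module.compHom Γ((Scheme.Modules.pullback j).obj G, W.1) (j.appLE V.1 W.1 e).hom
  haveI : IsScalarTower Γ(Y, V.1) Γ(Y', W.1) Γ((Scheme.Modules.pullback j).obj G, W.1) :=
    IsScalarTower.of_algebraMap_smul fun _ _ => rfl
  exact smul_eq_zero_iff_mem_map (Groth.L16.AffineBC.pullRes j G e)
    (Groth.L16.AffineBC.isBaseChange_pull j G V.2 W.2 e) m I hgen hI r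

variable {X S : Scheme.{u}} (f : X ⟶ S)

/-- The family of quotients of a family of closed subschemes. -/
def toQuot {T : Over S} (I : (PicF.XT f T).IdealSheafData) : Subobject (FGA.ET f (Coh.structureModule X) T) :=
  kernelSubobject (qI (pullback.fst f T.hom) I)

theorem nonempty_cokernel_toQuot {T : Over S} (I : (PicF.XT f T).IdealSheafData) :
    Nonempty (ClSub.quotMod I ≅ cokernel (toQuot f I).arrow) := by
  obtain ⟨d, -⟩ := exists_iso_of_kernel_eq (qI (pullback.fst f T.hom) I) (cokernel.π (toQuot f I).arrow)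
    (kernelSubobject_cokernel_π _).symm
  exact ⟨d⟩

theorem quotPull_toQuot {T T' : Over S} [IsLocallyNoetherian T.left] [IsProper f] (g : T' ⟶ T)
    (I : (PicF.XT f T).IdealSheafData) :
    FGA.quotPull f (Coh.structureModule X) g (toQuot f I) = toQuot f (FGA.hilbPull f g I) := by
  haveI := isLocallyNoetherian_XT (f := f) T
  let j := PicF.XTmap f g
  let p := pullback.fst f T.hom
  let p' := pullback.fst f T'.hom
  haveI : Coh.IsQCoh (ClSub.quotMod I) := (Groth.L21.RR.isCoh_quotMod I).1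
  rw [toQuot, quotPull_kernel, Groth.L02.Hilb.FGAHilb.hilbPull_eq]
  refine kernel_eq_qI p' _ _ fun x U hU => ?_
  obtain ⟨V, W, e, hxW, hWU, -⟩ := Groth.L22.Ideals.exists_affine_pair j x hU (W' := ⊤) trivial
  refine ⟨W, hxW, hWU, fun r => ?_⟩
  rw [Groth.L22.Ideals.comap_ideal j I V W e]
  let m : Γ(ClSub.quotMod I, V.1) := (qI p I).app V.1 (one' p V.1)
  have hm : (pullQ f (Coh.structureModule X) g (qI p I)).app W.1 (one' p' W.1) =
      Groth.L16.AffineBC.pullRes j (ClSub.quotMod I) e m := by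
    have h1 := Groth.L14.Quot.ETiso_pull f (Coh.structureModule X) g ⊤ (show Γ(Coh.structureModule X, ⊤) from (1 : Γ(X, ⊤)))
      (congrArg (fun k => k ⁻¹ᵁ (⊤ : X.Opens)) (FGA.XTmap_fst f g)).le
    have h2 : (FGA.ETiso f (Coh.structureModule X) g).inv.app W.1 (one' p' W.1) =
        rs ((Scheme.Modules.pullback j).obj (FGA.ET f (Coh.structureModule X) T)) e (pull j _ V.1 (one' p V.1)) := by
      have h3 := congrArg (fun z => (FGA.ETiso f (Coh.structureModule X) g).inv.app W.1
        (rs (FGA.ET f (Coh.structureModule X) T') (show W.1 ≤ j ⁻¹ᵁ (p ⁻¹ᵁ ⊤) from le_top) z)) h1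
      simp only [rs_rs] at h3
      refine h3.symm.trans ?_
      rw [← app_rs]
      refine (congr($((FGA.ETiso f (Coh.structureModule X) g).hom_inv_id).app W.1 _)).trans ?_
      refine Eq.trans ?_ (congrArg (rs ((Scheme.Modules.pullback j).obj (FGA.ET f (Coh.structureModule X) T)) e)
        (pull_rs j (FGA.ET f (Coh.structureModule X) T) (show V.1 ≤ p ⁻¹ᵁ ⊤ from le_top)
          (pull p (Coh.structureModule X) ⊤ (show Γ(Coh.structureModule X, ⊤) from (1 : Γ(X, ⊤))))))
      rw [rs_rs]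
      rfl
    rw [pullQ, Scheme.Modules.Hom.comp_app, ConcreteCategory.comp_apply, h2, app_rs,
      Groth.L17.Approx.app_pull]
    rfl
  rw [hm]
  refine smul_pullRes_eq_zero_iff j (ClSub.quotMod I) e m (I.ideal V) (fun z => ?_) (fun a => ?_) r
  · obtain ⟨a, ha⟩ := I.subschemeι.app_surjective V.1 V.2 z
    exact ⟨a, ha.symm.trans ((qI_smul_one p I V.1 a).symm.trans (Scheme.Modules.Hom.app_smul _ _ _))⟩
  · rw [← qI_eq_zero_iff p I V a, Scheme.Modules.Hom.app_smul]

theorem isFlatOverAt_push_iff {T' : Scheme.{u}} (i : Z ⟶ Y) [IsClosedImmersion i] (g : Y ⟶ T') (z : Z) :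
    FlatMod.IsFlatOverAt g ((Scheme.Modules.pushforward i).obj (Coh.structureModule Z)) (i z) ↔
      ((i ≫ g).stalkMap z).hom.Flat := by
  let c : ((Scheme.Modules.pushforward i).obj (Coh.structureModule Z)).presheaf.stalk (i z) ≃+
      (Coh.structureModule Z).presheaf.stalk z :=
    AddEquiv.ofBijective (Groth.L17.ClosedPush.c₀ i (Coh.structureModule Z) z) (Groth.L17.ClosedPush.c₀_bijective i _ z)
  have hc : ∀ (b : Y.presheaf.stalk (i z)) (v), c (b • v) = (i.stalkMap z).hom b • c v := fun b v =>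
    Groth.L17.ClosedPush.c₀_smul i (Coh.structureModule Z) z b v
  letI : Algebra (T'.presheaf.stalk (g (i z))) (Z.presheaf.stalk z) :=
    ((i.stalkMap z).hom.comp (g.stalkMap (i z)).hom).toAlgebra
  letI := FlatMod.moduleStalkOver g ((Scheme.Modules.pushforward i).obj (Coh.structureModule Z)) (i z)
  let e : ((Scheme.Modules.pushforward i).obj (Coh.structureModule Z)).presheaf.stalk (i z)
      ≃ₗ[T'.presheaf.stalk (g (i z))] Z.presheaf.stalk z :=
    { c.trans (Groth.L15.Ref.strE z).symm.toAddEquiv with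
      map_smul' := fun a v => by
        show (Groth.L15.Ref.strE z).symm (c ((g.stalkMap (i z)).hom a • v)) =
          ((i.stalkMap z).hom ((g.stalkMap (i z)).hom a)) * (Groth.L15.Ref.strE z).symm (c v)
        rw [hc, map_smul, smul_eq_mul] }
  rw [show ((i ≫ g).stalkMap z).hom = (i.stalkMap z).hom.comp (g.stalkMap (i z)).hom by
    rw [Scheme.Hom.stalkMap_comp]; rfl]
  constructor
  · intro h
    haveI : Module.Flat (T'.presheaf.stalk (g (i z)))
        (((Scheme.Modules.pushforward i).obj (Coh.structureModule Z)).presheaf.stalk (i z)) := h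
    have hflat : Module.Flat (T'.presheaf.stalk (g (i z))) (Z.presheaf.stalk z) := Module.Flat.of_linearEquiv e.symm
    exact hflat
  · intro h
    haveI : Module.Flat (T'.presheaf.stalk (g (i z))) (Z.presheaf.stalk z) := h
    exact (Module.Flat.of_linearEquiv e : Module.Flat (T'.presheaf.stalk (g (i z)))
      (((Scheme.Modules.pushforward i).obj (Coh.structureModule Z)).presheaf.stalk (i z)))

theorem toQuot_mem_iff {T : Over S} [IsLocallyNoetherian T.left] [IsProper f] (I : (PicF.XT f T).IdealSheafData) :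
    (Coh.IsCoh (cokernel (toQuot f I).arrow) ∧ FlatMod.IsFlatOver (PicF.XTproj f T) (cokernel (toQuot f I).arrow)) ↔
      (IsProper (I.subschemeι ≫ PicF.XTproj f T) ∧ Flat (I.subschemeι ≫ PicF.XTproj f T)) := by
  haveI := isLocallyNoetherian_XT (f := f) T
  haveI : IsProper (PicF.XTproj f T) := MorphismProperty.pullback_snd (P := @IsProper) _ _ inferInstance
  obtain ⟨e⟩ := nonempty_cokernel_toQuot f I
  constructor
  · intro h
    refine ⟨inferInstance, (Flat.iff_flat_stalkMap _).2 fun z => ?_⟩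
    exact (isFlatOverAt_push_iff I.subschemeι (PicF.XTproj f T) z).1
      (Groth.L29.DC.RelBC.isFlatOver_of_iso _ e.symm h.2 _)
  · intro h
    refine ⟨Groth.L14.Quot.isCoh_of_iso e (Groth.L21.RR.isCoh_quotMod I),
      Groth.L29.DC.RelBC.isFlatOver_of_iso _ e fun x => ?_⟩
    by_cases hx : x ∈ Set.range I.subschemeι
    · obtain ⟨z, rfl⟩ := hx
      exact (isFlatOverAt_push_iff I.subschemeι (PicF.XTproj f T) z).2 ((Flat.iff_flat_stalkMap _).1 h.2 z)
    · haveI : Subsingleton ((ClSub.quotMod I).presheaf.stalk x) :=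
        Groth.L17.ClosedPush.subsingleton_stalk_push I.subschemeι (Coh.structureModule I.subscheme) hx
      letI := FlatMod.moduleStalkOver (PicF.XTproj f T) (ClSub.quotMod I) x
      exact (inferInstance : Module.Flat (T.left.presheaf.stalk (PicF.XTproj f T x)) ((ClSub.quotMod I).presheaf.stalk x))

/-- A scheme of quotients of the structure sheaf is a Hilbert scheme. -/
theorem exists_hilb [IsProper f] {Q : Over S} (K : FGA.QuotSet f (Coh.structureModule X) Q)
    (hK : FGA.QuotRepresentedBy f (Coh.structureModule X) Q K) :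
    ∃ Z : FGA.HilbSet f Q, FGA.HilbRepresentedBy f Q Z := by
  haveI := hK.1
  obtain ⟨I, hI⟩ := exists_qI (pullback.fst f Q.hom) (cokernel.π K.1.arrow) K.2.1
  rw [kernelSubobject_cokernel_π] at hI
  have hI' : toQuot f I = K.1 := hI.symm
  refine ⟨⟨I, (toQuot_mem_iff f I).1 (by rw [hI']; exact K.2)⟩, hK.1, fun T _ Y => ?_⟩
  obtain ⟨g, hg, huniq⟩ := hK.2 T ⟨toQuot f Y.1, (toQuot_mem_iff f Y.1).2 Y.2⟩
  refine ⟨g, qI_injective (pullback.fst f T.hom) ?_, fun g' hg' => huniq g' ?_⟩
  · show toQuot f _ = toQuot f Y.1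
    rw [← quotPull_toQuot, hI']
    exact hg
  · show FGA.quotPull f _ g' K.1 = toQuot f Y.1
    rw [← hI', quotPull_toQuot]
    exact congrArg (toQuot f) hg'

end Groth.L02.Quot.HilbQ
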