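import Groth.Agent.L16.QcqsPush
import Groth.Agent.L16.CohSupport
import Groth.Agent.L17.Approx.Pull
import Groth.Agent.L29.LocFree
import Groth.Agent.L16.Rees.RelVanish
import Groth.Agent.L16.Acc
import Mathlib.RingTheory.Flat.TorsionFree
import Mathlib.AlgebraicGeometry.Morphisms.AffineAnd
import Mathlib.RingTheory.DiscreteValuationRing.Basic

/-!
# Flat extension of a quotient over a discrete valuation ring
-/

set_option autoImplicit false
set_option linter.style.haveILetI false
set_option linter.unusedSectionVars false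
set_option backward.isDefEq.respectTransparency false

universe u

open CategoryTheory CategoryTheory.Limits AlgebraicGeometry TopologicalSpace Opposite

noncomputable section

namespace Groth.L02.Quot.DvrExt

variable (R : Type u) [CommRing R] [IsDomain R] [IsDiscreteValuationRing R]

/-- The generic point of a discrete valuation ring is open. -/
theorem isOpenImmersion_generic :
    IsOpenImmersion (Spec.map (CommRingCat.ofHom (algebraMap R (FractionRing R)))) := by
  obtain ⟨ϖ, hϖ⟩ := IsDiscreteValuationRing.exists_irreducible R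
  haveI : IsLocalization.Away ϖ (FractionRing R) := by
    refine IsLocalization.Away.mk ϖ ?_ (fun z => ?_) (fun a b h => ⟨0, by
      rw [IsFractionRing.injective R (FractionRing R) h]⟩)
    · exact IsUnit.mk0 _ fun h => hϖ.ne_zero (IsFractionRing.injective R (FractionRing R) (by rw [h, map_zero]))
    · obtain ⟨a, s, hs, rfl⟩ := IsFractionRing.div_surjective (A := R) z
      obtain ⟨k, v, hv⟩ := IsDiscreteValuationRing.eq_unit_mul_pow_irreducible (nonZeroDivisors.ne_zero hs) hϖ
      refine ⟨k, a * ↑v⁻¹, ?_⟩
      have hs0 : algebraMap R (FractionRing R) s ≠ 0 := fun h =>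
        nonZeroDivisors.ne_zero hs (IsFractionRing.injective R (FractionRing R) (by rw [h, map_zero]))
      rw [div_mul_eq_mul_div, div_eq_iff hs0, ← map_pow, ← map_mul, ← map_mul, hv]
      congr 1
      linear_combination (-(a * ϖ ^ k)) * v.inv_mul
  exact IsOpenImmersion.of_isLocalization (S := FractionRing R) ϖ

variable {R} {Y Y' : Scheme.{u}} (f : Y ⟶ Spec (CommRingCat.of R))
  {j : Y' ⟶ Y} {h : Y' ⟶ Spec (CommRingCat.of (FractionRing R))}
  (sq : IsPullback j h f (Spec.map (CommRingCat.ofHom (algebraMap R (FractionRing R)))))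

include sq

/-- A quotient of the generic fibre extends, flatly, as a quotient of the same coherent module. -/
theorem exists_flat_extension [IsLocallyNoetherian Y] [IsOpenImmersion j] {E : Y.Modules} (hE : Coh.IsCoh E)
    {F : Y'.Modules} (hF : Coh.IsQCoh F) (q : (Scheme.Modules.pullback j).obj E ⟶ F) [Epi q] :
    ∃ (F' : Y.Modules) (q' : E ⟶ F') (e : (Scheme.Modules.pullback j).obj F' ≅ F),
      Coh.IsCoh F' ∧ Epi q' ∧ FlatMod.IsFlatOver f F' ∧ (Scheme.Modules.pullback j).map q' ≫ e.hom = q := by
  haveI := hF
  haveI : IsAffineHom j := MorphismProperty.of_isPullback sq.flip inferInstance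
  haveI : Coh.IsQCoh ((Scheme.Modules.pushforward j).obj F) := Groth.L16.QcqsPush.isQCoh_push F j
  let adj := Scheme.Modules.pullbackPushforwardAdjunction j
  let α : E ⟶ (Scheme.Modules.pushforward j).obj F := adj.homEquiv E F q
  let ι : Abelian.image α ⟶ (Scheme.Modules.pushforward j).obj F := Abelian.image.ι α
  have hcoh : Coh.IsCoh (Abelian.image α) := Groth.L16.CohSupport.isCoh_image hE α
  haveI := hcoh.1
  haveI hcounit : IsIso (adj.counit.app F) := by
    haveI : (Scheme.Modules.pushforward j).Full := inferInstance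
    haveI : (Scheme.Modules.pushforward j).Faithful := inferInstance
    haveI := adj.counit_isIso_of_R_fully_faithful
    infer_instance
  haveI hmono : Mono ((Scheme.Modules.pullback j).map ι) := by
    rw [← NatIso.naturality_1 (Scheme.Modules.restrictFunctorIsoPullback j) ι]
    haveI : Mono ((Scheme.Modules.restrictFunctor j).map ι) := inferInstance
    infer_instance
  let c : (Scheme.Modules.pullback j).obj (Abelian.image α) ⟶ F := (Scheme.Modules.pullback j).map ι ≫ adj.counit.app F
  have hfac : (Scheme.Modules.pullback j).map (Abelian.factorThruImage α) ≫ c = q := by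
    rw [← Category.assoc, ← Functor.map_comp, Abelian.image.fac]
    exact (adj.homEquiv_counit (g := α)).symm.trans ((adj.homEquiv E F).symm_apply_apply q)
  haveI : Mono c := mono_comp _ _
  haveI : Epi c := epi_of_epi_fac hfac
  haveI : IsIso c := isIso_of_mono_of_epi c
  refine ⟨Abelian.image α, Abelian.factorThruImage α, asIso c, hcoh, inferInstance, ?_, hfac⟩
  refine Groth.L17.Approx.isFlatOver_of_flat_sec f _ (fun U : Y.affineOpens => U.1) (fun U => U.2)
    (fun y => ?_) fun U => ?_
  · obtain ⟨_, ⟨V, hV, rfl⟩, hyV, -⟩ :=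
      Y.isBasis_affineOpens.exists_subset_of_mem_open (Set.mem_univ y) isOpen_univ
    exact ⟨⟨V, hV⟩, hyV⟩
  · rw [IsDedekindDomain.flat_iff_torsion_eq_bot, Submodule.eq_bot_iff]
    intro s hs
    obtain ⟨⟨a, ha⟩, has⟩ := hs
    have hu : IsUnit (j.app U.1 (Groth.L17.BC.act (Coh.toGlobal f) U.1 a)) := by
      have e : j.app U.1 (Groth.L17.BC.act (Coh.toGlobal f) U.1 a) =
          Groth.L17.BC.act (Coh.toGlobal h) (j ⁻¹ᵁ U.1) (algebraMap R (FractionRing R) a) := by
        refine (ConcreteCategory.congr_hom (j.naturality (homOfLE (le_top : U.1 ≤ ⊤)).op) (Coh.toGlobal f a)).trans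
          (congrArg (Y'.presheaf.map (homOfLE (le_top : j ⁻¹ᵁ U.1 ≤ ⊤)).op) ?_)
        have hn := ConcreteCategory.congr_hom (Scheme.ΓSpecIso_inv_naturality
          (CommRingCat.ofHom (algebraMap R (FractionRing R)))) a
        have hw : (f.appTop ≫ j.appTop) = (Spec.map (CommRingCat.ofHom (algebraMap R (FractionRing R)))).appTop ≫ h.appTop := by
          rw [← Scheme.Hom.comp_appTop, ← Scheme.Hom.comp_appTop, sq.w]
        refine (ConcreteCategory.congr_hom hw ((Scheme.ΓSpecIso (CommRingCat.of R)).inv a)).trans ?_
        exact congrArg h.appTop hn.symm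
      rw [e]
      exact (IsUnit.mk0 _ fun h0 => nonZeroDivisors.ne_zero ha
        (IsFractionRing.injective R (FractionRing R) (by rw [h0, map_zero]))).map _
    apply Groth.L16.Acc.app_injective ι U.1
    refine Eq.trans ?_ (map_zero (ι.app U.1).hom).symm
    let t : Γ(F, j ⁻¹ᵁ U.1) := ι.app U.1 s
    have h1 : j.app U.1 (Groth.L17.BC.act (Coh.toGlobal f) U.1 a) • t = 0 := by
      refine (Scheme.Modules.Hom.app_smul ι (Groth.L17.BC.act (Coh.toGlobal f) U.1 a) s).symm.trans ?_
      exact (congrArg (ι.app U.1) has).trans (map_zero _)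
    show t = 0
    exact hu.smul_eq_zero.1 h1

end Groth.L02.Quot.DvrExt
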