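import Groth.Agent.L02.Quot.Core
import Groth.Agent.L02.Quot.DvrExt
import Groth.Agent.L19.MonoValuative
import Mathlib.AlgebraicGeometry.Morphisms.Separated
import Mathlib.AlgebraicGeometry.Morphisms.ClosedImmersion

/-!
# The scheme of quotients is closed in projective space
-/

set_option autoImplicit false
set_option linter.style.haveILetI false
set_option linter.unusedSectionVars false
set_option backward.isDefEq.respectTransparency false
set_option backward.isDefEq.respectTransparency.types false

universe u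

open CategoryTheory CategoryTheory.Limits AlgebraicGeometry TopologicalSpace Opposite IsLocalRing

noncomputable section

namespace Groth.L02.Quot

open Groth.L17.Strat (fib)

variable {X S : Scheme.{u}} (f : X ⟶ S) (L E : X.Modules) (Φ : Polynomial ℚ)

/-- Base change of the Hilbert functions of cokernels. -/
theorem fib_quotPull [IsProper f] (hL : RelAmple.IsRelAmple f L) {T T' : Over S} [IsLocallyNoetherian T'.left]
    (g : T' ⟶ T) (K : FGA.QuotSet f E T) (t : T'.left) (n : ℕ) :
    fib (PicF.XTproj f T') (FGA.ET f L T') (cokernel (FGA.quotPull f E g K.1).arrow) t n =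
      fib (PicF.XTproj f T) (FGA.ET f L T) (cokernel K.1.arrow) (g.left t) n := by
  haveI : IsProper (PicF.XTproj f T) := MorphismProperty.pullback_snd (P := @IsProper) _ _ inferInstance
  obtain ⟨eK⟩ := Groth.L14.Quot.nonempty_cokernel_iso f E g K.1
  exact Groth.L17.Strat.fib_baseChange (PicF.XTproj f T) (FGA.ET f L T) _
    (Groth.L18.Ample.isInvertible_pullback _ (Groth.L17.Strat.isInvertible_of_isRelAmple hL))
    (fun s => Groth.L19.LimMod.isCoh_pullback' _ K.2.1) (Groth.L14.Quot.isPullback_XTmap f g) _ _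
    (FGA.ETiso f L g) eK t n

theorem kernelSubobject_congr {Y : Scheme.{u}} {A B : Y.Modules} {a b : A ⟶ B} (h : a = b) :
    kernelSubobject a = kernelSubobject b := by subst h; rfl

/-- Families of quotients over discrete valuation rings extend, hence the immersion is closed. -/
theorem isClosedImmersion_of_universal [IsProper f] (hL : RelAmple.IsRelAmple f L) (hE : Coh.IsCoh E)
    {Q P : Over S} [IsSeparated P.hom] [IsLocallyNoetherian P.left] (c : Q ⟶ P) [IsImmersion c.left] [QuasiCompact c.left]
    (K : FGA.QuotSet f E Q) (hK : HasPoly f L Φ Q (cokernel K.1.arrow))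
    (huniv : ∀ (T : Over S) [IsLocallyNoetherian T.left] (K' : FGA.QuotSet f E T),
      HasPoly f L Φ T (cokernel K'.1.arrow) → ∃! g : T ⟶ Q, FGA.quotPull f E g K.1 = K'.1) :
    IsClosedImmersion c.left := by
  suffices h : ∀ (w : Q.left) (y : P.left), c.left w ⤳ y → y ∈ Set.range c.left by
    have hsp : SpecializingMap c.left := fun w y hy => by
      obtain ⟨w', rfl⟩ := h w y hy
      exact ⟨w', c.left.isEmbedding.isInducing.specializes_iff.1 hy, rfl⟩
    exact IsClosedImmersion.of_isPreimmersion c.left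
      ((isClosedMap_iff_specializingMap c.left).2 hsp).isClosed_range
  intro w y hy
  by_cases hne : c.left w = y
  · exact ⟨w, hne⟩
  obtain ⟨V, t, hV, ht₀, ht₁⟩ := Groth.L19.exists_dvr_through hy hne
  haveI := hV
  let γ : Spec (CommRingCat.of (FractionRing V)) ⟶ Spec (CommRingCat.of V) :=
    Spec.map (CommRingCat.ofHom (algebraMap V (FractionRing V)))
  haveI : IsDominant γ := ⟨by
    show DenseRange (PrimeSpectrum.comap (algebraMap V (FractionRing V)))
    rw [PrimeSpectrum.denseRange_comap_iff_ker_le_nilRadical,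
      (RingHom.injective_iff_ker_eq_bot _).1 (IsFractionRing.injective V (FractionRing V))]
    exact bot_le⟩
  have hpt : (γ ≫ t) (closedPoint (FractionRing V)) = c.left w := by
    refine Eq.trans ?_ ht₁
    rw [Scheme.Hom.comp_apply, Scheme.Hom.comp_apply]
    refine congrArg (fun z => t z) ?_
    refine PrimeSpectrum.ext ?_
    show (maximalIdeal (FractionRing V)).comap (algebraMap V (FractionRing V)) =
      (maximalIdeal _).comap V.subtype
    rw [isField_iff_maximalIdeal_eq.mp (Field.toIsField _), isField_iff_maximalIdeal_eq.mp (Field.toIsField _),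
      ← RingHom.ker_eq_comap_bot, ← RingHom.ker_eq_comap_bot,
      (RingHom.injective_iff_ker_eq_bot _).1 (IsFractionRing.injective V (FractionRing V)),
      (RingHom.injective_iff_ker_eq_bot V.subtype).1 Subtype.val_injective]
  obtain ⟨l, hl⟩ := Groth.L19.exists_lift_point c.left (γ ≫ t) ⟨w, hpt.symm⟩
  let TR : Over S := Over.mk (t ≫ P.hom)
  let TK : Over S := Over.mk (γ ≫ t ≫ P.hom)
  let jT : TK ⟶ TR := Over.homMk γ
  let gK : TK ⟶ Q := Over.homMk l (by
    show l ≫ Q.hom = γ ≫ t ≫ P.hom
    rw [← Over.w c, reassoc_of% hl])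
  haveI : IsLocallyNoetherian TR.left := inferInstanceAs (IsLocallyNoetherian (Spec (CommRingCat.of V)))
  haveI : AlgebraicGeometry.IsReduced TR.left := inferInstanceAs (AlgebraicGeometry.IsReduced (Spec (CommRingCat.of V)))
  haveI : IsLocallyNoetherian TK.left := inferInstanceAs (IsLocallyNoetherian (Spec (CommRingCat.of (FractionRing V))))
  haveI := isLocallyNoetherian_XT (f := f) TR
  haveI := isLocallyNoetherian_XT (f := f) TK
  let KK : FGA.QuotSet f E TK := ⟨FGA.quotPull f E gK K.1, Groth.L14.Quot.quotPull_mem f E gK K⟩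
  have hKK : HasPoly f L Φ TK (cokernel KK.1.arrow) := fun s n => by
    rw [fib_quotPull f L E hL gK K s n]; exact hK _ n
  let j := PicF.XTmap f jT
  have sq : IsPullback j (PicF.XTproj f TK) (PicF.XTproj f TR) γ := Groth.L14.Quot.isPullback_XTmap f jT
  haveI := DvrExt.isOpenImmersion_generic V
  haveI : IsOpenImmersion j := MorphismProperty.of_isPullback sq.flip inferInstance
  haveI : Epi (cokernel.π KK.1.arrow) := inferInstance
  obtain ⟨F', q', e, hF', hq', hfl, he⟩ := DvrExt.exists_flat_extension (PicF.XTproj f TR) sq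
    (Groth.L19.LimMod.isCoh_pullback' (pullback.fst f TR.hom) hE) KK.2.1.1
    ((FGA.ETiso f E jT).hom ≫ cokernel.π KK.1.arrow)
  haveI := hq'
  obtain ⟨d, -⟩ := exists_iso_of_kernel_eq q' (cokernel.π (kernelSubobject q').arrow) (kernelSubobject_cokernel_π _).symm
  let KR : FGA.QuotSet f E TR := ⟨kernelSubobject q', Groth.L16.CohSupport.isCoh_of_iso d hF',
    Groth.L29.DC.RelBC.isFlatOver_of_iso _ d hfl⟩
  have hres : FGA.quotPull f E jT KR.1 = KK.1 := by
    show FGA.quotPull f E jT (kernelSubobject q') = _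
    rw [quotPull_kernel, ← kernelSubobject_comp_mono (pullQ f E jT q') e.hom]
    have h1 : pullQ f E jT q' ≫ e.hom = cokernel.π KK.1.arrow := by
      rw [pullQ, Category.assoc, he, Iso.inv_hom_id_assoc]
    exact (kernelSubobject_congr h1).trans (kernelSubobject_cokernel_π KK.1)
  have hgenpt : ∀ n, (fib (PicF.XTproj f TR) (FGA.ET f L TR) (cokernel KR.1.arrow) (γ (closedPoint (FractionRing V))) n : ℚ) =
      Φ.eval (n : ℚ) := fun n => by
    refine Eq.trans ?_ (hKK (closedPoint (FractionRing V)) n)
    rw [← hres]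
    exact congrArg (Int.cast (R := ℚ)) (fib_quotPull f L E hL jT KR _ n).symm
  have hKR : HasPoly f L Φ TR (cokernel KR.1.arrow) := by
    haveI : IsProper (PicF.XTproj f TR) := MorphismProperty.pullback_snd (P := @IsProper) _ _ inferInstance
    have hLR : RelAmple.IsRelAmple (PicF.XTproj f TR) (FGA.ET f L TR) := Groth.L18.Ample.isRelAmple_baseChange f TR.hom hL
    obtain ⟨U, hU0, hU⟩ := Groth.L17.Strat.fib_locallyConstant_of_flat (PicF.XTproj f TR) (FGA.ET f L TR)
      (cokernel KR.1.arrow) (Groth.L17.Strat.isInvertible_of_isRelAmple hLR) KR.2.1 hLR KR.2.2 (closedPoint V)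
    have hall : ∀ s : TR.left, s ∈ U := fun s => (specializes_closedPoint s).mem_open U.2 hU0
    intro s n
    rw [hU s (hall s) n, ← hU (γ (closedPoint (FractionRing V))) (hall _) n]
    exact hgenpt n
  obtain ⟨gR, hgR, -⟩ := huniv TR KR hKR
  have hgen : jT ≫ gR = gK := (huniv TK KK hKK).unique
    (by rw [Groth.L14.Quot.quotPull_comp, hgR, hres]) rfl
  have ht : (gR ≫ c).left = t := by
    refine ext_of_isDominant_of_isSeparated P.hom (Over.w (gR ≫ c)) γ ?_
    have := congrArg (fun k => (k ≫ c).left) hgen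
    exact this.trans hl
  exact ⟨gR.left (closedPoint V), by rw [← Scheme.Hom.comp_apply, ← ht₀, ← ht]; rfl⟩

variable {N ρ r R : ℕ} (ε : Fin N → Γ(E, ⊤))

/-- The scheme of quotients with given Hilbert polynomial is closed in projective space. -/
theorem exists_quot_closed (e : Fin (R + 1) ≃ Pl.Sub N ρ) [IsNoetherian S] [IsProper f]
    (hL : RelAmple.IsRelAmple f L) (hE : Coh.IsCoh E) (hrρ : r + ρ = N) (H : FieldHyp f L E ε Φ r) :
    ∃ (Q : Over S) (c : Q.left ⟶ CohB1.ProjSpaceOver R S) (K : FGA.QuotSet f E Q),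
      IsLocallyNoetherian Q.left ∧ IsClosedImmersion c ∧ c ≫ CohB1.ProjSpaceOver.toBase R S = Q.hom ∧
      HasPoly f L Φ Q (cokernel K.1.arrow) ∧
      ∀ (T : Over S) [IsLocallyNoetherian T.left] (K' : FGA.QuotSet f E T),
        HasPoly f L Φ T (cokernel K'.1.arrow) → ∃! g : T ⟶ Q, FGA.quotPull f E g K.1 = K'.1 := by
  obtain ⟨Q, c, K, hQ, hc, hqc, hK, huniv⟩ := exists_quot f L E ε Φ e hL hE hrρ H
  haveI := hc; haveI := hqc
  let P : Over S := Over.mk (CohB1.ProjSpaceOver.toBase R S)
  haveI hπ : IsProper P.hom := MorphismProperty.pullback_snd (P := @IsProper) _ _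
    (inferInstanceAs (IsProper (CohB1.ProjSpace.toSpec R (ULift.{u} ℤ))))
  haveI : IsLocallyNoetherian P.left := LocallyOfFiniteType.isLocallyNoetherian P.hom
  exact ⟨Q, c.left, K, hQ, isClosedImmersion_of_universal f L E Φ hL hE (P := P) c K hK huniv, Over.w c, hK, huniv⟩

end Groth.L02.Quot
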