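import Groth.Agent.L02.Quot.Glue
import Groth.Agent.L02.Quot.Closed
import Mathlib.Algebra.Polynomial.Roots
import Mathlib.AlgebraicGeometry.Limits
import Mathlib.AlgebraicGeometry.Gluing

/-!
# The scheme of quotients as the disjoint union over the Hilbert polynomials
-/

set_option autoImplicit false
set_option linter.style.haveILetI false
set_option linter.unusedSectionVars false
set_option backward.isDefEq.respectTransparency false
set_option backward.isDefEq.respectTransparency.types false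

universe u

open CategoryTheory CategoryTheory.Limits AlgebraicGeometry TopologicalSpace Opposite

noncomputable section

namespace Groth.L02.Quot

open Groth.L17.Strat (fib)

variable {X S : Scheme.{u}} (f : X ⟶ S) (L E : X.Modules)
  (Qf : ULift.{u} (Polynomial ℚ) → Over S)

/-- The disjoint union of the pieces. -/
def total : Over S := Over.mk (Limits.Sigma.desc fun a => (Qf a).hom)

/-- The inclusion of a piece. -/
def totι (a : ULift.{u} (Polynomial ℚ)) : Qf a ⟶ total Qf :=
  Over.homMk (Limits.Sigma.ι (fun a => (Qf a).left) a) (Limits.Sigma.ι_desc _ a)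

instance (a : ULift.{u} (Polynomial ℚ)) : IsOpenImmersion (totι Qf a).left :=
  inferInstanceAs (IsOpenImmersion (Limits.Sigma.ι (fun a => (Qf a).left) a))

theorem totι_cover (t : (total Qf).left) : ∃ a y, (totι Qf a).left y = t :=
  by
  obtain ⟨a, y, hy⟩ := (sigmaOpenCover (fun a => (Qf a).left)).exists_eq t
  exact ⟨a, y, hy⟩

theorem totι_disjoint (a b : ULift.{u} (Polynomial ℚ)) (y : (Qf b).left) (x : (Qf a).left) (h : a ≠ b) :
    (totι Qf b).left y ≠ (totι Qf a).left x := fun he => by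
  have hd := disjoint_opensRange_sigmaι (fun a => (Qf a).left) a b h
  exact (hd.le_bot (show (totι Qf a).left x ∈ _ ⊓ _ from ⟨⟨x, rfl⟩, ⟨y, he⟩⟩) : False)

theorem poly_unique {a b : Polynomial ℚ} (h : ∀ j : ℕ, a.eval (j : ℚ) = b.eval (j : ℚ)) : a = b :=
  Polynomial.eq_of_infinite_eval_eq _ _ (Set.infinite_of_injective_forall_mem Nat.cast_injective h)

variable [IsProper f]

theorem isOpen_poly (hL : RelAmple.IsRelAmple f L) {T : Over S} [IsLocallyNoetherian T.left] (K : FGA.QuotSet f E T)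
    (Φ : Polynomial ℚ) :
    IsOpen {t : T.left | ∀ j : ℕ,
      (fib (PicF.XTproj f T) (FGA.ET f L T) (cokernel K.1.arrow) t j : ℚ) = Φ.eval (j : ℚ)} := by
  haveI : IsProper (PicF.XTproj f T) := MorphismProperty.pullback_snd (P := @IsProper) _ _ inferInstance
  haveI := isLocallyNoetherian_XT (f := f) T
  have hLT : RelAmple.IsRelAmple (PicF.XTproj f T) (FGA.ET f L T) := Groth.L18.Ample.isRelAmple_baseChange f T.hom hL
  rw [isOpen_iff_forall_mem_open]
  intro t ht
  obtain ⟨U, htU, hU⟩ := Groth.L17.Strat.fib_locallyConstant_of_flat (PicF.XTproj f T) (FGA.ET f L T)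
    (cokernel K.1.arrow) (Groth.L17.Strat.isInvertible_of_isRelAmple hLT) K.2.1 hLT K.2.2 t
  exact ⟨U, fun s hs j => by rw [hU s hs j]; exact ht j, U.2, htU⟩

theorem exists_poly_at (hL : RelAmple.IsRelAmple f L) {T : Over S} [IsLocallyNoetherian T.left] (K : FGA.QuotSet f E T)
    (t : T.left) : ∃ Φ : Polynomial ℚ, ∀ j : ℕ,
      (fib (PicF.XTproj f T) (FGA.ET f L T) (cokernel K.1.arrow) t j : ℚ) = Φ.eval (j : ℚ) := by
  haveI : IsProper (PicF.XTproj f T) := MorphismProperty.pullback_snd (P := @IsProper) _ _ inferInstance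
  haveI := isLocallyNoetherian_XT (f := f) T
  exact Groth.L17.Strat.exists_fib_poly' (PicF.XTproj f T) (FGA.ET f L T) _
    (Groth.L18.Ample.isInvertible_pullback _ (Groth.L17.Strat.isInvertible_of_isRelAmple hL))
    (Groth.L15.Ref.isFP_of_isCoh K.2.1) t

/-- The disjoint union of the pieces represents the functor of quotients. -/
theorem exists_total (hL : RelAmple.IsRelAmple f L) (Kf : ∀ a, FGA.QuotSet f E (Qf a))
    (hN : ∀ a, IsLocallyNoetherian (Qf a).left)
    (hP : ∀ a, HasPoly f L a.down (Qf a) (cokernel (Kf a).1.arrow))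
    (hu : ∀ (a) (T : Over S) [IsLocallyNoetherian T.left] (K' : FGA.QuotSet f E T),
      HasPoly f L a.down T (cokernel K'.1.arrow) → ∃! g : T ⟶ Qf a, FGA.quotPull f E g (Kf a).1 = K'.1) :
    ∃ K : FGA.QuotSet f E (total Qf), FGA.QuotRepresentedBy f E (total Qf) K := by
  haveI hQ : IsLocallyNoetherian (total Qf).left :=
    haveI : ∀ i, IsLocallyNoetherian ((sigmaOpenCover fun a => (Qf a).left).X i) := hN
    (isLocallyNoetherian_iff_openCover (sigmaOpenCover fun a => (Qf a).left)).2 inferInstance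
  obtain ⟨K₀, hK₀⟩ := Glue.exists_glue f E (totι Qf) (totι_disjoint Qf) fun a => (Kf a).1
  let K : FGA.QuotSet f E (total Qf) :=
    ⟨K₀, Glue.mem_of_cover f E (totι Qf) (totι_cover Qf) K₀ fun a => by rw [hK₀ a]; exact (Kf a).2⟩
  refine ⟨K, hQ, fun T _ K' => ?_⟩
  choose Φt hΦt using exists_poly_at f L E hL K'
  let U : ULift.{u} (Polynomial ℚ) → T.left.Opens := fun a =>
    ⟨_, isOpen_poly f L E hL K' a.down⟩
  have hmem : ∀ a t, t ∈ U a ↔ Φt t = a.down := fun a t =>
    ⟨fun h => poly_unique fun j => (hΦt t j).symm.trans (h j), fun h j => h ▸ hΦt t j⟩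
  let Ta : ULift.{u} (Polynomial ℚ) → Over S := fun a => Over.mk ((U a).ι ≫ T.hom)
  let γ : ∀ a, Ta a ⟶ T := fun a => Over.homMk (U a).ι rfl
  haveI : ∀ a, IsOpenImmersion (γ a).left := fun a => inferInstanceAs (IsOpenImmersion (U a).ι)
  haveI : ∀ a, IsLocallyNoetherian (Ta a).left := fun a => LocallyOfFiniteType.isLocallyNoetherian (U a).ι
  have hcov : ∀ t : T.left, ∃ a y, (γ a).left y = t := fun t =>
    ⟨⟨Φt t⟩, ⟨t, (hmem _ t).2 rfl⟩, rfl⟩
  have hKa : ∀ a, HasPoly f L a.down (Ta a) (cokernel (FGA.quotPull f E (γ a) K'.1).arrow) := fun a y j => by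
    rw [fib_quotPull f L E hL (γ a) K' y j]
    exact y.2 j
  choose ga hga huga using fun a => hu a (Ta a) ⟨_, Groth.L14.Quot.quotPull_mem f E (γ a) K'⟩ (hKa a)
  -- glue
  let 𝒰 : T.left.OpenCover := T.left.openCoverOfIsOpenCover U (TopologicalSpace.IsOpenCover.mk
    (eq_top_iff.2 fun t _ => Opens.mem_iSup.2 ⟨⟨Φt t⟩, (hmem _ t).2 rfl⟩))
  let h₀ : T.left ⟶ (total Qf).left := 𝒰.glueMorphisms (fun a => (ga a ≫ totι Qf a).left) fun a b => by
    by_cases hab : a = b
    · subst hab
      exact congrArg (· ≫ _) ((cancel_mono (U a).ι).1 (pullback.condition (f := (U a).ι) (g := (U a).ι)))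
    · haveI : IsEmpty (pullback (𝒰.f a) (𝒰.f b) : Scheme.{u}) := ⟨fun z => hab ?_⟩
      · exact isInitialOfIsEmpty.hom_ext _ _
      · have h1 : (U a).ι (pullback.fst (U a).ι (U b).ι z) = (U b).ι (pullback.snd (U a).ι (U b).ι z) := by
          rw [← Scheme.Hom.comp_apply, ← Scheme.Hom.comp_apply, pullback.condition]
        have ha := (hmem a _).1 (pullback.fst (U a).ι (U b).ι z).2
        have hb := (hmem b _).1 (pullback.snd (U a).ι (U b).ι z).2
        exact ULift.ext _ _ (ha.symm.trans ((congrArg Φt h1).trans hb))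
  have hι : ∀ a, (U a).ι ≫ h₀ = (ga a ≫ totι Qf a).left := fun a => 𝒰.ι_glueMorphisms _ _ a
  let g : T ⟶ total Qf := Over.homMk h₀ (by
    refine 𝒰.hom_ext _ _ fun a => ?_
    show (U a).ι ≫ h₀ ≫ (total Qf).hom = (U a).ι ≫ T.hom
    rw [reassoc_of% (hι a)]
    exact Over.w (ga a ≫ totι Qf a))
  have hγg : ∀ a, γ a ≫ g = ga a ≫ totι Qf a := fun a => Over.OverMorphism.ext (hι a)
  refine ⟨g, Glue.ext_of_cover f E γ hcov fun a => ?_, fun g' hg' => ?_⟩
  · rw [← Groth.L14.Quot.quotPull_comp, hγg, Groth.L14.Quot.quotPull_comp]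
    show FGA.quotPull f E (ga a) (FGA.quotPull f E (totι Qf a) K₀) = _
    rw [hK₀]
    exact hga a
  · have hrange : ∀ a, Set.range (γ a ≫ g').left ⊆ Set.range (totι Qf a).left := by
      rintro a _ ⟨y, rfl⟩
      obtain ⟨b, z, hz⟩ := totι_cover Qf ((γ a ≫ g').left y)
      have hg2 : FGA.quotPull f E (γ a ≫ g') K.1 = FGA.quotPull f E (γ a) K'.1 := by
        rw [Groth.L14.Quot.quotPull_comp, hg']
      obtain rfl : a = b := by
        refine ULift.ext _ _ (poly_unique fun j => ?_)
        rw [← hKa a y j, ← hP b z j]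
        refine congrArg (Int.cast (R := ℚ)) ?_
        have e2 : fib (PicF.XTproj f (Qf b)) (FGA.ET f L (Qf b)) (cokernel (Kf b).1.arrow) z j =
            fib (PicF.XTproj f (total Qf)) (FGA.ET f L (total Qf)) (cokernel K.1.arrow) ((totι Qf b).left z) j := by
          rw [← fib_quotPull f L E hL (totι Qf b) K z j, show FGA.quotPull f E (totι Qf b) K.1 = _ from hK₀ b]
        rw [e2, hz, ← fib_quotPull f L E hL (γ a ≫ g') K y j, hg2]
      exact ⟨z, hz⟩
    let g'a : ∀ a, Ta a ⟶ Qf a := fun a => Over.homMk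
      (IsOpenImmersion.lift (totι Qf a).left (γ a ≫ g').left (hrange a)) (by
        rw [← Over.w (totι Qf a), IsOpenImmersion.lift_fac_assoc]
        exact Over.w (γ a ≫ g'))
    have hfac : ∀ a, g'a a ≫ totι Qf a = γ a ≫ g' := fun a =>
      Over.OverMorphism.ext (IsOpenImmersion.lift_fac _ _ _)
    have heq : ∀ a, g'a a = ga a := fun a => huga a _ (by
      show FGA.quotPull f E (g'a a) (Kf a).1 = _
      rw [← hK₀ a, ← Groth.L14.Quot.quotPull_comp, hfac, Groth.L14.Quot.quotPull_comp, hg'])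
    refine Over.OverMorphism.ext (𝒰.hom_ext _ _ fun a => ?_)
    show (U a).ι ≫ g'.left = (U a).ι ≫ h₀
    rw [hι a, ← heq a, hfac]
    rfl

end Groth.L02.Quot
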