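import Groth.Agent.L02.Quot.ProjQuot
import Groth.Agent.L02.Quot.Total
import Groth.Agent.L15.Ref.Reflexive
import Groth.Agent.L18.GlobGen
import Groth.Agent.L18.AmpleOps

/-!
# The scheme of quotients of a projective scheme
-/

set_option autoImplicit false
set_option linter.style.haveILetI false
set_option linter.unusedSectionVars false
set_option backward.isDefEq.respectTransparency false
set_option backward.isDefEq.respectTransparency.types false

universe u

open CategoryTheory CategoryTheory.Limits AlgebraicGeometry TopologicalSpace Opposite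

noncomputable section

namespace Groth.L02.Quot

open Groth.L00.Tensor (tensorIso tensorUnitRight tensorRightF tensorUnitLeft tensorAssoc)

/-- A globally generated coherent module on a compact scheme is generated by finitely many sections. -/
theorem exists_epi_free_of_gg {Y : Scheme.{u}} [CompactSpace Y] [IsLocallyNoetherian Y] {G : Y.Modules}
    (hG : Coh.IsCoh G) (hgg : Curv2.IsGloballyGenerated G) :
    ∃ (b : ℕ) (π : (∐ fun _ : Fin b => Coh.structureModule Y) ⟶ G), Epi π := by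
  classical
  let P := fun (s : Finset Γ(G, ⊤)) => Limits.Sigma.desc (fun j : Fin s.card => Groth.L16.homOfSection G (s.equivFin.symm j).1)
  let Z := fun s : Finset Γ(G, ⊤) => CohB1.support (cokernel (P s))
  have hgerm : ∀ (s : Finset Γ(G, ⊤)) (y : Y), ∀ t ∈ s, G.presheaf.germ ⊤ y trivial t ∈ LinearMap.range (stkₗ (P s) y) := by
    intro s y t ht
    let j := s.equivFin ⟨t, ht⟩
    refine ⟨(∐ fun _ : Fin s.card => Coh.structureModule Y).presheaf.germ ⊤ y trivial
      ((Limits.Sigma.ι (fun _ : Fin s.card => Coh.structureModule Y) j).app ⊤ (1 : Γ(Y, ⊤))), ?_⟩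
    rw [stkₗ_germ]
    refine congrArg (G.presheaf.germ ⊤ y trivial) ?_
    refine (congr($(Limits.Sigma.ι_desc (fun j : Fin s.card => Groth.L16.homOfSection G (s.equivFin.symm j).1) j).app ⊤
      (1 : Γ(Y, ⊤)))).trans ?_
    rw [Groth.L16.homOfSection_app, one_smul]
    exact (Groth.L18.Frame.rs_self G le_rfl _).trans (by simp [j])
  have hrange : ∀ (s : Finset Γ(G, ⊤)) (y : Y), Submodule.span _
      ((fun t : Γ(G, ⊤) => G.presheaf.germ ⊤ y trivial t) '' (s : Set Γ(G, ⊤))) ≤ LinearMap.range (stkₗ (P s) y) :=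
    fun s y => Submodule.span_le.2 (by rintro _ ⟨t, ht, rfl⟩; exact hgerm s y t ht)
  have hsup : ∀ (s : Finset Γ(G, ⊤)) (y : Y), y ∉ Z s → Function.Surjective (stkₗ (P s) y) := by
    intro s y hy z
    have hz : Subsingleton ((cokernel (P s)).presheaf.stalk y) := not_not.1 hy
    exact (ShortComplex.moduleCat_exact_iff _).1
      ((ShortComplex.exact_cokernel (P s)).map (Groth.L00.Stk.F Y y)) z (@Subsingleton.elim _ hz _ _)
  have hclosed : ∀ s, IsClosed (Z s) := fun s =>
    Groth.L16.CohSupport.isClosed_support _ (Groth.L17.Approx.isFT_of_epi (cokernel.π (P s)) hG.2)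
  have hex : ∀ y : Y, ∃ s : Finset Γ(G, ⊤), y ∉ Z s := by
    intro y
    haveI : Module.Finite (Y.presheaf.stalk y) (G.presheaf.stalk y) := Groth.L15.Ref.finite_stalk hG y
    obtain ⟨F, hF⟩ := (Module.finite_def.1 (inferInstance : Module.Finite (Y.presheaf.stalk y) (G.presheaf.stalk y)))
    have hF' : ∀ z ∈ F, ∃ s : Finset Γ(G, ⊤), z ∈ Submodule.span (Y.presheaf.stalk y)
        ((fun t : Γ(G, ⊤) => G.presheaf.germ ⊤ y trivial t) '' (s : Set Γ(G, ⊤))) := by
      intro z _
      have hz : z ∈ Submodule.span (Y.presheaf.stalk y) (Set.range fun t : Γ(G, ⊤) => G.presheaf.germ ⊤ y trivial t) := by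
        rw [span_germ_top_of_gg hgg y]; trivial
      obtain ⟨T, hT, hzT⟩ := Submodule.mem_span_finite_of_mem_span hz
      refine ⟨T.attach.image (fun w => (hT w.2).choose), Submodule.span_mono ?_ hzT⟩
      intro w hw
      exact ⟨_, Finset.mem_image.2 ⟨⟨w, hw⟩, Finset.mem_attach _ _, rfl⟩, (hT hw).choose_spec⟩
    choose! sF hsF using hF'
    refine ⟨F.biUnion sF, ?_⟩
    have htop : LinearMap.range (stkₗ (P (F.biUnion sF)) y) = ⊤ := by
      rw [eq_top_iff, ← hF, Submodule.span_le]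
      intro z hz
      refine hrange _ y (Submodule.span_mono (Set.image_mono ?_) (hsF z hz))
      intro t ht
      exact Finset.mem_biUnion.2 ⟨z, hz, ht⟩
    intro hy
    refine hy ⟨fun a b => ?_⟩
    obtain ⟨a', rfl⟩ := stkₗ_surjective (cokernel.π (P (F.biUnion sF))) y a
    obtain ⟨b', rfl⟩ := stkₗ_surjective (cokernel.π (P (F.biUnion sF))) y b
    obtain ⟨a'', rfl⟩ := LinearMap.range_eq_top.1 htop a'
    obtain ⟨b'', rfl⟩ := LinearMap.range_eq_top.1 htop b'
    rw [← stkₗ_comp, ← stkₗ_comp, cokernel.condition]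
    have h0 : ∀ c, stkₗ (0 : (∐ fun _ : Fin (F.biUnion sF).card => Coh.structureModule Y) ⟶ cokernel (P (F.biUnion sF))) y c = 0 :=
      fun c => by simp only [stkₗ, Functor.map_zero]; rfl
    rw [h0, h0]
  choose sy hsy using hex
  obtain ⟨C, hC⟩ := isCompact_univ.elim_finite_subcover (fun y : Y => (Z (sy y))ᶜ)
    (fun y => (hclosed _).isOpen_compl) fun y _ => Set.mem_iUnion.2 ⟨y, hsy y⟩
  refine ⟨_, P (C.biUnion sy), (Groth.L21.Mod.epi_iff_stalk_surjective _).2 fun y => ?_⟩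
  obtain ⟨c, hc, hy⟩ := Set.mem_iUnion₂.1 (hC (Set.mem_univ y))
  show Function.Surjective (stkₗ (P (C.biUnion sy)) y)
  have hle : LinearMap.range (stkₗ (P (sy c)) y) ≤ LinearMap.range (stkₗ (P (C.biUnion sy)) y) := by
    let a : (∐ fun _ : Fin (sy c).card => Coh.structureModule Y) ⟶ (∐ fun _ : Fin (C.biUnion sy).card => Coh.structureModule Y) :=
      Limits.Sigma.desc fun j => Limits.Sigma.ι (fun _ : Fin (C.biUnion sy).card => Coh.structureModule Y)
        ((C.biUnion sy).equivFin ⟨((sy c).equivFin.symm j).1, Finset.mem_biUnion.2 ⟨c, hc, ((sy c).equivFin.symm j).2⟩⟩)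
    have ha : a ≫ P (C.biUnion sy) = P (sy c) := Limits.Sigma.hom_ext _ _ fun j => by simp [a, P]
    rintro _ ⟨z, rfl⟩
    exact ⟨stkₗ a y z, by rw [← stkₗ_comp, ha]⟩
  exact LinearMap.range_eq_top.1 (eq_top_iff.2 ((LinearMap.range_eq_top.2 (hsup (sy c) y hy)).ge.trans hle))

variable {n : ℕ} {S X : Scheme.{u}} (i : X ⟶ CohB1.ProjSpaceOver n S)

theorem nonempty_OX_zero : Nonempty (OX i 0 ≅ Coh.structureModule X) := by
  obtain ⟨e⟩ := Groth.L17.Strat.nonempty_tensorPow_twistOver n S 0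
  exact ⟨(Scheme.Modules.pullback i).mapIso (eqToIso (by simp) ≪≫ e.symm) ≪≫ Groth.L29.LocFree.pullbackUnitIso i⟩

variable [IsClosedImmersion i]

theorem polyZ_iff_hasPoly {T : Over S} [IsLocallyNoetherian T.left] (Φ : Polynomial ℚ)
    {F : (PicF.XT (i ≫ CohB1.ProjSpaceOver.toBase n S) T).Modules} (hF : Coh.IsCoh F) :
    PolyZ i Φ T F ↔ HasPoly (i ≫ CohB1.ProjSpaceOver.toBase n S) (OX i 1) Φ T F := by
  obtain ⟨e0⟩ := nonempty_OX_zero i
  let e : CohB1.tensorMod F (FGA.ET (i ≫ CohB1.ProjSpaceOver.toBase n S) (OX i ((0 : ℕ) : ℤ)) T) ≅ F :=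
    tensorIso (Iso.refl F) ((Scheme.Modules.pullback _).mapIso (eqToIso (by simp) ≪≫ e0) ≪≫
      Groth.L29.LocFree.pullbackUnitIso _) ≪≫ tensorUnitRight F
  rw [polyZ_iff i Φ 0 hF, show Φ.comp (Polynomial.X + Polynomial.C ((0 : ℕ) : ℚ)) = Φ by simp]
  exact ⟨hasPoly_congr e, hasPoly_congr e.symm⟩

/-- The scheme of quotients, with pieces closed in projective spaces. -/
theorem exists_quot_total_proj [IsNoetherian S] (f : X ⟶ S) (hf : i ≫ CohB1.ProjSpaceOver.toBase n S = f)
    (E : X.Modules) (hE : Coh.IsCoh E) (p : ℕ) (ν : ℤ) (q : (∐ fun _ : Fin p => OX i ν) ⟶ E) [Epi q] :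
    ∃ (Q : Over S) (K : FGA.QuotSet f E Q), FGA.QuotRepresentedBy f E Q K ∧
      ∃ (ι : Type u) (P : ι → Scheme.{u}) (e : (∐ P) ≅ Q.left) (m : ι → ℕ)
        (c : ∀ a, P a ⟶ CohB1.ProjSpaceOver (m a) S),
        ∀ a, IsClosedImmersion (c a) ∧
          c a ≫ CohB1.ProjSpaceOver.toBase (m a) S = Limits.Sigma.ι P a ≫ e.hom ≫ Q.hom := by
  subst hf
  haveI := isProper_comp_toBase i
  have H := fun a : ULift.{u} (Polynomial ℚ) => exists_quot_proj i E hE p ν q a.down
  choose Qf Kf hN hP hu m c hc hcQ using H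
  obtain ⟨K, hK⟩ := exists_total _ (OX i 1) E Qf (isRelAmple_OX_one i) Kf hN
    (fun a => haveI := hN a; (polyZ_iff_hasPoly i a.down (Kf a).2.1).1 (hP a))
    (fun a T _ K' hK' => hu a T K' ((polyZ_iff_hasPoly i a.down K'.2.1).2 hK'))
  refine ⟨total Qf, K, hK, ULift.{u} (Polynomial ℚ), fun a => (Qf a).left, Iso.refl _, m, c, fun a => ⟨hc a, ?_⟩⟩
  rw [hcQ a]
  exact (Over.w (totι Qf a)).symm

/-- Over an affine Noetherian base coherent modules are quotients of sums of twists. -/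
theorem exists_presentation_of_isAffine [IsNoetherian S] [IsAffine S] (E : X.Modules) (hE : Coh.IsCoh E) :
    ∃ (p : ℕ) (ν : ℤ) (q : (∐ fun _ : Fin p => OX i ν) ⟶ E), Epi q := by
  haveI := isProper_comp_toBase i
  haveI : IsLocallyNoetherian X := LocallyOfFiniteType.isLocallyNoetherian (i ≫ CohB1.ProjSpaceOver.toBase n S)
  haveI : CompactSpace X := QuasiCompact.compactSpace_of_compactSpace (i ≫ CohB1.ProjSpaceOver.toBase n S)
  obtain ⟨t, ht⟩ := Groth.L18.Ample.exists_forall_isGloballyGenerated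
    (Groth.L18.Ample.isAmple_of_isRelAmple (isRelAmple_OX_one i)) E hE
  have hLt : PicF.IsInvertible (CohB1.tensorPow (OX i 1) t) :=
    Groth.L18.Ample.isInvertible_tensorPow (isInvertible_OX i 1) t
  obtain ⟨b, π, hπ⟩ := exists_epi_free_of_gg (Groth.L03.Euler.isCoh_tensor hLt hE) (ht t le_rfl)
  obtain ⟨et⟩ := Groth.L17.Strat.nonempty_tensorPow_twistOver n S t
  obtain ⟨ea⟩ := Groth.L17.Strat.nonempty_twistOver_add n S (-(t : ℤ)) t
  obtain ⟨e0⟩ := nonempty_OX_zero i
  let eL : CohB1.tensorMod (CohB1.tensorPow (OX i 1) t) (OX i (-(t : ℤ))) ≅ Coh.structureModule X :=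
    Groth.L00.Tensor.tensorComm _ _ ≪≫ tensorIso (Iso.refl _) (Groth.L18.Ample.pullPow i _ t).symm ≪≫
      Groth.L29.DC.PullTensor.pullTensor i _ _ ≪≫ (Scheme.Modules.pullback i).mapIso (ea ≪≫ eqToIso (by simp)) ≪≫ e0
  let P := tensorRightF (OX i (-(t : ℤ)))
  haveI : PreservesColimitsOfSize.{u, u} P := inferInstance
  haveI : PreservesFiniteColimits P := PreservesColimitsOfSize.preservesFiniteColimits _
  haveI := hπ
  refine ⟨b, -(t : ℤ), ((Sigma.mapIso fun _ : Fin b => (tensorUnitLeft (OX i (-(t : ℤ)))).symm) ≪≫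
    (PreservesCoproduct.iso P (fun _ : Fin b => Coh.structureModule X)).symm).hom ≫ P.map π ≫
      (tensorAssoc _ _ _ ≪≫ tensorIso (Iso.refl E) eL ≪≫ tensorUnitRight E).hom, ?_⟩
  haveI : Epi (P.map π) := inferInstance
  exact inferInstance

end Groth.L02.Quot
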