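import Groth.Agent.L02.Quot.ProjTotal
import Groth.Agent.L16.ProjSpace.BaseChange
import Groth.Agent.L21.RR.BaseChange
import Groth.Prelude.Def_Pic13
import Groth.Agent.L03.ShStab.TwistFlat
import Groth.Agent.L17.Strat.Hilbert
import Mathlib.AlgebraicGeometry.Morphisms.QuasiSeparated
import Mathlib.AlgebraicGeometry.Limits

/-!
# Quotients with finitely many Hilbert functions form a bounded family
-/

set_option autoImplicit false
set_option linter.style.haveILetI false
set_option linter.unusedSectionVars false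
set_option backward.isDefEq.respectTransparency false
set_option backward.isDefEq.respectTransparency.types false

universe u

open CategoryTheory CategoryTheory.Limits AlgebraicGeometry TopologicalSpace Opposite

noncomputable section

namespace Groth.L02.Quot.Bounded

open Groth.L16
open Groth.L00.Tensor (tensorIso)

variable {k : Type u} [Field k] {X : Scheme.{u}}

/-- The point with its trivial structure. -/
abbrev T₀ (k : Type u) [Field k] : Over (Spec (CommRingCat.of k)) := Over.mk (𝟙 _)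

theorem eulerCharLE_pullback [X.Over (Spec (CommRingCat.of k))] [IsProper (X ↘ Spec (CommRingCat.of k))]
    {K : Type u} [Field K] {Y : Scheme.{u}} [Y.Over (Spec (CommRingCat.of K))] [Algebra k K] (g : Y ⟶ X)
    (sq : IsPullback g (Y ↘ Spec (CommRingCat.of K)) (X ↘ Spec (CommRingCat.of k))
      (Spec.map (CommRingCat.ofHom (algebraMap k K))))
    {M : X.Modules} (hM : Coh.IsCoh M) (n : ℕ) :
    FGA.eulerCharLE K Y ((Scheme.Modules.pullback g).obj M) n = FGA.eulerCharLE k X M n :=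
  Finset.sum_congr rfl fun q _ => by
    rw [show Module.finrank K (Coh.HH Y ((Scheme.Modules.pullback g).obj M) q) =
      Module.finrank k (Coh.HH X M q) from Groth.L21.RR.h_pullback g sq hM q]

variable {n : ℕ} (i : X ⟶ CohB1.ProjSpaceOver n (Spec (CommRingCat.of k))) [IsClosedImmersion i]
  (f : X ⟶ Spec (CommRingCat.of k)) (hf : i ≫ CohB1.ProjSpaceOver.toBase n (Spec (CommRingCat.of k)) = f)

/-- The quotient over the point given by a quotient on the scheme. -/
abbrev K₀ {E F : X.Modules} (q : E ⟶ F) : Subobject (FGA.ET f E (T₀ k)) :=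
  kernelSubobject ((Scheme.Modules.pullback (pullback.fst f (T₀ k).hom)).map q)

theorem K₀_mem {E F : X.Modules} (q : E ⟶ F) [Epi q] (hF : Coh.IsCoh F) :
    Coh.IsCoh (cokernel (K₀ f q).arrow) ∧ FlatMod.IsFlatOver (PicF.XTproj f (T₀ k)) (cokernel (K₀ f q).arrow) := by
  haveI := Groth.L14.Quot.epi_pullback_map (pullback.fst f (T₀ k).hom) q
  obtain ⟨d, -⟩ := exists_iso_of_kernel_eq ((Scheme.Modules.pullback (pullback.fst f (T₀ k).hom)).map q)
    (cokernel.π (K₀ f q).arrow) (kernelSubobject_cokernel_π _).symm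
  have hcoh := Groth.L14.Quot.isCoh_of_iso d (Groth.L19.LimMod.isCoh_pullback' (pullback.fst f (T₀ k).hom) hF)
  haveI : Coh.IsQCoh (cokernel (K₀ f q).arrow) := hcoh.1
  exact ⟨hcoh, Groth.L03.ShStab.TwistFlat.isFlatOver_field (k := k) (PicF.XTproj f (T₀ k)) _⟩

include hf in
theorem polyZ_K₀ [X.Over (Spec (CommRingCat.of k))] (hX : (X ↘ Spec (CommRingCat.of k)) = f) {E F : X.Modules}
    (q : E ⟶ F) [Epi q] (hF : Coh.IsCoh F) (Φ : Polynomial ℚ) :
    PolyZ i Φ (T₀ k) (hf ▸ (cokernel (K₀ f q).arrow) : (PicF.XT (i ≫ CohB1.ProjSpaceOver.toBase n _) (T₀ k)).Modules) ↔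
      ∀ m : ℤ, (FGA.eulerCharLE k X (CohB1.tensorMod F (OX i m)) n : ℚ) = Φ.eval (m : ℚ) := by
  subst hf
  let f := i ≫ CohB1.ProjSpaceOver.toBase n (Spec (CommRingCat.of k))
  haveI := isProper_comp_toBase i
  haveI : IsProper (X ↘ Spec (CommRingCat.of k)) := by rw [hX]; infer_instance
  haveI : IsLocallyNoetherian X := LocallyOfFiniteType.isLocallyNoetherian (X ↘ Spec (CommRingCat.of k))
  let p := pullback.fst f (T₀ k).hom
  haveI := Groth.L14.Quot.epi_pullback_map p q
  obtain ⟨d, -⟩ := exists_iso_of_kernel_eq ((Scheme.Modules.pullback p).map q) (cokernel.π (K₀ f q).arrow)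
    (kernelSubobject_cokernel_π _).symm
  have key : ∀ (t : (T₀ k).left) (m : ℤ),
      FGA.eulerCharLE ((T₀ k).left.residueField t) (FGA.fibreAt f (T₀ k) t).left
        (CohB1.tensorMod (FGA.restrFibre f (T₀ k) t (cokernel (K₀ f q).arrow))
          (FGA.restrFibre f (T₀ k) t (FGA.ET f (OX i m) (T₀ k)))) n =
        FGA.eulerCharLE k X (CohB1.tensorMod F (OX i m)) n := by
    intro t m
    obtain ⟨φ, hφ⟩ := Spec.map_surjective ((T₀ k).left.fromSpecResidueField t ≫ (T₀ k).hom)
    let ι := (PicF.XTproj f (T₀ k)).fiberι t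
    let hs := (PicF.XTproj f (T₀ k)).fiberToSpecResidueField t
    have sq : IsPullback (ι ≫ p) hs f ((T₀ k).left.fromSpecResidueField t ≫ (T₀ k).hom) :=
      (IsPullback.of_hasPullback _ ((T₀ k).left.fromSpecResidueField t)).paste_horiz (IsPullback.of_hasPullback f (T₀ k).hom)
    letI : Algebra k ((T₀ k).left.residueField t) := φ.hom.toAlgebra
    letI : ((PicF.XTproj f (T₀ k)).fiber t).Over (Spec (CommRingCat.of ((T₀ k).left.residueField t))) := ⟨hs⟩
    have sq' : IsPullback (ι ≫ p) ((PicF.XTproj f (T₀ k)).fiber t ↘ Spec (CommRingCat.of ((T₀ k).left.residueField t)))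
        (X ↘ Spec (CommRingCat.of k)) (Spec.map (CommRingCat.ofHom (algebraMap k ((T₀ k).left.residueField t)))) := by
      rw [hX, show Spec.map (CommRingCat.ofHom (algebraMap k ((T₀ k).left.residueField t))) = _ from hφ]
      exact sq
    refine Eq.trans ?_ (eulerCharLE_pullback (ι ≫ p) sq'
      (Groth.L03.Euler.isCoh_tensor (isInvertible_OX i m) hF) n)
    refine Groth.L17.Strat.eulerCharLE_iso (k := (T₀ k).left.residueField t) ?_ n
    exact tensorIso ((Scheme.Modules.pullback ι).mapIso d.symm ≪≫ (Scheme.Modules.pullbackComp ι p).app F)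
        ((Scheme.Modules.pullbackComp ι p).app _) ≪≫ Groth.L29.DC.PullTensor.pullTensor (ι ≫ p) _ _
  constructor
  · intro h m
    let t : (T₀ k).left := IsLocalRing.closedPoint k
    rw [← key t m]
    exact h t m
  · intro h t m
    rw [key t m]
    exact h m

/-- Quotients with one of finitely many polynomials are fibres of one family. -/
theorem isBounded [X.Over (Spec (CommRingCat.of k))] (hX : (X ↘ Spec (CommRingCat.of k)) = f)
    (hf : i ≫ CohB1.ProjSpaceOver.toBase n (Spec (CommRingCat.of k)) = f) (E : X.Modules) (hE : Coh.IsCoh E)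
    (Φ : Set (ℤ → ℤ)) (hΦ : Φ.Finite) :
    Pic13.IsBounded k X (fun F => Coh.IsCoh F ∧ (∃ q : E ⟶ F, Epi q) ∧
      (fun r : ℤ => FGA.eulerCharLE k X (CohB1.tensorMod F (OX i r)) n) ∈ Φ) := by
  subst hf
  classical
  haveI : IsLocallyNoetherian (Spec (CommRingCat.of k)) := inferInstance
  haveI : AlgebraicGeometry.IsNoetherian (Spec (CommRingCat.of k)) := {}
  haveI := isProper_comp_toBase i
  let I : Set (Polynomial ℚ) := {P | ∃ φ ∈ Φ, ∀ r : ℤ, (φ r : ℚ) = P.eval (r : ℚ)}
  have hI : I.Finite := by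
    have h1 : I ⊆ ⋃ φ ∈ Φ, {P | ∀ r : ℤ, (φ r : ℚ) = P.eval (r : ℚ)} := fun P ⟨φ, hφ, h⟩ =>
      Set.mem_iUnion₂.2 ⟨φ, hφ, h⟩
    refine (hΦ.biUnion fun φ _ => Set.Subsingleton.finite fun P hP P' hP' => ?_).subset h1
    exact poly_unique fun j => ((hP j).symm.trans (hP' j)).trans rfl
  haveI : Finite I := hI.to_subtype
  obtain ⟨p, ν, q₀, hq₀⟩ := exists_presentation_of_isAffine i E hE
  haveI := hq₀
  have H := fun a : ULift.{u} I => exists_quot_proj i E hE p ν q₀ a.down.1
  choose Qa Ka hN hP hu m c hc hcQ using H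
  let T : Scheme.{u} := ∐ fun a => (Qa a).left
  let qT : T ⟶ Spec (CommRingCat.of k) := Limits.Sigma.desc fun a => (Qa a).hom
  let TT : Over (Spec (CommRingCat.of k)) := Over.mk qT
  let g : ∀ a, Qa a ⟶ TT := fun a =>
    Over.homMk (Limits.Sigma.ι (fun a => (Qa a).left) a) (Limits.Sigma.ι_desc _ a)
  haveI : ∀ a, IsOpenImmersion (g a).left := fun a =>
    inferInstanceAs (IsOpenImmersion (Limits.Sigma.ι (fun a => (Qa a).left) a))
  have hcov : ∀ t : TT.left, ∃ a y, (g a).left y = t := fun t => by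
    obtain ⟨a, y, hy⟩ := (sigmaOpenCover (fun a => (Qa a).left)).exists_eq t
    exact ⟨a, y, hy⟩
  obtain ⟨K, hK⟩ := Glue.exists_glue (i ≫ CohB1.ProjSpaceOver.toBase n _) E g (fun a b y x h he => by
    have hd := disjoint_opensRange_sigmaι (fun a => (Qa a).left) a b h
    exact (hd.le_bot (show (g a).left x ∈ _ ⊓ _ from ⟨⟨x, rfl⟩, ⟨y, he⟩⟩) : False)) fun a => (Ka a).1
  have hKm := Glue.mem_of_cover (i ≫ CohB1.ProjSpaceOver.toBase n _) E g hcov K fun a => by rw [hK a]; exact (Ka a).2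
  have hpr : ∀ a, IsProper (Qa a).hom := fun a => by
    rw [← hcQ a]
    haveI := hc a
    haveI : IsProper (CohB1.ProjSpaceOver.toBase (m a) (Spec (CommRingCat.of k))) :=
      MorphismProperty.pullback_snd (P := @IsProper) _ _
        (inferInstanceAs (IsProper (CohB1.ProjSpace.toSpec (m a) (ULift.{u} ℤ))))
    infer_instance
  haveI : LocallyOfFiniteType qT :=
    IsZariskiLocalAtSource.sigmaDesc (P := @LocallyOfFiniteType) fun a => haveI := hpr a; inferInstance
  haveI : ∀ a, CompactSpace (Qa a).left := fun a =>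
    haveI := hpr a; QuasiCompact.compactSpace_of_compactSpace (Qa a).hom
  haveI : CompactSpace T := by
    refine ⟨?_⟩
    rw [show (Set.univ : Set T) = ⋃ a, Set.range (g a).left from
      (Set.eq_univ_of_forall fun t => by obtain ⟨a, y, hy⟩ := hcov t; exact Set.mem_iUnion.2 ⟨a, y, hy⟩).symm]
    exact isCompact_iUnion fun a => isCompact_range (g a).left.continuous
  haveI : QuasiCompact qT := (quasiCompact_iff_compactSpace qT).2 inferInstance
  let eX : Pic13.prodK k X qT ≅ PicF.XT (i ≫ CohB1.ProjSpaceOver.toBase n _) TT := pullback.congrHom hX rfl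
  refine ⟨T, qT, inferInstance, inferInstance, (Scheme.Modules.pullback eX.hom).obj (cokernel K.arrow),
    Groth.L19.LimMod.isCoh_pullback' _ hKm.1, ?_⟩
  rintro F ⟨hF, ⟨q, hq⟩, hχ⟩
  haveI := hq
  let f := i ≫ CohB1.ProjSpaceOver.toBase n (Spec (CommRingCat.of k))
  let K' : FGA.QuotSet f E (T₀ k) := ⟨K₀ f q, K₀_mem f q hF⟩
  haveI : IsLocallyNoetherian (T₀ k).left := inferInstanceAs (IsLocallyNoetherian (Spec (CommRingCat.of k)))
  obtain ⟨P, hPj⟩ := exists_poly_at f (OX i 1) E (isRelAmple_OX_one i) K' (IsLocalRing.closedPoint k)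
  have hPZ : PolyZ i P (T₀ k) (cokernel K'.1.arrow) := by
    refine (polyZ_iff_hasPoly i P K'.2.1).2 fun t => ?_
    rw [show t = IsLocalRing.closedPoint k from @Subsingleton.elim (PrimeSpectrum k) _ _ _]
    exact hPj
  have hval := (polyZ_K₀ i f rfl hX q hF P).1 hPZ
  let a : ULift.{u} I := ⟨⟨P, _, hχ, hval⟩⟩
  obtain ⟨gQ, hgQ, -⟩ := hu a (T₀ k) K' hPZ
  let t : Spec (CommRingCat.of k) ⟶ T := (gQ ≫ g a).left
  have ht : t ≫ qT = 𝟙 _ := Over.w (gQ ≫ g a)
  refine ⟨t, ht, ?_⟩
  have hh : FGA.quotPull f E (gQ ≫ g a) K = K'.1 := by rw [Groth.L14.Quot.quotPull_comp, hK a]; exact hgQ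
  obtain ⟨eK⟩ := Groth.L14.Quot.nonempty_cokernel_iso f E (gQ ≫ g a) K
  rw [hh] at eK
  let p := pullback.fst f (T₀ k).hom
  haveI := Groth.L14.Quot.epi_pullback_map p q
  obtain ⟨d, -⟩ := exists_iso_of_kernel_eq ((Scheme.Modules.pullback p).map q) (cokernel.π (K₀ f q).arrow)
    (kernelSubobject_cokernel_π _).symm
  let σ : X ⟶ PicF.XT f (T₀ k) := pullback.lift (𝟙 X) f (by simp)
  have hσp : σ ≫ p = 𝟙 X := pullback.lift_fst _ _ _
  have hsl : Pic13.sliceAt k X qT t ht ≫ eX.hom = σ ≫ PicF.XTmap f (gQ ≫ g a) := by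
    refine pullback.hom_ext ?_ ?_
    · simp only [Pic13.sliceAt, eX, σ, PicF.XTmap, pullback.congrHom_hom, pullback.map, Category.assoc, Category.comp_id]
      repeat' erw [pullback.lift_fst]
      repeat' erw [pullback.lift_fst_assoc]
    · simp only [Pic13.sliceAt, eX, σ, PicF.XTmap, pullback.congrHom_hom, pullback.map, Category.assoc, Category.comp_id, hX, t]
      repeat' erw [pullback.lift_snd]
      repeat' erw [pullback.lift_snd_assoc]
      rfl
  exact ⟨(Scheme.Modules.pullbackComp _ _).app _ ≪≫ (Scheme.Modules.pullbackCongr hsl).app _ ≪≫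
    ((Scheme.Modules.pullbackComp σ (PicF.XTmap f (gQ ≫ g a))).app _).symm ≪≫
    (Scheme.Modules.pullback σ).mapIso (eK ≪≫ d.symm) ≪≫ (Scheme.Modules.pullbackComp σ p).app F ≪≫
    (Scheme.Modules.pullbackCongr hσp).app F ≪≫ (Scheme.Modules.pullbackId X).app F⟩

end Groth.L02.Quot.Bounded
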