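import Groth.Agent.L02.Quot.ProjTotal
import Groth.Agent.L16.ProjSpace.BaseChange
import Groth.Agent.L22.Reg.Base
import Groth.Prelude.Def_Pic13
import Mathlib.AlgebraicGeometry.Morphisms.QuasiSeparated

/-!
# A bounded family consists of quotients of one sum of twists
-/

set_option autoImplicit false
set_option linter.style.haveILetI false
set_option linter.unusedSectionVars false
set_option backward.isDefEq.respectTransparency false
set_option backward.isDefEq.respectTransparency.types false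

universe u

open CategoryTheory CategoryTheory.Limits AlgebraicGeometry TopologicalSpace Opposite

noncomputable section

namespace Groth.L02.Quot

open Groth.L16
open Groth.L00.Tensor (tensorIso tensorUnitRight tensorRightF tensorUnitLeft tensorAssoc)

variable {n : ℕ}

/-- Over an affine Noetherian base coherent modules are quotients of sums of any sufficiently negative twist. -/
theorem exists_presentation_of_le {S X : Scheme.{u}} (i : X ⟶ CohB1.ProjSpaceOver n S) [IsClosedImmersion i]
    [IsNoetherian S] [IsAffine S] (E : X.Modules) (hE : Coh.IsCoh E) :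
    ∃ t₀ : ℕ, ∀ t : ℕ, t₀ ≤ t → ∃ (p : ℕ) (q : (∐ fun _ : Fin p => OX i (-(t : ℤ))) ⟶ E), Epi q := by
  haveI := isProper_comp_toBase i
  haveI : IsLocallyNoetherian X := LocallyOfFiniteType.isLocallyNoetherian (i ≫ CohB1.ProjSpaceOver.toBase n S)
  haveI : CompactSpace X := QuasiCompact.compactSpace_of_compactSpace (i ≫ CohB1.ProjSpaceOver.toBase n S)
  obtain ⟨t₀, ht⟩ := Groth.L18.Ample.exists_forall_isGloballyGenerated
    (Groth.L18.Ample.isAmple_of_isRelAmple (isRelAmple_OX_one i)) E hE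
  refine ⟨t₀, fun t htt => ?_⟩
  have hLt : PicF.IsInvertible (CohB1.tensorPow (OX i 1) t) :=
    Groth.L18.Ample.isInvertible_tensorPow (isInvertible_OX i 1) t
  obtain ⟨b, π, hπ⟩ := exists_epi_free_of_gg (Groth.L03.Euler.isCoh_tensor hLt hE) (ht t htt)
  obtain ⟨et⟩ := Groth.L17.Strat.nonempty_tensorPow_twistOver n S t
  obtain ⟨ea⟩ := Groth.L17.Strat.nonempty_twistOver_add n S (-(t : ℤ)) t
  obtain ⟨e0⟩ := nonempty_OX_zero i
  let eL : CohB1.tensorMod (CohB1.tensorPow (OX i 1) t) (OX i (-(t : ℤ))) ≅ Coh.structureModule X :=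
    Groth.L00.Tensor.tensorComm _ _ ≪≫ tensorIso (Iso.refl _) (Groth.L18.Ample.pullPow i _ t).symm ≪≫
      Groth.L29.DC.PullTensor.pullTensor i _ _ ≪≫ (Scheme.Modules.pullback i).mapIso (ea ≪≫ eqToIso (by simp)) ≪≫ e0
  let P := tensorRightF (OX i (-(t : ℤ)))
  haveI : PreservesColimitsOfSize.{u, u} P := inferInstance
  haveI : PreservesFiniteColimits P := PreservesColimitsOfSize.preservesFiniteColimits _
  haveI := hπ
  refine ⟨b, ((Sigma.mapIso fun _ : Fin b => (tensorUnitLeft (OX i (-(t : ℤ)))).symm) ≪≫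
    (PreservesCoproduct.iso P (fun _ : Fin b => Coh.structureModule X)).symm).hom ≫ P.map π ≫
      (tensorAssoc _ _ _ ≪≫ tensorIso (Iso.refl E) eL ≪≫ tensorUnitRight E).hom, ?_⟩
  haveI : Epi (P.map π) := inferInstance
  exact inferInstance

namespace BoundedEpi

variable {k : Type u} [Field k] {X : Scheme.{u}} [X.Over (Spec (CommRingCat.of k))]
  (i : X ⟶ CohB1.ProjSpace n k)

/-- A bounded family of coherent modules: quotients of one sum of twists. -/
theorem exists_epi [IsClosedImmersion i] (hi : i ≫ CohB1.ProjSpace.toSpec n k = X ↘ Spec (CommRingCat.of k))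
    (P : X.Modules → Prop) (hb : Pic13.IsBounded k X P) :
    ∃ (m : ℤ) (N : ℕ), ∀ F, P F →
      ∃ p : (∐ fun _ : Fin N => Pic13.twistOn k i (Coh.structureModule X) (-m)) ⟶ F, Epi p := by
  classical
  obtain ⟨T, qT, hft, hqc, G, hG, hmem⟩ := hb
  haveI := hft
  haveI := hqc
  haveI : CompactSpace T := QuasiCompact.compactSpace_of_compactSpace qT
  haveI : IsLocallyNoetherian T := LocallyOfFiniteType.isLocallyNoetherian qT
  let pX := X ↘ Spec (CommRingCat.of k)
  let i' : X ⟶ CohB1.ProjSpaceOver n (Spec (CommRingCat.of k)) := i ≫ (ProjSpace.isoOver n k).hom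
  have hi' : i' ≫ CohB1.ProjSpaceOver.toBase n (Spec (CommRingCat.of k)) = pX := by
    rw [Category.assoc, ProjSpace.isoOver_hom_toBase]; exact hi
  have step : ∀ V : T.affineOpens, ∃ t₀ : ℕ, ∀ t : ℕ, t₀ ≤ t → ∃ b : ℕ, ∀ (F : X.Modules)
      (x : Spec (CommRingCat.of k) ⟶ T) (hx : x ≫ qT = 𝟙 _), x.base (IsLocalRing.closedPoint k) ∈ V.1 →
        Nonempty (Pic13.fibreMod k X qT x hx G ≅ F) →
        ∃ p : (∐ fun _ : Fin b => Pic13.twistOn k i (Coh.structureModule X) (-(t : ℤ))) ⟶ F, Epi p := by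
    intro V
    haveI : IsAffine V.1.toScheme := V.2
    haveI : IsLocallyNoetherian V.1.toScheme := LocallyOfFiniteType.isLocallyNoetherian (V.1.ι ≫ qT)
    haveI : AlgebraicGeometry.IsNoetherian V.1.toScheme := {}
    let h : V.1.toScheme ⟶ Spec (CommRingCat.of k) := V.1.ι ≫ qT
    let hsq := ProjSpace.isPullback_overMap n h
    let l : pullback pX h ⟶ CohB1.ProjSpaceOver n V.1.toScheme :=
      hsq.lift (pullback.fst pX h ≫ i') (pullback.snd pX h) (by rw [Category.assoc, hi', pullback.condition])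
    have hl : IsPullback (pullback.fst pX h) l i' (ProjSpace.overMap n h) := by
      refine IsPullback.of_bot ?_ (hsq.lift_fst _ _ _).symm hsq
      rw [hsq.lift_snd, hi']
      exact IsPullback.of_hasPullback pX h
    haveI : IsClosedImmersion i' := inferInstance
    haveI : IsClosedImmersion l := MorphismProperty.of_isPullback (P := @IsClosedImmersion) hl inferInstance
    let j : pullback pX h ⟶ Pic13.prodK k X qT :=
      pullback.map pX h pX qT (𝟙 _) V.1.ι (𝟙 _) (by simp) (by simp [h])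
    obtain ⟨t₀, ht⟩ := exists_presentation_of_le l ((Scheme.Modules.pullback j).obj G)
      (Groth.L19.LimMod.isCoh_pullback' j hG)
    refine ⟨t₀, fun t htt => ?_⟩
    obtain ⟨b, q, hq⟩ := ht t htt
    refine ⟨b, fun F x hx hxV ⟨eF⟩ => ?_⟩
    have hr : Set.range x.base ⊆ Set.range V.1.ι.base := by
      rintro _ ⟨y, rfl⟩
      rw [show y = IsLocalRing.closedPoint k from @Subsingleton.elim (PrimeSpectrum k) _ _ _]
      simpa using hxV
    let xV := IsOpenImmersion.lift V.1.ι x hr
    have hxh : xV ≫ h = 𝟙 _ := by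
      rw [← Category.assoc, IsOpenImmersion.lift_fac, hx]
    let s : X ⟶ pullback pX h := pullback.lift (𝟙 X) (pX ≫ xV) (by simp [hxh, pX])
    have hsj : s ≫ j = Pic13.sliceAt k X qT x hx := by
      refine pullback.hom_ext ?_ ?_
      · simp only [s, j, Pic13.sliceAt, pullback.map, Category.assoc, Category.comp_id]
        erw [pullback.lift_fst, pullback.lift_fst, pullback.lift_fst]
      · simp only [s, j, Pic13.sliceAt, pullback.map, Category.assoc]
        erw [pullback.lift_snd, pullback.lift_snd, pullback.lift_snd_assoc]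
        rw [Category.assoc, IsOpenImmersion.lift_fac]
    have hsl : s ≫ l ≫ pullback.fst (CohB1.ProjSpace.toSpec n (ULift.{u} ℤ)) (specULiftZIsTerminal.from V.1.toScheme) =
        i ≫ ProjSpace.map n ((algebraMap ℤ k).comp ULift.ringEquiv.toRingHom : ULift.{u} ℤ →+* k) := by
      have h1 : ProjSpace.overMap n h ≫
          pullback.fst (CohB1.ProjSpace.toSpec n (ULift.{u} ℤ)) (specULiftZIsTerminal.from (Spec (CommRingCat.of k))) =
            pullback.fst (CohB1.ProjSpace.toSpec n (ULift.{u} ℤ)) (specULiftZIsTerminal.from V.1.toScheme) :=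
        (pullback.lift_fst _ _ _).trans (Category.comp_id _)
      rw [← h1]
      erw [hsq.lift_fst_assoc]
      simp only [Category.assoc]
      erw [pullback.lift_fst_assoc, Category.id_comp]
      simp only [i', Category.assoc]
      exact congrArg (i ≫ ·) (ProjSpace.isPullback_over n (R := k)).isoPullback_hom_fst
    obtain ⟨eO⟩ := Groth.L22.Reg.nonempty_pullback_O (n := n)
      ((algebraMap ℤ k).comp ULift.ringEquiv.toRingHom : ULift.{u} ℤ →+* k) (-(t : ℤ))
    let e₁ : (Scheme.Modules.pullback s).obj (OX l (-(t : ℤ))) ≅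
        Pic13.twistOn k i (Coh.structureModule X) (-(t : ℤ)) :=
      (Scheme.Modules.pullback s).mapIso ((Scheme.Modules.pullbackComp _ _).app _) ≪≫
        (Scheme.Modules.pullbackComp _ _).app _ ≪≫ (Scheme.Modules.pullbackCongr hsl).app _ ≪≫
        ((Scheme.Modules.pullbackComp _ _).app _).symm ≪≫ (Scheme.Modules.pullback i).mapIso eO ≪≫
        (tensorUnitLeft _).symm
    let Ps := Scheme.Modules.pullback s
    haveI : Ps.IsLeftAdjoint := (Scheme.Modules.pullbackPushforwardAdjunction s).isLeftAdjoint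
    haveI := hq
    haveI : Epi (Ps.map q) := inferInstance
    refine ⟨((Sigma.mapIso fun _ : Fin b => e₁.symm) ≪≫
      (PreservesCoproduct.iso Ps (fun _ : Fin b => OX l (-(t : ℤ)))).symm).hom ≫ Ps.map q ≫
      ((Scheme.Modules.pullbackComp s j).app G ≪≫ (Scheme.Modules.pullbackCongr hsj).app G ≪≫ eF).hom, ?_⟩
    exact inferInstance
  choose t₀ ht₀ using step
  obtain ⟨C, hC⟩ := isCompact_univ.elim_finite_subcover (fun V : T.affineOpens => ((V.1 : T.Opens) : Set T))
    (fun V => V.1.2) (fun y _ => by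
      obtain ⟨_, ⟨V, hV, rfl⟩, hyV, -⟩ :=
        T.isBasis_affineOpens.exists_subset_of_mem_open (Set.mem_univ y) isOpen_univ
      exact Set.mem_iUnion.2 ⟨⟨V, hV⟩, hyV⟩)
  let t := C.sup t₀
  have hb' : ∀ V : {V // V ∈ C}, _ := fun V => ht₀ V.1 t (Finset.le_sup V.2)
  choose b hbF using hb'
  refine ⟨(t : ℤ), C.attach.sup b, fun F hF => ?_⟩
  obtain ⟨x, hx, he⟩ := hmem F hF
  obtain ⟨V, hV, hxV⟩ := Set.mem_iUnion₂.1 (hC (Set.mem_univ (x.base (IsLocalRing.closedPoint k))))
  obtain ⟨p, hp⟩ := hbF ⟨V, hV⟩ F x hx hxV he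
  haveI := hp
  have hle : b ⟨V, hV⟩ ≤ C.attach.sup b := Finset.le_sup (Finset.mem_attach _ _)
  let a : (∐ fun _ : Fin (b ⟨V, hV⟩) => Pic13.twistOn k i (Coh.structureModule X) (-(t : ℤ))) ⟶
      ∐ fun _ : Fin (C.attach.sup b) => Pic13.twistOn k i (Coh.structureModule X) (-(t : ℤ)) :=
    Limits.Sigma.desc fun j => Limits.Sigma.ι (fun _ : Fin (C.attach.sup b) => Pic13.twistOn k i (Coh.structureModule X) (-(t : ℤ))) (Fin.castLE hle j)
  let p' : (∐ fun _ : Fin (C.attach.sup b) => Pic13.twistOn k i (Coh.structureModule X) (-(t : ℤ))) ⟶ F :=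
    Limits.Sigma.desc fun j => if h : j.1 < b ⟨V, hV⟩ then
      Limits.Sigma.ι (fun _ : Fin (b ⟨V, hV⟩) => Pic13.twistOn k i (Coh.structureModule X) (-(t : ℤ))) ⟨j.1, h⟩ ≫ p else 0
  have hap : a ≫ p' = p := Limits.Sigma.hom_ext _ _ fun j => by simp [a, p']
  haveI : Epi (a ≫ p') := by rw [hap]; exact hp
  exact ⟨p', epi_of_epi a p'⟩

end BoundedEpi

end Groth.L02.Quot
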