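import Groth.Agent.L02.Quot.CoreLemmas
import Groth.Agent.L17.Strat.Locus
import Groth.Agent.L17.Strat.GenFibre
import Groth.Agent.L18.RelAmpleOps
import Groth.Agent.L16.ProjSpace.Basic

/-!
# The scheme of quotients with a given Hilbert polynomial
-/

set_option autoImplicit false
set_option linter.style.haveILetI false
set_option linter.unusedSectionVars false
set_option backward.isDefEq.respectTransparency false
set_option backward.isDefEq.respectTransparency.types false

universe u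

open CategoryTheory CategoryTheory.Limits AlgebraicGeometry TopologicalSpace Opposite

noncomputable section

namespace Groth.L02.Quot

open Groth.L18.Frame (rs ro rs_rs ro_ro rs_smul ro_self rs_self pull pull_rs pull_smul)
open Groth.L17.Strat (fib)
open Groth.L18

theorem FieldOK.of_iso {X K : Scheme.{u}} {f : X ⟶ K} {E₁ E₂ F : X.Modules} {N r : ℕ} {ε₁ : Fin N → Γ(E₁, ⊤)}
    {ε₂ : Fin N → Γ(E₂, ⊤)} (i : E₁ ≅ E₂) (hi : ∀ j, i.hom.app ⊤ (ε₁ j) = ε₂ j) (q : E₂ ⟶ F)
    (h : FieldOK f ε₁ (i.hom ≫ q) r) : FieldOK f ε₂ q r := by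
  have hc : ∀ c, i.hom.app (f ⁻¹ᵁ ⊤) (comb f ε₁ ⊤ c) = comb f ε₂ ⊤ c := fun c =>
    (app_comb f ε₁ i.hom ⊤ c).trans (congrArg (fun z => comb f z ⊤ c) (funext hi))
  have hπ : ∀ c, πL f ε₂ q ⊤ c = πL f ε₁ (i.hom ≫ q) ⊤ c := fun c => by
    show q.app _ (comb f ε₂ ⊤ c) = q.app _ (i.hom.app _ (comb f ε₁ ⊤ c))
    rw [hc]
  refine ⟨h.basis, fun z => ?_, fun x => ?_⟩
  · obtain ⟨c, hc'⟩ := h.span z
    exact ⟨c, (hπ c).trans hc'⟩
  · have hx : x ∈ f ⁻¹ᵁ ⊤ := trivial
    have h1 := GenKerAt.of_iso i q (h.gen x)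
    refine le_antisymm (h1.le.trans (Submodule.span_le.2 ?_)) (spanGerm_le_ker q _ (fun c => c.2) x hx)
    rintro _ ⟨c, rfl⟩
    refine Submodule.subset_span ⟨⟨c.1, ?_⟩, ?_⟩
    · exact (hπ c.1).trans c.2
    · show E₂.presheaf.germ _ x hx (comb f ε₂ ⊤ c.1) = _
      rw [← hc]

variable {X S : Scheme.{u}} (f : X ⟶ S) (L E : X.Modules) {N ρ r R : ℕ} (ε : Fin N → Γ(E, ⊤)) (Φ : Polynomial ℚ)
  (e : Fin (R + 1) ≃ Pl.Sub N ρ)

/-- What is asked of the quotients with the given Hilbert polynomial on fibres over fields. -/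
def FieldHyp (r : ℕ) : Prop :=
  ∀ (k : Type u) [Field k] (u : Spec (CommRingCat.of k) ⟶ S) {Xk : Scheme.{u}} (g : Xk ⟶ X)
    (h : Xk ⟶ Spec (CommRingCat.of k)), IsPullback g h f u → ∀ (F : Xk.Modules) (q : (Scheme.Modules.pullback g).obj E ⟶ F),
      Coh.IsCoh F → Epi q →
      (∀ n : ℕ, (@Curv2.euler k _ Xk ⟨h⟩ (CohB1.tensorMod F (CohB1.tensorPow ((Scheme.Modules.pullback g).obj L) n)) : ℚ) =
        Φ.eval (n : ℚ)) →
      Subsingleton (Coh.HH Xk F 1) ∧ FieldOK h (pullε ε g) q r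

/-- All fibres have the given Hilbert polynomial. -/
def HasPoly (T : Over S) (F : (PicF.XT f T).Modules) : Prop :=
  ∀ (t : T.left) (n : ℕ), (fib (PicF.XTproj f T) (FGA.ET f L T) F t n : ℚ) = Φ.eval (n : ℚ)

variable {f L E ε Φ}

theorem isLocallyNoetherian_XT [IsProper f] (T : Over S) [IsLocallyNoetherian T.left] :
    IsLocallyNoetherian (PicF.XT f T) :=
  haveI : IsProper (PicF.XTproj f T) := MorphismProperty.pullback_snd (P := @IsProper) _ _ inferInstance
  LocallyOfFiniteType.isLocallyNoetherian (PicF.XTproj f T)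

theorem relHyp_of_family [IsProper f] (hE : Coh.IsCoh E) (H : FieldHyp f L E ε Φ r) (T : Over S)
    [IsLocallyNoetherian T.left] {F : (PicF.XT f T).Modules} (q : FGA.ET f E T ⟶ F) [Epi q] (hF : Coh.IsCoh F)
    (hfl : FlatMod.IsFlatOver (PicF.XTproj f T) F) (hP : HasPoly f L Φ T F) :
    RelHyp (PicF.XTproj f T) (εT f E ε T) q r := by
  have key : ∀ t : T.left, Subsingleton (CohIII.fiberH (PicF.XTproj f T) F t 1) ∧
      FieldOK ((PicF.XTproj f T).fiberToSpecResidueField t) (pullε (εT f E ε T) ((PicF.XTproj f T).fiberι t))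
        ((Scheme.Modules.pullback ((PicF.XTproj f T).fiberι t)).map q) r := by
    intro t
    let ι := (PicF.XTproj f T).fiberι t
    let hs := (PicF.XTproj f T).fiberToSpecResidueField t
    let p := pullback.fst f T.hom
    have sq : IsPullback (ι ≫ p) hs f (T.left.fromSpecResidueField t ≫ T.hom) :=
      (IsPullback.of_hasPullback _ (T.left.fromSpecResidueField t)).paste_horiz (IsPullback.of_hasPullback f T.hom)
    let i := ((Scheme.Modules.pullbackComp ι p).app E).symm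
    haveI := Groth.L14.Quot.epi_pullback_map ι q
    letI : ((PicF.XTproj f T).fiber t).Over (Spec (CommRingCat.of (T.left.residueField t))) := ⟨hs⟩
    have hcohF : Coh.IsCoh ((Scheme.Modules.pullback ι).obj F) := Groth.L19.LimMod.isCoh_pullback' ι hF
    obtain ⟨h1, hOK⟩ := H (T.left.residueField t) _ (ι ≫ p) hs sq _ (i.hom ≫ (Scheme.Modules.pullback ι).map q) hcohF
      inferInstance (fun n => by
        obtain ⟨e1⟩ := Groth.L17.Strat.nonempty_fibre_twist (PicF.XTproj f T) (FGA.ET f L T) F t n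
        refine Eq.trans ?_ (hP t n)
        exact congrArg (Int.cast (R := ℚ)) (Groth.L03.Euler.euler_iso (k := T.left.residueField t)
          (Groth.L00.Tensor.tensorIso (Iso.refl _) (Groth.L00.Tensor.tensorPowIso ((Scheme.Modules.pullbackComp ι p).app L).symm n) ≪≫ e1)))
    exact ⟨h1, FieldOK.of_iso i (fun j => Groth.L19.ProjBdl.pull_comp ι p E ⊤ (ε j)) _ hOK⟩
  exact ⟨inferInstance, Groth.L19.LimMod.isCoh_pullback' _ hE, hF, hfl, fun t => (key t).1, fun t => (key t).2⟩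

variable (f L E ε Φ)

/-- The scheme parametrising the quotients with the given Hilbert polynomial, inside projective space. -/
theorem exists_quot (e : Fin (R + 1) ≃ Pl.Sub N ρ) [IsNoetherian S] [IsProper f] (hL : RelAmple.IsRelAmple f L) (hE : Coh.IsCoh E)
    (hrρ : r + ρ = N) (H : FieldHyp f L E ε Φ r) :
    ∃ (Q : Over S) (c : Q ⟶ Over.mk (CohB1.ProjSpaceOver.toBase R S)) (K : FGA.QuotSet f E Q),
      IsLocallyNoetherian Q.left ∧ IsImmersion c.left ∧ QuasiCompact c.left ∧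
      HasPoly f L Φ Q (cokernel K.1.arrow) ∧
      ∀ (T : Over S) [IsLocallyNoetherian T.left] (K' : FGA.QuotSet f E T),
        HasPoly f L Φ T (cokernel K'.1.arrow) → ∃! g : T ⟶ Q, FGA.quotPull f E g K.1 = K'.1 := by
  classical
  let π := CohB1.ProjSpaceOver.toBase R S
  let PT : Over S := Over.mk π
  haveI : IsProper π := MorphismProperty.pullback_snd (P := @IsProper) _ _
    (inferInstanceAs (IsProper (CohB1.ProjSpace.toSpec R (ULift.{u} ℤ))))
  haveI hPT : IsLocallyNoetherian PT.left := LocallyOfFiniteType.isLocallyNoetherian π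
  let cP : PT.left ⟶ PP R := pullback.fst (CohB1.ProjSpace.toSpec R (ULift.{u} ℤ)) (specULiftZIsTerminal.from S)
  let fP := PicF.XTproj f PT
  haveI : IsProper fP := MorphismProperty.pullback_snd (P := @IsProper) _ _ inferInstance
  haveI : LocallyOfFinitePresentation fP := inferInstance
  haveI := isLocallyNoetherian_XT (f := f) PT
  obtain ⟨F, q, hq, hF, hgen⟩ := exists_fam e cP fP (FGA.ET f E PT) (εT f E ε PT) (Groth.L19.LimMod.isCoh_pullback' _ hE)
  haveI := hq
  have hLP : RelAmple.IsRelAmple fP (FGA.ET f L PT) := Groth.L18.Ample.isRelAmple_baseChange f π hL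
  obtain ⟨W, i, hi, hiq, hifp, -, huniv⟩ := Groth.L17.Strat.exists_locus fP (FGA.ET f L PT) F Φ hLP
    (Groth.L15.Ref.isFP_of_isCoh hF)
  haveI := hi; haveI := hiq; haveI := hifp
  let Q : Over S := Over.mk (i ≫ π)
  let c : Q ⟶ PT := Over.homMk i
  haveI hQ : IsLocallyNoetherian Q.left := LocallyOfFiniteType.isLocallyNoetherian i
  haveI := isLocallyNoetherian_XT (f := f) Q
  have hqc : GenCompat fP (εT f E ε PT) e q cP := hgen
  have hin : Groth.L17.Strat.InLocus fP (FGA.ET f L PT) F Φ i := (huniv W i).1 ⟨𝟙 W, Category.id_comp i⟩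
  have hpoly : ∀ (T : Over S) (g : T ⟶ PT) (G : (PicF.XT f T).Modules)
      (eG : (Scheme.Modules.pullback (PicF.XTmap f g)).obj F ≅ G) (t : T.left) (n : ℕ),
      fib (PicF.XTproj f T) (FGA.ET f L T) G t n = fib fP (FGA.ET f L PT) F (g.left t) n := fun T g G eG t n =>
    Groth.L17.Strat.fib_baseChange fP (FGA.ET f L PT) F
      (Groth.L17.Strat.isInvertible_of_isRelAmple hLP) (fun s => Groth.L19.LimMod.isCoh_pullback' _ hF)
      (Groth.L14.Quot.isPullback_XTmap f g) _ _ (FGA.ETiso f L g) eG t n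
  let qQ := pullQ f E c q
  haveI : Epi qQ := epi_pullQ f E c q
  have hFQ : Coh.IsCoh ((Scheme.Modules.pullback (PicF.XTmap f c)).obj F) := Groth.L19.LimMod.isCoh_pullback' _ hF
  let eQ : (Scheme.Modules.pullback (PicF.XTmap f c)).obj F ≅ cokernel (kernelSubobject qQ).arrow :=
    (exists_iso_of_kernel_eq qQ (cokernel.π (kernelSubobject qQ).arrow) (kernelSubobject_cokernel_π _).symm).choose
  refine ⟨Q, c, ⟨kernelSubobject qQ, Groth.L16.CohSupport.isCoh_of_iso eQ hFQ,
    Groth.L29.DC.RelBC.isFlatOver_of_iso _ eQ (hin.1.isFlatOver (Groth.L14.Quot.isPullback_XTmap f c))⟩,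
    hQ, hi, hiq, fun t n => by rw [hpoly Q c _ eQ t n]; exact hin.2 t n, fun T _ K' hK' => ?_⟩
  haveI : IsProper (PicF.XTproj f T) := MorphismProperty.pullback_snd (P := @IsProper) _ _ inferInstance
  haveI : LocallyOfFinitePresentation (PicF.XTproj f T) := inferInstance
  let q' := cokernel.π K'.1.arrow
  have hrel := relHyp_of_family hE H T q' K'.2.1 K'.2.2 hK'
  obtain ⟨φ, hφ, huniq⟩ := existsUnique_compat e hrρ hrel
  have hφ' : GenCompat (PicF.XTproj f T) (εT f E ε T) e q' φ := Compat.genCompat hrρ hrel hφ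
  have hgenQ : GenCompat (PicF.XTproj f Q) (εT f E ε Q) e qQ (i ≫ cP) := GenCompat.pullQ f E ε e c hqc
  let g₀ : T ⟶ PT := Over.homMk (pullback.lift φ T.hom (specULiftZIsTerminal.hom_ext _ _)) (pullback.lift_snd _ _ _)
  have hg₀ : g₀.left ≫ cP = φ := pullback.lift_fst _ _ _
  haveI := epi_pullQ f E g₀ q
  have hgen₀ : GenCompat (PicF.XTproj f T) (εT f E ε T) e (pullQ f E g₀ q) φ := hg₀ ▸ GenCompat.pullQ f E ε e g₀ hqc
  obtain ⟨d, -⟩ := exists_iso_of_kernel_eq _ _ (hgen₀.kernel_eq hφ')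
  have hin₀ : Groth.L17.Strat.InLocus fP (FGA.ET f L PT) F Φ g₀.left :=
    ⟨Groth.L17.Strat.flatPb_of_isPullback (Groth.L14.Quot.isPullback_XTmap f g₀)
      (Groth.L29.DC.RelBC.isFlatOver_of_iso _ d.symm K'.2.2),
      fun t n => by rw [← hpoly T g₀ _ d t n]; exact hK' t n⟩
  obtain ⟨h, hh⟩ := (huniv T.left g₀.left).2 hin₀
  let g : T ⟶ Q := Over.homMk h (by
    show h ≫ i ≫ π = T.hom
    rw [← Category.assoc, hh]; exact Over.w g₀)
  have hker : ∀ g₁ : T ⟶ Q, GenCompat (PicF.XTproj f T) (εT f E ε T) e (pullQ f E g₁ qQ) (g₁.left ≫ i ≫ cP) :=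
    fun g₁ => GenCompat.pullQ f E ε e g₁ hgenQ
  refine ⟨g, ?_, fun g₁ hg₁ => ?_⟩
  · show FGA.quotPull f E g (kernelSubobject qQ) = K'.1
    rw [quotPull_kernel, ← kernelSubobject_cokernel_π K'.1]
    refine GenCompat.kernel_eq (φ := φ) ?_ hφ'
    have := hker g
    rwa [show g.left ≫ i ≫ cP = φ by rw [← Category.assoc, show g.left ≫ i = g₀.left from hh, hg₀]] at this
  · have h1 : kernelSubobject (pullQ f E g₁ qQ) = kernelSubobject q' := by
      rw [← quotPull_kernel, kernelSubobject_cokernel_π]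
      exact hg₁
    haveI := epi_pullQ f E g₁ qQ
    have hc₁ : Compat e (PicF.XTproj f T) (εT f E ε T) q' (g₁.left ≫ i ≫ cP) := fun a U hU hUa J l =>
      app_eq_zero_of_kernel_eq _ _ h1 ((hker g₁).compat a U hU hUa J l)
    have h2 := huniq _ hc₁
    ext
    rw [← cancel_mono i]
    show g₁.left ≫ i = h ≫ i
    rw [hh]
    refine pullback.hom_ext ?_ ?_
    · show (g₁.left ≫ i) ≫ cP = g₀.left ≫ cP
      rw [hg₀, Category.assoc]; exact h2
    · show (g₁.left ≫ i) ≫ π = g₀.left ≫ π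
      rw [Category.assoc]
      exact (Over.w g₁).trans (Over.w g₀).symm

end Groth.L02.Quot
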