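import Groth.Agent.L02.Quot.Fam
import Groth.Agent.L14.Quot.Pull
import Groth.Prelude.Def_FGA

/-!
# Kernels of quotients and their pullbacks in terms of coordinates
-/

set_option autoImplicit false
set_option linter.style.haveILetI false
set_option linter.unusedSectionVars false
set_option backward.isDefEq.respectTransparency false
set_option backward.isDefEq.respectTransparency.types false

universe u

open CategoryTheory CategoryTheory.Limits AlgebraicGeometry TopologicalSpace Opposite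

noncomputable section

namespace Groth.L02.Quot

open Groth.L18.Frame (rs ro rs_rs ro_ro rs_smul ro_self rs_self pull pull_rs pull_smul)
open Groth.L16.EpiFrames (app_rs)
open Groth.L18

variable {X : Scheme.{u}} {E E' F G : X.Modules}

theorem stkₗ_comp (a : E ⟶ E') (b : E' ⟶ F) (x : X) (z : E.presheaf.stalk x) :
    stkₗ (a ≫ b) x z = stkₗ b x (stkₗ a x z) :=
  congrArg (fun k => (ConcreteCategory.hom k) z) ((Groth.L00.Stk.F X x).map_comp a b)

theorem stkₗ_id (x : X) (z : E.presheaf.stalk x) : stkₗ (𝟙 E) x z = z :=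
  congrArg (fun k => (ConcreteCategory.hom k) z) ((Groth.L00.Stk.F X x).map_id E)

/-- The kernel is generated by the sections whenever their germs agree with a generating family. -/
theorem GenKerAt.congr {q : E ⟶ F} {ι : Type*} {U V : X.Opens} {σ : ι → Γ(E, U)} {σ' : ι → Γ(E, V)} {x : X}
    {hx : x ∈ U} {hx' : x ∈ V} (h : GenKerAt q σ x hx)
    (hg : ∀ i, E.presheaf.germ U x hx (σ i) = E.presheaf.germ V x hx' (σ' i)) : GenKerAt q σ' x hx' := by
  unfold GenKerAt spanGerm at *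
  rw [h, funext hg]

theorem GenKerAt.of_iso (e : E ≅ E') (q : E' ⟶ F) {ι : Type*} {U : X.Opens} {σ : ι → Γ(E, U)} {x : X} {hx : x ∈ U}
    (h : GenKerAt (e.hom ≫ q) σ x hx) : GenKerAt q (fun i => e.hom.app U (σ i)) x hx := by
  have hg : ∀ i, E'.presheaf.germ U x hx (e.hom.app U (σ i)) = stkₗ e.hom x (E.presheaf.germ U x hx (σ i)) :=
    fun i => (stkₗ_germ e.hom x hx (σ i)).symm
  refine le_antisymm (fun z hz => ?_) (Submodule.span_le.2 ?_)
  · have e1 : stkₗ e.hom x (stkₗ e.inv x z) = z := by rw [← stkₗ_comp, e.inv_hom_id, stkₗ_id]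
    have h1 : stkₗ e.inv x z ∈ spanGerm σ x hx := h ▸ (show stkₗ (e.hom ≫ q) x (stkₗ e.inv x z) = 0 by
      rw [stkₗ_comp, e1]; exact hz)
    rw [← e1]
    refine (Submodule.map_le_iff_le_comap.2 ?_) (Submodule.mem_map_of_mem (f := stkₗ e.hom x) h1)
    refine Submodule.span_le.2 ?_
    rintro _ ⟨i, rfl⟩
    exact Submodule.subset_span ⟨i, hg i⟩
  · rintro _ ⟨i, rfl⟩
    have h2 : stkₗ (e.hom ≫ q) x (E.presheaf.germ U x hx (σ i)) = 0 :=
      LinearMap.mem_ker.1 (h ▸ Submodule.subset_span ⟨i, rfl⟩)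
    rw [stkₗ_comp, ← hg] at h2
    exact h2

theorem kernelSubobject_cokernel_π (K : Subobject E) : kernelSubobject (cokernel.π K.arrow) = K := by
  have h := (ShortComplex.exact_iff_image_eq_kernel _).1 (ShortComplex.exact_cokernel K.arrow)
  rw [← h]
  exact (imageSubobject_mono K.arrow).trans K.mk_arrow

/-- Epimorphisms with the same kernel differ by an isomorphism of the targets. -/
theorem exists_iso_of_kernel_eq (q₁ : E ⟶ F) (q₂ : E ⟶ G) [Epi q₁] [Epi q₂]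
    (h : kernelSubobject q₁ = kernelSubobject q₂) : ∃ d : F ≅ G, q₁ ≫ d.hom = q₂ := by
  have key : ∀ {A B : X.Modules} (a : E ⟶ A) (b : E ⟶ B) [Epi a], kernelSubobject a = kernelSubobject b →
      ∃ d : A ⟶ B, a ≫ d = b := by
    intro A B a b _ hab
    have e1 : kernel.ι a ≫ b = 0 := by
      have e2 : (kernelSubobject a).arrow ≫ b = 0 := by rw [hab]; exact kernelSubobject_arrow_comp b
      rw [← kernelSubobject_arrow' a, Category.assoc, e2, comp_zero]
    exact ⟨(Abelian.epiIsCokernelOfKernel (KernelFork.ofι (kernel.ι a) (kernel.condition a)) (kernelIsKernel a)).desc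
      (CokernelCofork.ofπ b e1),
      (Abelian.epiIsCokernelOfKernel (KernelFork.ofι (kernel.ι a) (kernel.condition a)) (kernelIsKernel a)).fac
        (CokernelCofork.ofπ b e1) WalkingParallelPair.one⟩
  obtain ⟨d, hd⟩ := key q₁ q₂ h
  obtain ⟨d', hd'⟩ := key q₂ q₁ h.symm
  exact ⟨⟨d, d', (cancel_epi q₁).1 (by rw [← Category.assoc, hd, hd', Category.comp_id]),
    (cancel_epi q₂).1 (by rw [← Category.assoc, hd', hd, Category.comp_id])⟩, hd⟩

/-- Quotients with the same kernel kill the same sections. -/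
theorem app_eq_zero_of_kernel_eq (q₁ : E ⟶ F) (q₂ : E ⟶ G) [Epi q₁] [Epi q₂]
    (h : kernelSubobject q₁ = kernelSubobject q₂) {U : X.Opens} {s : Γ(E, U)} (hs : q₁.app U s = 0) :
    q₂.app U s = 0 := by
  obtain ⟨d, hd⟩ := exists_iso_of_kernel_eq q₁ q₂ h
  rw [← hd]
  show d.hom.app U (q₁.app U s) = 0
  rw [hs, map_zero]

section Coords

variable {S : Scheme.{u}} (f : X ⟶ S) {N ρ R : ℕ} (ε : Fin N → Γ(E, ⊤)) (e : Fin (R + 1) ≃ Pl.Sub N ρ)

/-- The kernel is generated by the tautological vectors of a point. -/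
def GenCompat (q : E ⟶ F) (φ : S ⟶ PP R) : Prop :=
  ∀ (a : Pl.Sub N ρ) (U : S.Opens) (hU : U ≤ φ ⁻¹ᵁ PUP.D (e.symm a)) (x : X) (hx : x ∈ f ⁻¹ᵁ U),
    GenKerAt q (fun p : (Fin ρ → Fin N) × Fin ρ => comb f ε U (Pl.vv (coordOf e φ a hU) p.1 p.2)) x hx

theorem germ_comb_vv {φ : S ⟶ PP R} (a : Pl.Sub N ρ) {U V : S.Opens} (hU : U ≤ φ ⁻¹ᵁ PUP.D (e.symm a)) (hVU : V ≤ U)
    (p : (Fin ρ → Fin N) × Fin ρ) (x : X) (hx : x ∈ f ⁻¹ᵁ V) :
    E.presheaf.germ (f ⁻¹ᵁ U) x (hVU hx) (comb f ε U (Pl.vv (coordOf e φ a hU) p.1 p.2)) =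
      E.presheaf.germ (f ⁻¹ᵁ V) x hx (comb f ε V (Pl.vv (coordOf e φ a (hVU.trans hU)) p.1 p.2)) := by
  have h : (fun i => ro hVU (Pl.vv (coordOf e φ a hU) p.1 p.2 i)) = Pl.vv (coordOf e φ a (hVU.trans hU)) p.1 p.2 :=
    funext fun i => (Pl.map_vv (S.presheaf.map (homOfLE hVU).op).hom _ p.1 p.2 i).trans
      (congrArg (fun z => Pl.vv z p.1 p.2 i) (funext fun s => ro_coordOf e φ a hU hVU s))
  rw [← h, ← comb_rs f ε hVU]
  exact (TopCat.Presheaf.germ_res_apply _ _ _ _ _).symm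

variable {f ε e}

theorem GenCompat.compat {q : E ⟶ F} {φ : S ⟶ PP R} (h : GenCompat f ε e q φ) : Compat e f ε q φ := by
  intro a U hU _ J l
  rw [mem_combKer f ε]
  refine TopCat.Presheaf.section_ext ⟨F.presheaf, F.isSheaf⟩ (f ⁻¹ᵁ U) _ _ fun x hx => ?_
  have h1 : stkₗ q x (E.presheaf.germ (f ⁻¹ᵁ U) x hx (comb f ε U (Pl.vv (coordOf e φ a hU) J l))) = 0 :=
    LinearMap.mem_ker.1 ((h a U hU x hx).ge (Submodule.subset_span ⟨(J, l), rfl⟩))
  rw [stkₗ_germ] at h1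
  exact h1.trans (map_zero _).symm

theorem GenCompat.kernel_eq {q₁ : E ⟶ F} {q₂ : E ⟶ G} {φ : S ⟶ PP R} (h₁ : GenCompat f ε e q₁ φ)
    (h₂ : GenCompat f ε e q₂ φ) : kernelSubobject q₁ = kernelSubobject q₂ := by
  refine kernelSubobject_eq q₁ q₂ fun x => ?_
  obtain ⟨a, ha⟩ := exists_mem_D e φ (f x)
  exact (h₁ a _ le_rfl x ha).trans (h₂ a _ le_rfl x ha).symm

theorem Compat.genCompat [IsLocallyNoetherian S] [IsProper f] [LocallyOfFinitePresentation f] {r : ℕ}
    {q : E ⟶ F} {φ : S ⟶ PP R} (hrρ : r + ρ = N) (h : RelHyp f ε q r) (hc : Compat e f ε q φ) :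
    GenCompat f ε e q φ := by
  intro a U hU x hx
  obtain ⟨_, ⟨V, hV, rfl⟩, hxV, hVU⟩ := S.isBasis_affineOpens.exists_subset_of_mem_open (show f x ∈ U from hx) U.2
  refine (Killed.genKerAt hrρ h (hc a V (le_trans hVU hU) hV) (coordOf_self e φ a _) x hxV).congr fun p => ?_
  exact (germ_comb_vv f ε e a hU hVU p x hxV).symm

end Coords

section Quot

variable {X₀ S : Scheme.{u}} (f : X₀ ⟶ S) (E₀ : X₀.Modules) {N ρ R : ℕ} (ε : Fin N → Γ(E₀, ⊤))
  (e : Fin (R + 1) ≃ Pl.Sub N ρ) {T T' : Over S}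

/-- The generators on a base change. -/
abbrev εT (T : Over S) : Fin N → Γ(FGA.ET f E₀ T, ⊤) := pullε ε (pullback.fst f T.hom)

/-- The pullback of a quotient of `E_T`. -/
abbrev pullQ (g : T' ⟶ T) {F : (PicF.XT f T).Modules} (q : FGA.ET f E₀ T ⟶ F) :
    FGA.ET f E₀ T' ⟶ (Scheme.Modules.pullback (PicF.XTmap f g)).obj F :=
  (FGA.ETiso f E₀ g).inv ≫ (Scheme.Modules.pullback (PicF.XTmap f g)).map q

theorem epi_pullQ (g : T' ⟶ T) {F : (PicF.XT f T).Modules} (q : FGA.ET f E₀ T ⟶ F) [Epi q] :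
    Epi (pullQ f E₀ g q) := by
  haveI := Groth.L14.Quot.epi_pullback_map (PicF.XTmap f g) q
  infer_instance

theorem ETiso_ε (g : T' ⟶ T) (i : Fin N) :
    (FGA.ETiso f E₀ g).hom.app ⊤ (pullε (εT f E₀ ε T) (PicF.XTmap f g) i) = εT f E₀ ε T' i :=
  (Groth.L14.Quot.ETiso_pull f E₀ g ⊤ (ε i) le_top).trans (rs_self _ _ _)

theorem GenCompat.pullQ (g : T' ⟶ T) {F : (PicF.XT f T).Modules} {q : FGA.ET f E₀ T ⟶ F} [Epi q]
    {φ : T.left ⟶ PP R} (h : GenCompat (PicF.XTproj f T) (εT f E₀ ε T) e q φ) :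
    GenCompat (PicF.XTproj f T') (εT f E₀ ε T') e (pullQ f E₀ g q) (g.left ≫ φ) := by
  intro a U hU x hx
  let gX := PicF.XTmap f g
  let V := φ ⁻¹ᵁ PUP.D (e.symm a)
  have w : gX ≫ PicF.XTproj f T = PicF.XTproj f T' ≫ g.left := pullback.lift_snd _ _ _
  have hUV : U ≤ g.left ⁻¹ᵁ V := hU
  have hxV : gX x ∈ PicF.XTproj f T ⁻¹ᵁ V := preimage_le (PicF.XTproj f T) (PicF.XTproj f T') gX g.left hUV w hx
  have h1 : GenKerAt ((Scheme.Modules.pullback gX).map q)
      (pullσ (fun p : (Fin ρ → Fin N) × Fin ρ => comb (PicF.XTproj f T) (εT f E₀ ε T) V (Pl.vv (coordOf e φ a le_rfl) p.1 p.2)) gX)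
      x hxV := (h a V le_rfl (gX x) hxV).pullback _ _ gX
  rw [show (Scheme.Modules.pullback gX).map q = (FGA.ETiso f E₀ g).hom ≫ Groth.L02.Quot.pullQ f E₀ g q by
    rw [Groth.L02.Quot.pullQ, Iso.hom_inv_id_assoc]] at h1
  refine (GenKerAt.of_iso (FGA.ETiso f E₀ g) _ h1).congr fun p => ?_
  have hle := preimage_le (PicF.XTproj f T) (PicF.XTproj f T') gX g.left hUV w
  have e1 : ((Scheme.Modules.pullback gX).obj (FGA.ET f E₀ T)).presheaf.map (homOfLE hle).op
        (pullσ (fun p : (Fin ρ → Fin N) × Fin ρ => comb (PicF.XTproj f T) (εT f E₀ ε T) V (Pl.vv (coordOf e φ a le_rfl) p.1 p.2)) gX p) =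
      comb (PicF.XTproj f T') (pullε (εT f E₀ ε T) gX) U (Pl.vv (coordOf e (g.left ≫ φ) a hU) p.1 p.2) := by
    refine (pull_comb (PicF.XTproj f T) (εT f E₀ ε T) (PicF.XTproj f T') gX g.left w hUV _).trans ?_
    refine congrArg (comb _ _ U) (funext fun i => ?_)
    refine (Pl.map_vv (g.left.appLE V U hUV).hom _ p.1 p.2 i).trans (congrArg (fun z => Pl.vv z p.1 p.2 i) (funext fun s => ?_))
    simp only [coordOf]
    exact ConcreteCategory.congr_hom (Scheme.Hom.appLE_comp_appLE g.left φ _ _ _ le_rfl hUV) (cf e a s)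
  have e2 : rs (FGA.ET f E₀ T') hle ((FGA.ETiso f E₀ g).hom.app _
        (pullσ (fun p : (Fin ρ → Fin N) × Fin ρ => comb (PicF.XTproj f T) (εT f E₀ ε T) V (Pl.vv (coordOf e φ a le_rfl) p.1 p.2)) gX p)) =
      comb (PicF.XTproj f T') (εT f E₀ ε T') U (Pl.vv (coordOf e (g.left ≫ φ) a hU) p.1 p.2) := by
    rw [← app_rs]
    refine (congrArg _ e1).trans ((app_comb _ _ _ _ _).trans ?_)
    exact congrArg (fun z => comb (PicF.XTproj f T') z U _) (funext (ETiso_ε f E₀ ε g))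
  rw [← e2]
  exact (TopCat.Presheaf.germ_res_apply _ _ _ _ _).symm

theorem quotPull_kernel (g : T' ⟶ T) {F : (PicF.XT f T).Modules} (q : FGA.ET f E₀ T ⟶ F) [Epi q] :
    FGA.quotPull f E₀ g (kernelSubobject q) = kernelSubobject (pullQ f E₀ g q) := by
  let K := kernelSubobject q
  let Sq := ShortComplex.mk K.arrow q (kernelSubobject_arrow_comp q)
  have hex : Sq.Exact := (ShortComplex.exact_iff_image_eq_kernel Sq).2 ((imageSubobject_mono K.arrow).trans K.mk_arrow)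
  haveI : Epi Sq.g := inferInstanceAs (Epi q)
  haveI := (Scheme.Modules.pullbackPushforwardAdjunction (PicF.XTmap f g)).isLeftAdjoint
  have h2 := hex.map_of_epi_of_preservesCokernel (Scheme.Modules.pullback (PicF.XTmap f g)) inferInstance inferInstance
  let Sq' := ShortComplex.mk ((Scheme.Modules.pullback (PicF.XTmap f g)).map K.arrow ≫ (FGA.ETiso f E₀ g).hom)
    (pullQ f E₀ g q) (by rw [pullQ, Category.assoc, Iso.hom_inv_id_assoc, ← Functor.map_comp, kernelSubobject_arrow_comp, Functor.map_zero])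
  let ι : Sq.map (Scheme.Modules.pullback (PicF.XTmap f g)) ≅ Sq' :=
    ShortComplex.isoMk (Iso.refl _) (FGA.ETiso f E₀ g) (Iso.refl _) (by simp [Sq', Sq]) (by simp [Sq', Sq, pullQ])
  have h3 : Sq'.Exact := ShortComplex.exact_of_iso ι h2
  exact (ShortComplex.exact_iff_image_eq_kernel Sq').1 h3

end Quot

end Groth.L02.Quot
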