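import Groth.Agent.L02.Quot.Points
import Groth.Agent.L16.ProjSpace.QuotTwist
import Groth.Agent.L16.AffineBC.Pullback
import Groth.Agent.L19.LimMod.Zero
import Groth.Agent.L16.CohKernel
import Groth.Agent.L16.ProperFinite
import Groth.Agent.L16.Existence.Lemmas
import Mathlib.CategoryTheory.Limits.Shapes.Biproducts

/-!
# The tautological family of quotients over projective space
-/

set_option autoImplicit false
set_option linter.style.haveILetI false
set_option linter.unusedSectionVars false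
set_option backward.isDefEq.respectTransparency false
set_option backward.isDefEq.respectTransparency.types false

universe u

open CategoryTheory CategoryTheory.Limits AlgebraicGeometry TopologicalSpace Opposite

noncomputable section

namespace Groth.L02.Quot

open Groth.L18.Frame (rs ro rs_rs ro_ro rs_smul ro_self rs_self pull pull_rs pull_smul IsFrame)

/-- The stalk of a module with a frame is generated by its germ. -/
theorem span_germ_frame {X : Scheme.{u}} {L : X.Modules} {W : X.Opens} {e : Γ(L, W)} (he : IsFrame L W e) (x : X)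
    (hx : x ∈ W) (z : L.presheaf.stalk x) : ∃ c : X.presheaf.stalk x, z = c • L.presheaf.germ W x hx e := by
  obtain ⟨V, hxV, s, rfl⟩ := L.presheaf.exists_germ_eq z
  obtain ⟨c, hc⟩ := he.exists_coeff (inf_le_right : V ⊓ W ≤ W) (rs L inf_le_left s)
  refine ⟨X.presheaf.germ (V ⊓ W) x ⟨hxV, hx⟩ c, ?_⟩
  rw [← TopCat.Presheaf.germ_res_apply L.presheaf (homOfLE (inf_le_left : V ⊓ W ≤ V)) x ⟨hxV, hx⟩ s,
    ← TopCat.Presheaf.germ_res_apply L.presheaf (homOfLE (inf_le_right : V ⊓ W ≤ W)) x ⟨hxV, hx⟩ e,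
    ← Groth.L20.ModStalk.germ_smul L]
  exact congrArg (L.presheaf.germ (V ⊓ W) x ⟨hxV, hx⟩) hc.symm

open Groth.L18

variable {N ρ R : ℕ} (e : Fin (R + 1) ≃ Pl.Sub N ρ) {XP P : Scheme.{u}} (c : P ⟶ PP R) (fP : XP ⟶ P)
  (E : XP.Modules) (ε : Fin N → Γ(E, ⊤))

/-- The frames of the twists on projective space. -/
abbrev projData (R : ℕ) : Groth.L16.EpiFrames.Data (PP.{u} R) (ULift.{u} (Fin (R + 1))) :=
  Groth.L16.ProjTwist.framesData (CohB1.polyGrading R (ULift.{u} ℤ))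
    (fun i => ⟨MvPolynomial.X i.down, Groth.L18.PS.X_mem R i.down⟩) one_pos (fun x => by
      obtain ⟨i, hi⟩ := Opens.mem_iSup.mp ((Groth.L18.PS.iSup_chart (n := R) (R := ULift.{u} ℤ)).ge (trivial : x ∈ ⊤))
      exact ⟨⟨i⟩, hi⟩)

/-- The section attached to an index on a chart. -/
def chartSec (p : (Fin ρ → Fin N) × Fin ρ) (k : ULift.{u} (Fin (R + 1))) :
    Γ((Scheme.Modules.pushforward (fP ≫ c)).obj E, (projData R).U k) :=
  comb fP ε (c ⁻¹ᵁ (projData R).U k)
    (Pl.vv (fun s => c.app ((projData R).U k) (PUP.cc k.down (e.symm s))) p.1 p.2)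

theorem chartSec_rel (p : (Fin ρ → Fin N) × Fin ρ) (i j : ULift.{u} (Fin (R + 1))) (W : (PP.{u} R).Opens)
    (hi : W ≤ (projData R).U i) (hj : W ≤ (projData R).U j) :
    rs ((Scheme.Modules.pushforward (fP ≫ c)).obj E) hi (chartSec e c fP E ε p i) =
      ro hi ((projData R).a j i) ^ 1 • rs ((Scheme.Modules.pushforward (fP ≫ c)).obj E) hj (chartSec e c fP E ε p j) := by
  have hci : c ⁻¹ᵁ W ≤ c ⁻¹ᵁ (projData R).U i := c.preimage_mono hi
  have hcj : c ⁻¹ᵁ W ≤ c ⁻¹ᵁ (projData R).U j := c.preimage_mono hj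
  rw [pow_one]
  show rs E (fP.preimage_mono hci) (comb fP ε _ _) =
    fP.app (c ⁻¹ᵁ W) (c.app W (ro hi ((projData R).a j i))) • rs E (fP.preimage_mono hcj) (comb fP ε _ _)
  rw [comb_rs fP ε hci, comb_rs fP ε hcj, ← comb_smul]
  have h1 : ∀ (k : ULift.{u} (Fin (R + 1))) (hk : W ≤ (projData R).U k) (hk' : c ⁻¹ᵁ W ≤ c ⁻¹ᵁ (projData R).U k),
      (fun i' => ro hk' (Pl.vv (fun s => c.app ((projData R).U k) (PUP.cc k.down (e.symm s))) p.1 p.2 i')) =
        Pl.vv (fun s => c.app W (ro hk (PUP.cc k.down (e.symm s)))) p.1 p.2 := by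
    intro k hk hk'
    funext i'
    refine (Pl.map_vv (P.presheaf.map (homOfLE hk').op).hom _ p.1 p.2 i').trans ?_
    refine congrArg (fun z => Pl.vv z p.1 p.2 i') (funext fun s => ?_)
    exact (ConcreteCategory.congr_hom (c.naturality (homOfLE hk).op) _).symm
  rw [h1 i hi hci, h1 j hj hcj, ← Pl.vv_smul]
  refine congrArg (comb fP ε (c ⁻¹ᵁ W)) (congrArg (fun z => Pl.vv z p.1 p.2) (funext fun s => ?_))
  rw [Pi.smul_apply, smul_eq_mul, ← map_mul]
  refine congrArg (c.app W) ?_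
  have key : ∀ (a b : Fin (R + 1)) (ha : W ≤ PUP.D a) (hb : W ≤ PUP.D b) (k : Fin (R + 1)),
      ro ha (PUP.cc (R := ULift.{u} ℤ) a k) = ro ha (PUP.cc (R := ULift.{u} ℤ) a b) * ro hb (PUP.cc (R := ULift.{u} ℤ) b k) := by
    intro a b ha hb k
    obtain ⟨a', rfl⟩ := e.symm.surjective a
    obtain ⟨b', rfl⟩ := e.symm.surjective b
    obtain ⟨k', rfl⟩ := e.symm.surjective k
    have h3 := coordOf_change e (𝟙 (PP.{u} R)) a' b' (show W ≤ (𝟙 (PP.{u} R)) ⁻¹ᵁ PUP.D (e.symm a') from ha)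
      (show W ≤ (𝟙 (PP.{u} R)) ⁻¹ᵁ PUP.D (e.symm b') from hb) k'
    simpa [coordOf, cf, Scheme.Hom.appLE, Groth.L18.Frame.ro] using h3
  exact key i.down j.down hi hj (e.symm s)

/-- A family of quotients whose kernel is generated by the tautological vectors. -/
theorem exists_fam [IsLocallyNoetherian XP] (hE : Coh.IsCoh E) :
    ∃ (F : XP.Modules) (q : E ⟶ F), Epi q ∧ Coh.IsCoh F ∧
      ∀ (a : Pl.Sub N ρ) (U : P.Opens) (hU : U ≤ c ⁻¹ᵁ PUP.D (e.symm a)) (x : XP) (hx : x ∈ fP ⁻¹ᵁ U),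
        GenKerAt q (fun p : (Fin ρ → Fin N) × Fin ρ => comb fP ε U (Pl.vv (coordOf e c a hU) p.1 p.2)) x hx := by
  classical
  let D := projData.{u} R
  let h : XP ⟶ PP R := fP ≫ c
  let M := (Scheme.Modules.pushforward h).obj E
  choose φ hφ using fun p : (Fin ρ → Fin N) × Fin ρ =>
    Groth.L16.EpiFrames.exists_hom D M 1 (chartSec e c fP E ε p) (chartSec_rel e c fP E ε p)
  let adj := Scheme.Modules.pullbackPushforwardAdjunction h
  let L := (Scheme.Modules.pullback h).obj (D.L 1)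
  let n := Fintype.card ((Fin ρ → Fin N) × Fin ρ)
  let en := (Fintype.equivFin ((Fin ρ → Fin N) × Fin ρ)).symm
  let ψ : Fin n → (L ⟶ E) := fun m => (adj.homEquiv (D.L 1) E).symm (φ (en m))
  let ψs : (⨁ fun _ : Fin n => L) ⟶ E := biproduct.desc ψ
  haveI : IsLocallyNoetherian (PP.{u} R) := by
    haveI : IsNoetherianRing (ULift.{u} ℤ) := isNoetherianRing_of_ringEquiv ℤ ULift.ringEquiv.symm
    haveI : LocallyOfFiniteType (CohB1.ProjSpace.toSpec R (ULift.{u} ℤ)) := inferInstance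
    exact LocallyOfFiniteType.isLocallyNoetherian (CohB1.ProjSpace.toSpec R (ULift.{u} ℤ))
  have hL : Coh.IsCoh L := Groth.L19.LimMod.isCoh_pullback' h
    (Groth.L16.ProperFinite.isCoh_of_isInvertible (Groth.L16.ProjTwist.isInvertible_twistProjSpace R (ULift.{u} ℤ) _))
  have hsum : Coh.IsCoh (⨁ fun _ : Fin n => L) :=
    Groth.L16.CohSupport.isCoh_of_iso (biproduct.isoCoproduct _).symm
      (Groth.L16.Existence.isCoh_sigma _ fun _ => hL)
  refine ⟨cokernel ψs, cokernel.π ψs, inferInstance, (Groth.L16.CohKernel.isCoh_kernel_cokernel hsum hE ψs).2,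
    fun a U hU x hx => ?_⟩
  let k : ULift.{u} (Fin (R + 1)) := ⟨e.symm a⟩
  have hxk : x ∈ h ⁻¹ᵁ D.U k := hU hx
  have hval : ∀ m, (ψ m).app (h ⁻¹ᵁ D.U k) (pull h (D.L 1) (D.U k) (D.e 1 k)) =
      chartSec e c fP E ε (en m) k := fun m =>
    (Groth.L17.Approx.app_pull_adjoint h (φ (en m)) (D.U k) (D.e 1 k)).trans (hφ (en m) k)
  have hgerm : ∀ p, E.presheaf.germ (fP ⁻¹ᵁ U) x hx (comb fP ε U (Pl.vv (coordOf e c a hU) p.1 p.2)) =
      E.presheaf.germ (h ⁻¹ᵁ D.U k) x hxk (chartSec e c fP E ε p k) := fun p => by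
    have hvv : (fun i => ro hU (Pl.vv (fun s => c.app (D.U k) (PUP.cc k.down (e.symm s))) p.1 p.2 i)) =
        Pl.vv (coordOf e c a hU) p.1 p.2 :=
      funext fun i => Pl.map_vv (P.presheaf.map (homOfLE hU).op).hom _ p.1 p.2 i
    rw [← hvv, ← comb_rs fP ε hU]
    exact TopCat.Presheaf.germ_res_apply _ _ _ _ _
  let Φ := Groth.L00.Stk.F XP x
  have hzero : ∀ m (z : L.presheaf.stalk x), stkₗ (cokernel.π ψs) x (stkₗ (ψ m) x z) = 0 := fun m z => by
    have e0 : ψ m ≫ cokernel.π ψs = 0 := by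
      rw [show ψ m = biproduct.ι _ m ≫ ψs from (biproduct.ι_desc ψ m).symm, Category.assoc, cokernel.condition, comp_zero]
    refine (congrArg (fun g => (ConcreteCategory.hom g) z) (Φ.map_comp (ψ m) (cokernel.π ψs))).symm.trans ?_
    rw [e0, Functor.map_zero]
    rfl
  refine le_antisymm ?_ (Submodule.span_le.2 ?_)
  · let Sq := ShortComplex.mk ψs (cokernel.π ψs) (cokernel.condition ψs)
    have hex : (Sq.map Φ).Exact := (ShortComplex.exact_cokernel ψs).map Φ
    intro z hz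
    obtain ⟨w, rfl⟩ := (ShortComplex.moduleCat_exact_iff _).1 hex z (LinearMap.mem_ker.1 hz)
    have hw : w = ∑ m, stkₗ (biproduct.ι (fun _ : Fin n => L) m) x (stkₗ (biproduct.π (fun _ : Fin n => L) m) x w) := by
      have e1 : Φ.map (∑ m, biproduct.π (fun _ : Fin n => L) m ≫ biproduct.ι (fun _ : Fin n => L) m) = 𝟙 _ := by
        rw [biproduct.total, Φ.map_id]
      rw [Functor.map_sum] at e1
      have e2 := congrArg (fun g => (ConcreteCategory.hom g) w) e1
      simp only [ModuleCat.hom_sum, LinearMap.coe_sum, Finset.sum_apply, Functor.map_comp] at e2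
      exact e2.symm
    rw [hw]
    refine (map_sum (Φ.map ψs).hom _ _).symm ▸ Submodule.sum_mem _ fun m _ => ?_
    obtain ⟨d, hd⟩ := span_germ_frame (IsFrame.pullback h (D.L 1) (D.isFrame 1 k)) x hxk
      (stkₗ (biproduct.π (fun _ : Fin n => L) m) x w)
    have e3 : ∀ y, (Φ.map ψs).hom (stkₗ (biproduct.ι (fun _ : Fin n => L) m) x y) = stkₗ (ψ m) x y := fun y => by
      refine (congrArg (fun g => (ConcreteCategory.hom g) y) (Φ.map_comp _ ψs)).symm.trans ?_
      rw [biproduct.ι_desc]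
      rfl
    show (Φ.map ψs).hom _ ∈ _
    rw [e3, hd, map_smul, stkₗ_germ, hval, ← hgerm]
    exact Submodule.smul_mem _ _ (Submodule.subset_span ⟨_, rfl⟩)
  · rintro _ ⟨p, rfl⟩
    rw [SetLike.mem_coe, LinearMap.mem_ker]
    show stkₗ (cokernel.π ψs) x (E.presheaf.germ (fP ⁻¹ᵁ U) x hx (comb fP ε U (Pl.vv (coordOf e c a hU) p.1 p.2))) = 0
    rw [hgerm]
    have := hzero (en.symm p) (L.presheaf.germ (h ⁻¹ᵁ D.U k) x hxk (pull h (D.L 1) (D.U k) (D.e 1 k)))
    rwa [stkₗ_germ (ψ (en.symm p)), hval, Equiv.apply_symm_apply] at this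

end Groth.L02.Quot
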