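import Groth.Agent.L02.Quot.CoreLemmas
import Groth.Agent.L18.AmpleGG
import Groth.Agent.L00.StalkFunctor

/-!
# Kernels generated by global sections
-/

set_option autoImplicit false
set_option linter.style.haveILetI false
set_option linter.unusedSectionVars false
set_option backward.isDefEq.respectTransparency false
set_option backward.isDefEq.respectTransparency.types false

universe u

open CategoryTheory CategoryTheory.Limits AlgebraicGeometry TopologicalSpace Opposite

noncomputable section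

namespace Groth.L02.Quot

open Groth.L18.Frame (rs rs_rs rs_self)

variable {X : Scheme.{u}} {E E' F F' : X.Modules}

/-- The germs of the global sections span the stalks of a globally generated module. -/
theorem span_germ_top_of_gg {G : X.Modules} (hG : Curv2.IsGloballyGenerated G) (x : X) :
    Submodule.span (X.presheaf.stalk x)
      (Set.range fun t : Γ(G, ⊤) => G.presheaf.germ ⊤ x trivial t) = ⊤ := by
  let p : (∐ fun _ : Γ(G, ⊤) => Coh.structureModule X) ⟶ G :=
    Limits.Sigma.desc fun t => Groth.L16.homOfSection G t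
  have happ : ∀ t : Γ(G, ⊤), (Groth.L16.homOfSection G t).app ⊤ (1 : Γ(X, ⊤)) = t := fun t => by
    rw [Groth.L16.homOfSection_app, one_smul]
    exact rs_self G le_rfl t
  haveI : Epi p := Preadditive.epi_of_cancel_zero _ fun {H : X.Modules} (g : G ⟶ H) hg => by
    refine Groth.L18.Ample.eq_zero_of_killsGlobal hG g fun t => ?_
    have h1 : Groth.L16.homOfSection G t ≫ g = 0 := by
      rw [← Limits.Sigma.ι_desc (fun t => Groth.L16.homOfSection G t) t, Category.assoc, hg, comp_zero]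
    have h2 : g.app ⊤ ((Groth.L16.homOfSection G t).app ⊤ (1 : Γ(X, ⊤))) = 0 :=
      congrArg (fun k : Coh.structureModule X ⟶ H => k.app ⊤ (1 : Γ(X, ⊤))) h1
    rwa [happ] at h2
  rw [eq_top_iff]
  intro z _
  obtain ⟨w, rfl⟩ := stkₗ_surjective p x z
  let W := Submodule.span (X.presheaf.stalk x) (Set.range fun t : Γ(G, ⊤) => G.presheaf.germ ⊤ x trivial t)
  have h0 : (Groth.L00.Stk.F X x).map p ≫ ModuleCat.ofHom W.mkQ = 0 := by
    refine (isColimitOfPreserves (Groth.L00.Stk.F X x)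
      (coproductIsCoproduct fun _ : Γ(G, ⊤) => Coh.structureModule X)).hom_ext fun j => ?_
    obtain ⟨t⟩ := j
    rw [comp_zero]
    show (Groth.L00.Stk.F X x).map (Limits.Sigma.ι _ t) ≫ (Groth.L00.Stk.F X x).map p ≫ ModuleCat.ofHom W.mkQ = 0
    rw [← Category.assoc, ← Functor.map_comp, Limits.Sigma.ι_desc]
    ext v
    obtain ⟨V, hV, a, rfl⟩ := TopCat.Presheaf.exists_germ_eq (F := (Coh.structureModule X).presheaf) (x := x) v
    show W.mkQ (stkₗ (Groth.L16.homOfSection G t) x _) = 0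
    rw [stkₗ_germ, Groth.L16.homOfSection_app, Groth.L20.ModStalk.germ_smul G hV]
    refine (Submodule.Quotient.mk_eq_zero W).2 (Submodule.smul_mem _ _ ?_)
    exact Submodule.subset_span ⟨t, (TopCat.Presheaf.germ_res_apply G.presheaf (homOfLE (le_top : V ≤ ⊤)) x hV t).symm⟩
  exact (Submodule.Quotient.mk_eq_zero W).1 (congrArg (fun k => (ConcreteCategory.hom k) w) h0)

/-- A globally generated kernel is generated by the global sections that are killed. -/
theorem genKerAt_of_gg (ψ : E ⟶ F) (hG : Curv2.IsGloballyGenerated (kernel ψ)) (x : X) :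
    GenKerAt ψ (fun a : {a : Γ(E, ⊤) // ψ.app ⊤ a = 0} => a.1) x (show x ∈ (⊤ : X.Opens) from trivial) := by
  refine le_antisymm (fun z hz => ?_) (spanGerm_le_ker ψ _ (fun a => a.2) x _)
  let S : ShortComplex X.Modules := ShortComplex.mk (kernel.ι ψ) ψ (kernel.condition ψ)
  have hS : S.Exact := ShortComplex.exact_kernel ψ
  obtain ⟨w, hw⟩ := (ShortComplex.moduleCat_exact_iff _).1 (hS.map (Groth.L00.Stk.F X x)) z hz
  have hw' : stkₗ (kernel.ι ψ) x w = z := hw
  rw [← hw']
  have hm : w ∈ Submodule.span (X.presheaf.stalk x)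
      (Set.range fun t : Γ(kernel ψ, ⊤) => (kernel ψ).presheaf.germ ⊤ x trivial t) := by
    rw [span_germ_top_of_gg hG x]; trivial
  refine Submodule.span_induction (fun y hy => ?_) ?_ (fun y y' _ _ h h' => ?_) (fun a y _ h => ?_) hm
  · obtain ⟨t, rfl⟩ := hy
    rw [stkₗ_germ]
    refine Submodule.subset_span ⟨⟨(kernel.ι ψ).app ⊤ t, ?_⟩, rfl⟩
    exact congrArg (fun k : kernel ψ ⟶ F => k.app ⊤ t) (kernel.condition ψ)
  · rw [map_zero]; exact Submodule.zero_mem _
  · rw [map_add]; exact Submodule.add_mem _ h h'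
  · rw [map_smul]; exact Submodule.smul_mem _ _ h

theorem GenKerAt.comp_mono (q : E ⟶ F) (m : F ⟶ F') [Mono m] {ι : Type*} {U : X.Opens} {σ : ι → Γ(E, U)} {x : X}
    {hx : x ∈ U} (h : GenKerAt q σ x hx) : GenKerAt (q ≫ m) σ x hx := by
  refine Eq.trans ?_ h
  haveI : Mono ((Groth.L00.Stk.F X x).map m) := inferInstance
  have hinj : Function.Injective (stkₗ m x) := (ModuleCat.mono_iff_injective _).1 this
  ext z
  rw [LinearMap.mem_ker, LinearMap.mem_ker, stkₗ_comp]
  exact map_eq_zero_iff _ hinj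

theorem GenKerAt.of_epi (φ : E ⟶ E') [Epi φ] (q : E' ⟶ F) {ι : Type*} {U : X.Opens} {σ : ι → Γ(E, U)} {x : X}
    {hx : x ∈ U} (h : GenKerAt (φ ≫ q) σ x hx) : GenKerAt q (fun i => φ.app U (σ i)) x hx := by
  have hg : ∀ i, E'.presheaf.germ U x hx (φ.app U (σ i)) = stkₗ φ x (E.presheaf.germ U x hx (σ i)) :=
    fun i => (stkₗ_germ φ x hx (σ i)).symm
  refine le_antisymm (fun z hz => ?_) (Submodule.span_le.2 ?_)
  · obtain ⟨w, rfl⟩ := stkₗ_surjective φ x z
    have h1 : w ∈ spanGerm σ x hx := h ▸ (show stkₗ (φ ≫ q) x w = 0 by rw [stkₗ_comp]; exact hz)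
    refine (Submodule.map_le_iff_le_comap.2 ?_) (Submodule.mem_map_of_mem (f := stkₗ φ x) h1)
    refine Submodule.span_le.2 ?_
    rintro _ ⟨i, rfl⟩
    exact Submodule.subset_span ⟨i, hg i⟩
  · rintro _ ⟨i, rfl⟩
    have h2 : stkₗ (φ ≫ q) x (E.presheaf.germ U x hx (σ i)) = 0 :=
      LinearMap.mem_ker.1 (h ▸ Submodule.subset_span ⟨i, rfl⟩)
    rw [stkₗ_comp, ← hg] at h2
    exact h2

theorem GenKerAt.mono {q : E ⟶ F} {ι κ : Type*} {U : X.Opens} {σ : ι → Γ(E, U)} {σ' : κ → Γ(E, U)} {x : X}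
    {hx : x ∈ U} (h : GenKerAt q σ x hx) (h0 : ∀ j, q.app U (σ' j) = 0) (hσ : ∀ i, ∃ j, σ' j = σ i) :
    GenKerAt q σ' x hx := by
  refine le_antisymm (h.le.trans (Submodule.span_mono ?_)) (spanGerm_le_ker q _ h0 x hx)
  rintro _ ⟨i, rfl⟩
  obtain ⟨j, hj⟩ := hσ i
  exact ⟨j, congrArg (E.presheaf.germ U x hx) hj⟩

end Groth.L02.Quot
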