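import Groth.Agent.L02.Quot.Sct
import Groth.Prelude.Def_ega3
import Mathlib.LinearAlgebra.Dimension.Free

/-!
# The dimension of the space of global sections over a field
-/

set_option autoImplicit false
set_option linter.style.haveILetI false
set_option linter.unusedSectionVars false
set_option backward.isDefEq.respectTransparency false
set_option backward.isDefEq.respectTransparency.types false

universe u

open CategoryTheory CategoryTheory.Limits AlgebraicGeometry TopologicalSpace Opposite

noncomputable section

namespace Groth.L02.Quot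


open Groth.L16.HomSh (h0Equiv)

variable {k : Type u} [Field k] {X : Scheme.{u}} (h : X ⟶ Spec (CommRingCat.of k)) (F : X.Modules)

/-- The scalars of a field as functions on its spectrum. -/
def σk (k : Type u) [Field k] : k ≃+* Γ(Spec (CommRingCat.of k), ⊤) :=
  (Scheme.ΓSpecIso (CommRingCat.of k)).symm.commRingCatIsoToRingEquiv

theorem h0Equiv_semilinear (a : k) (x : letI : X.Over (Spec (CommRingCat.of k)) := ⟨h⟩; Coh.HH X F 0) :
    letI : X.Over (Spec (CommRingCat.of k)) := ⟨h⟩
    (show Sct h F ⊤ from h0Equiv F (a • x)) = σk k a • (show Sct h F ⊤ from h0Equiv F x) := by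
  letI : X.Over (Spec (CommRingCat.of k)) := ⟨h⟩
  refine (Groth.L16.Exist.h0Equiv_smul a x).trans ?_
  exact congrArg (· • (h0Equiv F x)) (Groth.L18.Frame.ro_self le_top _)

/-- Coordinates on the sections from coordinates on `H⁰`. -/
theorem nonempty_basis_of_finrank {r : ℕ}
    (hfin : letI : X.Over (Spec (CommRingCat.of k)) := ⟨h⟩; Module.Finite k (Coh.HH X F 0))
    (hr : letI : X.Over (Spec (CommRingCat.of k)) := ⟨h⟩; Module.finrank k (Coh.HH X F 0) = r) :
    Nonempty (Module.Basis (Fin r) Γ(Spec (CommRingCat.of k), ⊤) (Sct h F ⊤)) := by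
  letI : X.Over (Spec (CommRingCat.of k)) := ⟨h⟩
  haveI := hfin
  let b := Module.finBasisOfFinrankEq k (Coh.HH X F 0) hr
  let e : Coh.HH X F 0 ≃+ Sct h F ⊤ := h0Equiv F
  have he : ∀ (a : k) x, e (a • x) = σk k a • e x := h0Equiv_semilinear h F
  have hes : ∀ (c : Γ(Spec (CommRingCat.of k), ⊤)) (z : Sct h F ⊤), e.symm (c • z) = (σk k).symm c • e.symm z :=
    fun c z => e.injective (by rw [e.apply_symm_apply, he, RingEquiv.apply_symm_apply, e.apply_symm_apply])
  let L : Sct h F ⊤ ≃ₗ[Γ(Spec (CommRingCat.of k), ⊤)] (Fin r → Γ(Spec (CommRingCat.of k), ⊤)) :=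
    { toFun := fun z j => σk k (b.equivFun (e.symm z) j)
      invFun := fun y => e (b.equivFun.symm fun j => (σk k).symm (y j))
      map_add' := fun z z' => funext fun j => by simp
      map_smul' := fun c z => funext fun j => by simp [hes]
      left_inv := fun z => by simp
      right_inv := fun y => funext fun j => by simp [Finsupp.single_apply, apply_ite] }
  exact ⟨Module.Basis.ofEquivFun L⟩

theorem finrank_of_basis {r : ℕ} (b : Module.Basis (Fin r) Γ(Spec (CommRingCat.of k), ⊤) (Sct h F ⊤)) :
    letI : X.Over (Spec (CommRingCat.of k)) := ⟨h⟩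
    Module.finrank k (Coh.HH X F 0) = r := by
  letI : X.Over (Spec (CommRingCat.of k)) := ⟨h⟩
  let e : Coh.HH X F 0 ≃+ Sct h F ⊤ := h0Equiv F
  have he : ∀ (a : k) x, e (a • x) = σk k a • e x := h0Equiv_semilinear h F
  let L : Coh.HH X F 0 ≃ₗ[k] (Fin r → k) :=
    { toFun := fun x j => (σk k).symm (b.equivFun (e x) j)
      invFun := fun y => e.symm (b.equivFun.symm fun j => σk k (y j))
      map_add' := fun z z' => funext fun j => by simp
      map_smul' := fun c z => funext fun j => by simp [he]
      left_inv := fun z => by simp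
      right_inv := fun y => funext fun j => by simp [Finsupp.single_apply, apply_ite] }
  rw [L.finrank_eq, Module.finrank_fin_fun]

end Groth.L02.Quot
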