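import Groth.Agent.L16.ProjSpace.PosFrames
import Groth.Agent.L16.ProjSpace.Sections
import Groth.Agent.L18.Frame
import Mathlib.Data.Finsupp.Fintype
import Mathlib.Data.Fintype.Pi
import Mathlib.Data.Fintype.Sigma

/-!
# Monomial sections of `O(D)` and their pullbacks along base change of projective space
-/

set_option autoImplicit false
set_option linter.style.haveILetI false
set_option linter.unusedSectionVars false
set_option backward.isDefEq.respectTransparency false
set_option backward.isDefEq.respectTransparency.types false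

universe u

open CategoryTheory AlgebraicGeometry TopologicalSpace Opposite

noncomputable section

namespace Groth.L02.Quot.Mono

open Groth.L18.Frame (rs ro rs_rs ro_ro rs_smul rs_self ro_self pull pull_rs pull_smul)
open Groth.L16
open MvPolynomial (C X monomial coeff)

variable (n D : ℕ) (R : Type u) [CommRing R]

/-- Exponents of the monomials of degree `D`. -/
abbrev Idx : Type := {m : Fin (n + 1) → Fin (D + 1) // ∑ i, (m i : ℕ) = D}

variable {n D}

/-- The exponent as a finitely supported function. -/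
def expo (a : Idx n D) : Fin (n + 1) →₀ ℕ := Finsupp.equivFunOnFinite.symm fun i => (a.1 i : ℕ)

theorem monomial_mem (a : Idx n D) : monomial (expo a) (1 : R) ∈ CohB1.polyGrading n R D := by
  refine MvPolynomial.isHomogeneous_monomial 1 ?_
  rw [Finsupp.degree_eq_sum]
  exact a.2

/-- A section given by a homogeneous polynomial. -/
abbrev secOf (p : CohB1.polyGrading n R D) : Γ(Twist.twistProjSpace n R (D : ℤ), ⊤) := ProjSpace.polyToSection n R D p

/-- The monomial sections. -/
def mono (a : Idx n D) : Γ(Twist.twistProjSpace n R (D : ℤ), ⊤) := secOf R ⟨monomial (expo a) 1, monomial_mem R a⟩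

variable (n) in
/-- The value of the section over `D₊(f)` relative to `f ^ D`. -/
def rat (p : CohB1.polyGrading n R D) (f : CohB1.polyGrading n R 1) :
    Γ(CohB1.ProjSpace n R, Proj.basicOpen (CohB1.polyGrading n R) f.1) :=
  Proj.awayToSection (CohB1.polyGrading n R) f.1
    (HomogeneousLocalization.Away.mk (CohB1.polyGrading n R) f.2 D p.1 (by
      rw [smul_eq_mul, mul_one]; exact p.2))

theorem rs_secOf (p : CohB1.polyGrading n R D) (f : CohB1.polyGrading n R 1) :
    rs (Twist.twistProjSpace n R (D : ℤ)) (le_top : Proj.basicOpen (CohB1.polyGrading n R) f.1 ≤ ⊤) (secOf R p) =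
      rat n R p f • ProjTwist.posFrame (CohB1.polyGrading n R) D f := by
  refine Subtype.ext (funext fun x => Subtype.ext ?_)
  refine Eq.trans ?_ (Twist.coe_smul_val _ x.1
    ((show Twist.O (𝒜 := CohB1.polyGrading n R) (op (Proj.basicOpen (CohB1.polyGrading n R) f.1 :
      Opens (ProjectiveSpectrum.top (CohB1.polyGrading n R)))) from rat n R p f).1 x) _).symm
  have hx := ProjTwist.notMem_pow _ ((Proj.mem_basicOpen _ _ _).1 x.2) D
  have hv : ((show Twist.O (𝒜 := CohB1.polyGrading n R) (op (Proj.basicOpen (CohB1.polyGrading n R) f.1 :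
      Opens (ProjectiveSpectrum.top (CohB1.polyGrading n R)))) from rat n R p f).1 x).val =
        Localization.mk p.1 ⟨f.1 ^ D, hx⟩ := by
    refine Eq.trans (ProjectiveSpectrum.Proj.awayToSection_apply _ f.1
      (HomogeneousLocalization.Away.mk (CohB1.polyGrading n R) f.2 D p.1 _)
      ⟨x.1, (Proj.mem_basicOpen _ _ _).2 ((Proj.mem_basicOpen _ _ _).1 x.2)⟩) ?_
    rw [HomogeneousLocalization.Away.val_mk, Localization.mk_eq_mk', IsLocalization.map_mk',
      Localization.mk_eq_mk']
    rfl
  rw [hv]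
  change (Localization.mk p.1 ⟨1, ProjTwist.one_notMem _ x.1⟩ : Twist.Loc (CohB1.polyGrading n R) x.1) = _ *
    Localization.mk (f.1 ^ D) ⟨1, ProjTwist.one_notMem _ x.1⟩
  rw [Localization.mk_mul, Localization.mk_eq_mk_iff, Localization.r_iff_exists]
  exact ⟨1, by simp; ring⟩

theorem secOf_add (p q : CohB1.polyGrading n R D) : secOf R (p + q) = secOf R p + secOf R q := by
  refine Subtype.ext (funext fun x => Subtype.ext ?_)
  show Localization.mk (p.1 + q.1) _ = Localization.mk p.1 _ + Localization.mk q.1 _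
  rw [Localization.add_mk_self]

theorem secOf_smul (r : R) (p : CohB1.polyGrading n R D) :
    secOf R (r • p) = (show Γ(CohB1.ProjSpace n R, ⊤) from Coh.toGlobal (CohB1.ProjSpace.toSpec n R) r) • secOf R p := by
  refine Subtype.ext (funext fun x => Subtype.ext ((Twist.coe_smul_val _ _ _ _).trans ?_).symm)
  erw [ProjSpace.toGlobal_apply_val, ProjSpace.polyToSection_apply, Localization.mk_mul,
    ProjSpace.polyToSection_apply]
  rw [Localization.mk_eq_mk_iff, Localization.r_iff_exists]
  exact ⟨1, by simp [MvPolynomial.smul_eq_C_mul]⟩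

/-- The monomial sections span. -/
theorem exists_eq_sum (z : Γ(Twist.twistProjSpace n R (D : ℤ), ⊤)) :
    ∃ c : Idx n D → R, z = ∑ a, (show Γ(CohB1.ProjSpace n R, ⊤) from Coh.toGlobal (CohB1.ProjSpace.toSpec n R) (c a)) • mono R a := by
  classical
  obtain ⟨p, rfl⟩ := ProjSpace.polyToSection_surjective (n := n) (R := R) D z
  refine ⟨fun a => coeff (expo a) p.1, ?_⟩
  have hp : p = ∑ a : Idx n D, coeff (expo a) p.1 • (⟨monomial (expo a) 1, monomial_mem R a⟩ : CohB1.polyGrading n R D) := by
    apply Subtype.ext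
    simp only [AddSubmonoidClass.coe_finsetSum, SetLike.val_smul, MvPolynomial.smul_monomial, smul_eq_mul, mul_one]
    ext m
    rw [MvPolynomial.coeff_sum]
    simp only [MvPolynomial.coeff_monomial]
    by_cases hm : coeff m p.1 = 0
    · rw [hm, Finset.sum_eq_zero]
      intro a _
      by_cases ha : expo a = m
      · rw [if_pos ha, ha, hm]
      · rw [if_neg ha]
    · have hdeg : ∑ i, m i = D := by
        rw [← Finsupp.degree_eq_sum, Finsupp.degree_eq_weight_one]
        exact p.2 hm
      have hlt : ∀ i, m i < D + 1 := fun i => Nat.lt_succ_of_le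
        ((Finset.single_le_sum (f := fun j => m j) (fun _ _ => Nat.zero_le _) (Finset.mem_univ i)).trans hdeg.le)
      let a₀ : Idx n D := ⟨fun i => ⟨m i, hlt i⟩, hdeg⟩
      have ha₀ : expo a₀ = m := Finsupp.ext fun i => rfl
      rw [Finset.sum_eq_single a₀ (fun b _ hb => if_neg fun h => hb ?_)
        (fun h => absurd (Finset.mem_univ _) h), if_pos ha₀, ha₀]
      exact Subtype.ext (funext fun i => Fin.ext (congrFun (congrArg DFunLike.coe h) i))
  conv_lhs => rw [hp]
  have hmap : ∀ s : Finset (Idx n D), secOf R (∑ a ∈ s, coeff (expo a) p.1 •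
      (⟨monomial (expo a) 1, monomial_mem R a⟩ : CohB1.polyGrading n R D)) =
      ∑ a ∈ s, secOf R (coeff (expo a) p.1 • ⟨monomial (expo a) 1, monomial_mem R a⟩) :=
    fun s => map_sum (AddMonoidHom.mk' (secOf R) (secOf_add R)) _ s
  refine (hmap _).trans (Finset.sum_congr rfl fun a _ => secOf_smul R _ _)

variable {R} {R' : Type u} [CommRing R'] (φ : R →+* R')

/-- The image of a homogeneous polynomial. -/
abbrev mapPoly {e : ℕ} (p : CohB1.polyGrading n R e) : CohB1.polyGrading n R' e :=
  ⟨ProjSpace.mapGraded n φ p.1, (ProjSpace.mapGraded n φ).2 p.2⟩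

theorem app_rat (p : CohB1.polyGrading n R D) (f : CohB1.polyGrading n R 1) :
    (ProjSpace.map n φ).app (Proj.basicOpen (CohB1.polyGrading n R) f.1) (rat n R p f) =
      rat n R' (mapPoly φ p) (mapPoly φ f) := by
  have h := ConcreteCategory.congr_hom
    (Proj.awayToSection_comp_appLE (ProjSpace.mapGraded n φ) (ProjSpace.mapGraded_irrelevant n φ) f.2)
    (HomogeneousLocalization.Away.mk (CohB1.polyGrading n R) f.2 D p.1 (by rw [smul_eq_mul, mul_one]; exact p.2))
  refine Eq.trans ?_ (h.trans ?_)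
  · exact congrArg (fun k : Γ(CohB1.ProjSpace n R, Proj.basicOpen (CohB1.polyGrading n R) f.1) ⟶
        Γ(CohB1.ProjSpace n R', ProjSpace.map n φ ⁻¹ᵁ Proj.basicOpen (CohB1.polyGrading n R) f.1) =>
        k (rat n R p f)) (ProjSpace.map n φ).app_eq_appLE
  · exact congrArg (Proj.awayToSection (CohB1.polyGrading n R') _) (HomogeneousLocalization.Away.map_mk _ _ _ _ _ _)

theorem exists_pullback_iso :
    ∃ τ : (Scheme.Modules.pullback (ProjSpace.map n φ)).obj (Twist.twistProjSpace n R (D : ℤ)) ≅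
        Twist.twistProjSpace n R' (D : ℤ),
      ∀ a : Idx n D, τ.hom.app ⊤ (pull (ProjSpace.map n φ) _ ⊤ (mono R a)) = mono R' a := by
  let g := ProjSpace.map n φ
  let L := Twist.twistProjSpace n R (D : ℤ)
  let Fr : ULift.{u} (Fin (n + 1)) → CohB1.polyGrading n R 1 :=
    fun i => ⟨MvPolynomial.X i.down, ProjSpace.X_mem n R i.down⟩
  let U : ULift.{u} (Fin (n + 1)) → (CohB1.ProjSpace n R').Opens :=
    fun i => g ⁻¹ᵁ Proj.basicOpen (CohB1.polyGrading n R) (Fr i).1
  have hcov : ∀ x : CohB1.ProjSpace n R', ∃ i, x ∈ U i := fun x => by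
    obtain ⟨i, hi⟩ := ProjSpace.exists_mem_basicOpen_X n R (g x)
    exact ⟨⟨i⟩, hi⟩
  let e := fun i => pull g L _ (ProjTwist.posFrame (CohB1.polyGrading n R) D (Fr i))
  let e' : ∀ i, Γ(Twist.twistProjSpace n R' (D : ℤ), U i) :=
    fun i => ProjTwist.posFrame (CohB1.polyGrading n R') D (mapPoly φ (Fr i))
  have he : ∀ i, Groth.L18.Frame.IsFrame _ (U i) (e i) :=
    fun i => (ProjTwist.isFrame_posFrame (CohB1.polyGrading n R) D (Fr i)).pullback g L
  have he' : ∀ i, Groth.L18.Frame.IsFrame _ (U i) (e' i) :=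
    fun i => ProjTwist.isFrame_posFrame (CohB1.polyGrading n R') D (mapPoly φ (Fr i))
  let c := fun i j => ro (inf_le_right : U i ⊓ U j ≤ U j) (g.app _ (ProjTwist.ratio (CohB1.polyGrading n R) (Fr i) (Fr j))) ^ D
  have hrel : ∀ i j, rs _ inf_le_left (e i) = c i j • rs _ inf_le_right (e j) := fun i j =>
    ProjSpace.pull_rel g L _ D _ _ (ProjTwist.posFrame_rel (CohB1.polyGrading n R) D (Fr i) (Fr j))
  have hrel' : ∀ i j, rs _ inf_le_left (e' i) = c i j • rs _ inf_le_right (e' j) := fun i j =>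
    (ProjTwist.posFrame_rel (CohB1.polyGrading n R') D (mapPoly φ (Fr i)) (mapPoly φ (Fr j))).trans
      (congrArg (· • _) (congrArg (fun r => ro inf_le_right r ^ D) (ProjSpace.app_ratio n φ (Fr i) (Fr j)).symm))
  obtain ⟨α, hα⟩ := FrameIso.exists_hom U e he hcov c hrel e' hrel'
  obtain ⟨β, hβ⟩ := FrameIso.exists_hom U e' he' hcov c hrel' e hrel
  refine ⟨⟨α, β, FrameIso.hom_ext U e he hcov _ _ fun i => ?_, FrameIso.hom_ext U e' he' hcov _ _ fun i => ?_⟩, fun a => ?_⟩
  · show β.app (U i) (α.app (U i) (e i)) = e i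
    rw [hα, hβ]
  · show α.app (U i) (β.app (U i) (e' i)) = e' i
    rw [hβ, hα]
  · refine TopCat.Sheaf.eq_of_locally_eq' (⟨(Twist.twistProjSpace n R' (D : ℤ)).presheaf,
      (Twist.twistProjSpace n R' (D : ℤ)).isSheaf⟩ : TopCat.Sheaf Ab _) U ⊤ (fun i => homOfLE le_top)
      (fun x _ => Opens.mem_iSup.2 (hcov x)) _ _ fun i => ?_
    show rs _ (le_top : U i ≤ ⊤) (α.app ⊤ (pull g L ⊤ (mono R a))) = rs _ (le_top : U i ≤ ⊤) (mono R' a)
    rw [← EpiFrames.app_rs]
    have h1 : rs ((Scheme.Modules.pullback g).obj L) (le_top : U i ≤ ⊤) (pull g L ⊤ (mono R a)) =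
        g.app _ (rat n R ⟨monomial (expo a) 1, monomial_mem R a⟩ (Fr i)) • e i :=
      (pull_rs g L (le_top : Proj.basicOpen (CohB1.polyGrading n R) (Fr i).1 ≤ ⊤) (mono R a)).trans
        ((congrArg (pull g L _) (rs_secOf R ⟨monomial (expo a) 1, monomial_mem R a⟩ (Fr i))).trans (pull_smul g L _ _))
    have hm : mapPoly φ (⟨monomial (expo a) 1, monomial_mem R a⟩ : CohB1.polyGrading n R D) =
        ⟨monomial (expo a) 1, monomial_mem R' a⟩ := Subtype.ext (by simp)
    rw [h1, Scheme.Modules.Hom.app_smul, hα, app_rat, hm]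
    have h2 := rs_secOf R' ⟨monomial (expo a) 1, monomial_mem R' a⟩ (mapPoly φ (Fr i))
    exact h2.symm

end Groth.L02.Quot.Mono
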