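import Groth.Agent.L22.Reg.ClosedQuot
import Groth.Agent.L16.ProjSpace.BaseChange
import Mathlib.AlgebraicGeometry.Morphisms.ClosedImmersion

/-!
# Fibres of a closed subscheme of relative projective space
-/

set_option autoImplicit false
set_option linter.style.haveILetI false
set_option linter.unusedSectionVars false
set_option backward.isDefEq.respectTransparency false
set_option backward.isDefEq.respectTransparency.types false

universe u

open CategoryTheory CategoryTheory.Limits AlgebraicGeometry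

noncomputable section

namespace Groth.L02.Quot

open Groth.L16

/-- The map of constants. -/
abbrev zTo (k : Type u) [CommRing k] : ULift.{u} ℤ →+* k := (algebraMap ℤ k).comp ULift.ringEquiv.toRingHom

variable {n : ℕ} {S X : Scheme.{u}} (i : X ⟶ CohB1.ProjSpaceOver n S) [IsClosedImmersion i]
  {k : Type u} [Field k] {u : Spec (CommRingCat.of k) ⟶ S} {Xk : Scheme.{u}} {g : Xk ⟶ X}
  {h : Xk ⟶ Spec (CommRingCat.of k)} (pb : IsPullback g h (i ≫ CohB1.ProjSpaceOver.toBase n S) u)

include pb in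
theorem exists_fibre_proj : ∃ ik : Xk ⟶ CohB1.ProjSpace n k, IsClosedImmersion ik ∧
    ik ≫ CohB1.ProjSpace.toSpec n k = h ∧
    ik ≫ ProjSpace.map n (zTo k) =
      g ≫ i ≫ pullback.fst (CohB1.ProjSpace.toSpec n (ULift.{u} ℤ)) (specULiftZIsTerminal.from S) := by
  let fst := pullback.fst (CohB1.ProjSpace.toSpec n (ULift.{u} ℤ)) (specULiftZIsTerminal.from S)
  have sq := ProjSpace.isPullback_over n (R := k)
  let pk : CohB1.ProjSpace n k ⟶ CohB1.ProjSpaceOver n S :=
    pullback.lift (ProjSpace.map n (zTo k)) (CohB1.ProjSpace.toSpec n k ≫ u)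
      (by rw [sq.w, Category.assoc]; exact congrArg _ (specULiftZIsTerminal.hom_ext _ _))
  have pk₁ : pk ≫ fst = ProjSpace.map n (zTo k) := pullback.lift_fst _ _ _
  have pk₂ : pk ≫ CohB1.ProjSpaceOver.toBase n S = CohB1.ProjSpace.toSpec n k ≫ u := pullback.lift_snd _ _ _
  have pbP : IsPullback pk (CohB1.ProjSpace.toSpec n k) (CohB1.ProjSpaceOver.toBase n S) u := by
    refine IsPullback.of_right ?_ pk₂ (IsPullback.of_hasPullback _ _)
    rw [show pk ≫ pullback.fst _ _ = _ from pk₁, show u ≫ specULiftZIsTerminal.from S =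
      specULiftZIsTerminal.from (Spec (CommRingCat.of k)) from specULiftZIsTerminal.hom_ext _ _]
    exact sq
  let ik : Xk ⟶ CohB1.ProjSpace n k := sq.lift (g ≫ i ≫ fst) h (specULiftZIsTerminal.hom_ext _ _)
  have ik₁ : ik ≫ ProjSpace.map n (zTo k) = g ≫ i ≫ fst := sq.lift_fst _ _ _
  have ik₂ : ik ≫ CohB1.ProjSpace.toSpec n k = h := sq.lift_snd _ _ _
  have hw : g ≫ i = ik ≫ pk := by
    refine pullback.hom_ext ?_ ?_
    · show (g ≫ i) ≫ fst = (ik ≫ pk) ≫ fst
      rw [Category.assoc, Category.assoc, pk₁, ik₁]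
    · show (g ≫ i) ≫ CohB1.ProjSpaceOver.toBase n S = (ik ≫ pk) ≫ CohB1.ProjSpaceOver.toBase n S
      rw [Category.assoc, Category.assoc, pk₂, pb.w, reassoc_of% ik₂]
  have pbi : IsPullback g ik i pk := IsPullback.of_bot (by rw [ik₂]; exact pb) hw pbP
  exact ⟨ik, MorphismProperty.of_isPullback (P := @IsClosedImmersion) pbi inferInstance, ik₂, ik₁⟩

include pb in
/-- The twists restrict to the twists. -/
theorem nonempty_fibre_twist_iso (ik : Xk ⟶ CohB1.ProjSpace n k)
    (hik : ik ≫ ProjSpace.map n (zTo k) =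
      g ≫ i ≫ pullback.fst (CohB1.ProjSpace.toSpec n (ULift.{u} ℤ)) (specULiftZIsTerminal.from S)) (m : ℤ) :
    Nonempty ((Scheme.Modules.pullback g).obj ((Scheme.Modules.pullback i).obj (Twist.twistOver n S m)) ≅
      (Scheme.Modules.pullback ik).obj (Twist.twistProjSpace n k m)) := by
  obtain ⟨e⟩ := Groth.L22.Reg.nonempty_pullback_O (n := n) (zTo k) m
  let fst := pullback.fst (CohB1.ProjSpace.toSpec n (ULift.{u} ℤ)) (specULiftZIsTerminal.from S)
  exact ⟨(Scheme.Modules.pullback g).mapIso ((Scheme.Modules.pullbackComp i fst).app _) ≪≫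
    (Scheme.Modules.pullbackComp g (i ≫ fst)).app _ ≪≫ (Scheme.Modules.pullbackCongr hik.symm).app _ ≪≫
    ((Scheme.Modules.pullbackComp ik (ProjSpace.map n (zTo k))).app _).symm ≪≫
    (Scheme.Modules.pullback ik).mapIso e⟩

end Groth.L02.Quot
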