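import Groth.Agent.L02.Quot.Core
import Groth.Agent.L02.Quot.H0Rank
import Groth.Agent.L02.Quot.Mono
import Groth.Agent.L02.Quot.GG
import Groth.Agent.L02.Quot.ProjFibre
import Groth.Agent.L22.Reg.PnGen
import Groth.Agent.L17.Strat.Euler
import Mathlib.LinearAlgebra.Dimension.Finite

/-!
# Quotients of twists of free modules on the fibres of a projective scheme
-/

set_option autoImplicit false
set_option linter.style.haveILetI false
set_option linter.unusedSectionVars false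
set_option backward.isDefEq.respectTransparency false
set_option backward.isDefEq.respectTransparency.types false

universe u

open CategoryTheory CategoryTheory.Limits AlgebraicGeometry TopologicalSpace Opposite

noncomputable section

namespace Groth.L02.Quot.FieldProj

open Groth.L18.Frame (rs ro rs_rs rs_self rs_smul ro_self pull pull_rs pull_smul)
open Groth.L16
open Groth.L16.CohLinear (hmap exact_hmap_delta)
open Groth.L00.Tensor (tensorIso tensorUnitRight tensorRightF)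
open Groth.L22.Reg (Regular tw' O' chiP)

variable (n D p : ℕ) {S X : Scheme.{u}} (i : X ⟶ CohB1.ProjSpaceOver n S) {E : X.Modules}

/-- The sum of copies of `O(D)`. -/
abbrev AX : X.Modules := ∐ fun _ : Fin p => (Scheme.Modules.pullback i).obj (Twist.twistOver n S (D : ℤ))

/-- A monomial section of `O(D)` on the subscheme. -/
def secX (a : Mono.Idx n D) : Γ((Scheme.Modules.pullback i).obj (Twist.twistOver n S (D : ℤ)), ⊤) :=
  pull i _ ⊤ (pull (pullback.fst (CohB1.ProjSpace.toSpec n (ULift.{u} ℤ)) (specULiftZIsTerminal.from S))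
    (Twist.twistProjSpace n (ULift.{u} ℤ) (D : ℤ)) ⊤ (Mono.mono (ULift.{u} ℤ) a))

variable {n D p i}

/-- The number of monomial sections of the sum. -/
abbrev num (n D p : ℕ) : ℕ := Fintype.card (Fin p × Mono.Idx n D)

/-- The sections spanning. -/
def eps (q₁ : AX n D p i ⟶ E) : Fin (num n D p) → Γ(E, ⊤) := fun j =>
  let a := (Fintype.equivFin (Fin p × Mono.Idx n D)).symm j
  ((Limits.Sigma.ι (fun _ : Fin p => (Scheme.Modules.pullback i).obj (Twist.twistOver n S (D : ℤ))) a.1) ≫ q₁).app ⊤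
    (secX n D i a.2)

/-- The finite sum decomposition. -/
theorem exists_eq_sum_ι {Y : Scheme.{u}} {p : ℕ} (B : Y.Modules) (a : Γ(∐ fun _ : Fin p => B, ⊤)) :
    ∃ z : Fin p → Γ(B, ⊤), a = ∑ j, (Limits.Sigma.ι (fun _ : Fin p => B) j).app ⊤ (z j) := by
  classical
  let π : Fin p → ((∐ fun _ : Fin p => B) ⟶ B) := fun j => Limits.Sigma.desc fun l => if l = j then 𝟙 B else 0
  have h1 : ∑ j, π j ≫ Limits.Sigma.ι (fun _ : Fin p => B) j = 𝟙 _ := by
    refine Limits.Sigma.hom_ext _ _ fun l => ?_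
    rw [Preadditive.comp_sum, Category.comp_id, Finset.sum_eq_single l (fun j _ hj => ?_)
      (fun h => absurd (Finset.mem_univ l) h)]
    · rw [Limits.Sigma.ι_desc_assoc, if_pos rfl, Category.id_comp]
    · rw [Limits.Sigma.ι_desc_assoc, if_neg (Ne.symm hj), zero_comp]
  refine ⟨fun j => (π j).app ⊤ a, ?_⟩
  have h2 : ∀ s : Finset (Fin p), (∑ j ∈ s, π j ≫ Limits.Sigma.ι (fun _ : Fin p => B) j).app ⊤ a =
      ∑ j ∈ s, (Limits.Sigma.ι (fun _ : Fin p => B) j).app ⊤ ((π j).app ⊤ a) := fun s =>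
    map_sum (AddMonoidHom.mk' (fun φ : (∐ fun _ : Fin p => B) ⟶ (∐ fun _ : Fin p => B) => φ.app ⊤ a)
      (fun _ _ => rfl)) _ s
  rw [← h2, h1]
  rfl

variable [IsClosedImmersion i]

/-- The rank. -/
def rk (n D p : ℕ) (Φ : Polynomial ℚ) : ℕ := min ⌊Φ.eval 0⌋.toNat (num n D p)

theorem fieldHyp (q₁ : AX n D p i ⟶ E) [Epi q₁] (Φ : Polynomial ℚ) (M : ℕ) (hMD : M ≤ D)
    (hM : ∀ (k : Type u) [Field k] (F : (CohB1.ProjSpace n k).Modules)
      (φ : FlatMod.freeMod (CohB1.ProjSpace n k) p ⟶ F), Coh.IsCoh F → Epi φ →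
      (∀ j : ℕ, (chiP F (j : ℤ) : ℚ) = (Φ.comp (Polynomial.X - Polynomial.C (D : ℚ))).eval (j : ℚ)) →
        Regular (kernel φ) (M : ℤ)) :
    FieldHyp (i ≫ CohB1.ProjSpaceOver.toBase n S) ((Scheme.Modules.pullback i).obj (Twist.twistOver n S 1)) E
      (eps q₁) Φ (rk n D p Φ) := by
  classical
  intro k _ u Xk g h pb F q hF hq hP
  haveI := hq
  obtain ⟨ik, hci, hks, hkm⟩ := exists_fibre_proj i pb
  haveI := hci
  letI : Xk.Over (Spec (CommRingCat.of k)) := ⟨h⟩
  haveI := Groth.L22.Reg.isProper_over_proj (k := k) (n := n)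
  haveI : IsProper (Xk ↘ Spec (CommRingCat.of k)) := by
    show IsProper h
    rw [← hks]
    haveI : IsProper (CohB1.ProjSpace.toSpec n k) := inferInstanceAs (IsProper (CohB1.ProjSpace n k ↘ _))
    infer_instance
  let adj := Scheme.Modules.pullbackPushforwardAdjunction ik
  let B := Twist.twistProjSpace n k (D : ℤ)
  let A : (CohB1.ProjSpace n k).Modules := ∐ fun _ : Fin p => B
  -- the comparison of the summands
  obtain ⟨τ, hτ⟩ := Mono.exists_pullback_iso (n := n) (D := D) (zTo k)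
  let fst := pullback.fst (CohB1.ProjSpace.toSpec n (ULift.{u} ℤ)) (specULiftZIsTerminal.from S)
  let BZ := Twist.twistProjSpace n (ULift.{u} ℤ) (D : ℤ)
  let BX := (Scheme.Modules.pullback i).obj (Twist.twistOver n S (D : ℤ))
  let θ : (Scheme.Modules.pullback ik).obj B ⟶ (Scheme.Modules.pullback g).obj BX :=
    (Scheme.Modules.pullback ik).map τ.inv ≫ (Scheme.Modules.pullbackComp ik (ProjSpace.map n (zTo k))).hom.app BZ ≫
      (Scheme.Modules.pullbackCongr hkm).hom.app BZ ≫ (Scheme.Modules.pullbackComp g (i ≫ fst)).inv.app BZ ≫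
        (Scheme.Modules.pullback g).map ((Scheme.Modules.pullbackComp i fst).inv.app BZ)
  haveI : IsIso θ := inferInstance
  have hθ : ∀ a : Mono.Idx n D, θ.app ⊤ (pull ik B ⊤ (Mono.mono k a)) = pull g BX ⊤ (secX n D i a) := by
    intro a
    have hτ' : τ.inv.app ⊤ (Mono.mono k a) = pull (ProjSpace.map n (zTo k)) BZ ⊤ (Mono.mono _ a) := by
      rw [← hτ a]
      exact congr($(τ.hom_inv_id).app ⊤ (pull (ProjSpace.map n (zTo k)) BZ ⊤ (Mono.mono _ a)))
    let v := Mono.mono (ULift.{u} ℤ) a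
    have e1 : ((Scheme.Modules.pullback ik).map τ.inv).app ⊤ (pull ik B ⊤ (Mono.mono k a)) =
        pull ik _ ⊤ (pull (ProjSpace.map n (zTo k)) BZ ⊤ v) :=
      (Groth.L19.ProjBdl.pull_app ik τ.inv ⊤ (Mono.mono k a)).trans (congrArg (pull ik _ ⊤) hτ')
    have e2 : ((Scheme.Modules.pullbackComp ik (ProjSpace.map n (zTo k))).hom.app BZ).app ⊤
        (pull ik _ ⊤ (pull (ProjSpace.map n (zTo k)) BZ ⊤ v)) = pull (ik ≫ ProjSpace.map n (zTo k)) BZ ⊤ v := by
      refine (congrArg (fun z => (((Scheme.Modules.pullbackComp ik (ProjSpace.map n (zTo k))).hom.app BZ).app ⊤) z)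
        (Groth.L19.ProjBdl.pull_comp ik (ProjSpace.map n (zTo k)) BZ ⊤ v).symm).trans ?_
      exact congr($((Scheme.Modules.pullbackComp ik (ProjSpace.map n (zTo k))).inv_hom_id_app BZ).app ⊤
        (pull (ik ≫ ProjSpace.map n (zTo k)) BZ ⊤ v))
    have e3 : ((Scheme.Modules.pullbackCongr hkm).hom.app BZ).app ⊤ (pull (ik ≫ ProjSpace.map n (zTo k)) BZ ⊤ v) =
        pull (g ≫ i ≫ fst) BZ ⊤ v := by
      have h3 := (Groth.L19.ProjBdl.pull_congr hkm BZ ⊤ v rfl).trans (rs_self _ le_rfl _)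
      refine (congrArg (fun z => (((Scheme.Modules.pullbackCongr hkm).hom.app BZ).app ⊤) z) h3.symm).trans ?_
      exact congr($((Scheme.Modules.pullbackCongr hkm).inv_hom_id_app BZ).app ⊤ (pull (g ≫ i ≫ fst) BZ ⊤ v))
    have e4 : ((Scheme.Modules.pullbackComp g (i ≫ fst)).inv.app BZ).app ⊤ (pull (g ≫ i ≫ fst) BZ ⊤ v) =
        pull g _ ⊤ (pull (i ≫ fst) BZ ⊤ v) := Groth.L19.ProjBdl.pull_comp g (i ≫ fst) BZ ⊤ v
    have e5 : ((Scheme.Modules.pullback g).map ((Scheme.Modules.pullbackComp i fst).inv.app BZ)).app ⊤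
        (pull g _ ⊤ (pull (i ≫ fst) BZ ⊤ v)) = pull g BX ⊤ (secX n D i a) :=
      (Groth.L19.ProjBdl.pull_app g ((Scheme.Modules.pullbackComp i fst).inv.app BZ) ⊤ (pull (i ≫ fst) BZ ⊤ v)).trans
        (congrArg (pull g _ ⊤) (Groth.L19.ProjBdl.pull_comp i fst BZ ⊤ v))
    simp only [θ, Scheme.Modules.Hom.comp_app, ConcreteCategory.comp_apply]
    erw [e1, e2, e3, e4, e5]
  -- the map from projective space
  let θj : Fin p → ((Scheme.Modules.pullback ik).obj B ⟶ (Scheme.Modules.pullback g).obj E) := fun j =>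
    θ ≫ (Scheme.Modules.pullback g).map (Limits.Sigma.ι (fun _ : Fin p => BX) j ≫ q₁)
  let φ' : A ⟶ (Coh.push ik).obj ((Scheme.Modules.pullback g).obj E) :=
    Limits.Sigma.desc fun j => adj.homEquiv _ _ (θj j)
  let φ : (Scheme.Modules.pullback ik).obj A ⟶ (Scheme.Modules.pullback g).obj E := (adj.homEquiv _ _).symm φ'
  have hφ' : adj.unit.app A ≫ (Coh.push ik).map φ = φ' :=
    (adj.homEquiv_unit ..).symm.trans ((adj.homEquiv _ _).apply_symm_apply φ')
  haveI : Epi φ := by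
    refine ⟨fun {Z} a b hab => ?_⟩
    refine ((Scheme.Modules.pullbackPushforwardAdjunction g).homEquiv E Z).injective ?_
    rw [← cancel_epi q₁]
    refine Limits.Sigma.hom_ext _ _ fun j => ?_
    have hj : θj j = (Scheme.Modules.pullback ik).map (Limits.Sigma.ι (fun _ : Fin p => B) j) ≫ φ := by
      apply (adj.homEquiv _ _).injective
      rw [adj.homEquiv_naturality_left, Equiv.apply_symm_apply]
      exact (Limits.Sigma.ι_desc (fun j => adj.homEquiv _ _ (θj j)) j).symm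
    have h2 : θj j ≫ a = θj j ≫ b := by rw [hj, Category.assoc, Category.assoc, hab]
    simp only [θj, Category.assoc, cancel_epi] at h2
    rw [← Category.assoc, ← Category.assoc,
      ← Adjunction.homEquiv_naturality_left, ← Adjunction.homEquiv_naturality_left]
    exact congrArg _ h2
  let ψ : A ⟶ (Coh.push ik).obj F := adj.homEquiv _ _ (φ ≫ q)
  have hψ : ψ = adj.unit.app A ≫ (Coh.push ik).map (φ ≫ q) := adj.homEquiv_unit ..
  haveI : Epi ψ := by
    rw [hψ]
    haveI := Groth.L22.Reg.epi_unit ik A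
    haveI := Groth.L22.Reg.epi_map_push ik (φ ≫ q)
    infer_instance
  -- regularity
  obtain ⟨eL⟩ := nonempty_fibre_twist_iso i pb ik hkm 1
  have hFP := Groth.L22.Reg.isCoh_push_closed ik hF
  have hchi : ∀ j : ℕ, (chiP ((Coh.push ik).obj F) (j : ℤ) : ℚ) = Φ.eval (j : ℚ) := fun j => by
    rw [Groth.L22.Reg.chiP_push ik hks hF]
    obtain ⟨e⟩ := Groth.L22.Reg.nonempty_twist_twistOn ik _ ⟨eL⟩ F j
    refine Eq.trans ?_ (hP j)
    exact congrArg (Int.cast (R := ℚ)) (Groth.L03.Euler.euler_iso (k := k) e).symm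
  have hA : Coh.IsCoh A := ProjSpace.isCoh_sigma_twist n k fun _ : Fin p => (D : ℤ)
  let G := kernel ψ
  have hG : Coh.IsCoh G := (CohKernel.isCoh_kernel_cokernel hA hFP ψ).1
  let Sq := ShortComplex.mk (kernel.ι ψ) ψ (kernel.condition ψ)
  have hSq : Sq.ShortExact := { exact := ShortComplex.exact_kernel ψ, epi_g := inferInstanceAs (Epi ψ) }
  have hGreg : Regular G 0 := by
    let T := Sq.map (tensorRightF (O' n k (-(D : ℤ))))
    have hT : T.ShortExact := Groth.L22.Reg.shortExact_tw hSq _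
    obtain ⟨a⟩ := Groth.L22.Reg.nonempty_O_add (n := n) (R := k) (show (D : ℤ) + -(D : ℤ) = 0 by omega)
    obtain ⟨z⟩ := Groth.L22.Reg.nonempty_O_zero n k
    let P := tensorRightF (O' n k (-(D : ℤ)))
    haveI : PreservesColimitsOfSize.{u, u} P := inferInstance
    let eA : FlatMod.freeMod (CohB1.ProjSpace n k) p ≅ T.X₂ :=
      (Sigma.mapIso fun _ : Fin p => (a ≪≫ z).symm) ≪≫
        (PreservesCoproduct.iso P (fun _ : Fin p => B)).symm
    haveI : Epi T.g := hT.epi_g
    have hF0 : Coh.IsCoh T.X₃ := Groth.L22.Reg.isCoh_tw hFP _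
    have h1 := hM k T.X₃ (eA.hom ≫ T.g) hF0 inferInstance fun j => by
      obtain ⟨e⟩ := Groth.L22.Reg.nonempty_tw_tw ((Coh.push ik).obj F)
        (show -(D : ℤ) + (j : ℤ) = (j : ℤ) - D by omega)
      have h2 : chiP T.X₃ (j : ℤ) = chiP ((Coh.push ik).obj F) ((j : ℤ) - D) := by
        rw [Groth.L22.Reg.chiP_eq, Groth.L22.Reg.chiP_eq]
        exact Groth.L03.Euler.euler_iso e
      rw [h2, Groth.L22.Reg.chiP_eq_eval hFP hchi, Polynomial.eval_comp]
      simp
    have h3 : Regular T.X₁ (M : ℤ) := Groth.L22.Reg.regular_iso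
      ((kernelIsIsoComp eA.hom T.g) ≪≫ (hT.fIsKernel.conePointUniqueUpToIso (kernelIsKernel T.g)).symm) h1
    refine Regular.of_le (m := (M : ℤ) - D) (fun q' hq' => ?_) (by omega)
    obtain ⟨e⟩ := Groth.L22.Reg.nonempty_tw_tw G (show -(D : ℤ) + ((M : ℤ) - q') = (M : ℤ) - D - q' by omega)
    exact (Groth.L22.Reg.subsingleton_congr_iso e q').1 (h3 q' hq')
  have hFreg : Regular ((Coh.push ik).obj F) 0 :=
    Regular.of_middle_right (S := Sq) hSq (Groth.L22.Reg.regular_sigma_twist p (by omega)) (hGreg.of_le (by omega))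
  have hvanP : ∀ {K : (CohB1.ProjSpace n k).Modules}, Regular K 0 → ∀ q', 1 ≤ q' →
      Subsingleton (Coh.HH (CohB1.ProjSpace n k) K q') := fun {K} hK q' hq' => by
    obtain ⟨e⟩ := Groth.L22.Reg.nonempty_tw_zero K
    exact (Groth.L22.Reg.subsingleton_congr_iso e q').1 (hK.subsingleton hq' (by omega))
  haveI := Groth.L22.Reg.isSeparated_proj (k := k) (n := n)
  have hvan : ∀ q', 0 < q' → Subsingleton (Coh.HH Xk F q') := fun q' hq' => by
    obtain ⟨e⟩ := Groth.L03.Euler.exists_HH_push_linearEquiv ik F hF.1 hks q'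
    haveI := hvanP hFreg q' hq'
    exact e.toEquiv.subsingleton
  have hsurj : Function.Surjective (ψ.app ⊤) := by
    rw [← Groth.L22.Reg.surjective_hmap_zero_iff]
    intro y
    haveI : Subsingleton (Coh.HH (CohB1.ProjSpace n k) Sq.X₁ (0 + 1)) := hvanP hGreg 1 le_rfl
    exact (exact_hmap_delta hSq 0 y).1 (Subsingleton.elim _ _)
  -- images of global sections are combinations
  let ε' := pullε (eps q₁) g
  have hsc : ∀ r : k, ik.app ⊤ (show Γ(CohB1.ProjSpace n k, ⊤) from Coh.toGlobal (CohB1.ProjSpace.toSpec n k) r) =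
      h.app ⊤ (σk k r) := fun r => by
    subst hks
    rfl
  have hcomb : ∀ a : Γ(A, ⊤), ∃ c : Fin (num n D p) → Γ(Spec (CommRingCat.of k), ⊤),
      (show Γ((Scheme.Modules.pullback g).obj E, h ⁻¹ᵁ ⊤) from φ'.app ⊤ a) = comb h ε' ⊤ c := by
    intro a
    obtain ⟨z, rfl⟩ := exists_eq_sum_ι B a
    choose cz hcz using fun j => Mono.exists_eq_sum (n := n) (D := D) k (z j)
    let en := Fintype.equivFin (Fin p × Mono.Idx n D)
    refine ⟨fun l => σk k (cz (en.symm l).1 (en.symm l).2), ?_⟩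
    have hone : ∀ (j : Fin p) (m : Mono.Idx n D),
        (show Γ((Scheme.Modules.pullback g).obj E, ⊤) from
          φ'.app ⊤ ((Limits.Sigma.ι (fun _ : Fin p => B) j).app ⊤ (Mono.mono k m))) = ε' (en (j, m)) := by
      intro j m
      have h1 : φ'.app ⊤ ((Limits.Sigma.ι (fun _ : Fin p => B) j).app ⊤ (Mono.mono k m)) =
          (θj j).app ⊤ (pull ik B ⊤ (Mono.mono k m)) := by
        refine (congr($(Limits.Sigma.ι_desc (fun j => adj.homEquiv _ _ (θj j)) j).app ⊤ (Mono.mono k m))).trans ?_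
        rw [adj.homEquiv_unit]
        rfl
      refine h1.trans ?_
      show ((Scheme.Modules.pullback g).map _).app ⊤ (θ.app ⊤ _) = _
      rw [hθ]
      refine (Groth.L19.ProjBdl.pull_app g _ ⊤ (secX n D i m)).trans ?_
      simp [ε', pullε, eps, en]
      rfl
    rw [map_sum]
    simp only [comb]
    rw [← en.sum_comp, Fintype.sum_prod_type]
    refine Finset.sum_congr rfl fun j _ => ?_
    rw [hcz j, map_sum, map_sum]
    refine Finset.sum_congr rfl fun m _ => ?_
    rw [Scheme.Modules.Hom.app_smul, Scheme.Modules.Hom.app_smul, Equiv.symm_apply_apply]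
    show (ik.app ⊤ (show Γ(CohB1.ProjSpace n k, ⊤) from Coh.toGlobal (CohB1.ProjSpace.toSpec n k) (cz j m))) •
      (show Γ((Scheme.Modules.pullback g).obj E, ik ⁻¹ᵁ ⊤) from
        φ'.app ⊤ ((Limits.Sigma.ι (fun _ : Fin p => B) j).app ⊤ (Mono.mono k m))) = _
    rw [hsc, rs_self]
    exact congrArg _ (hone j m)
  have hspan : Function.Surjective (πL h ε' q ⊤) := fun y => by
    obtain ⟨a, ha⟩ := hsurj y
    obtain ⟨c, hc⟩ := hcomb a
    refine ⟨c, Eq.trans ?_ ha⟩
    show q.app ⊤ (comb h ε' ⊤ c) = ψ.app ⊤ a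
    rw [← hc, hψ, ← hφ', Functor.map_comp]
    rfl
  -- the rank
  have hfin : Module.Finite k (Coh.HH Xk F 0) := Groth.L16.ProperFinite.finite_HH k hF 0
  obtain ⟨b⟩ := nonempty_basis_of_finrank h F hfin rfl
  have hr : rk n D p Φ = Module.finrank k (Coh.HH Xk F 0) := by
    have h1 : (Module.finrank k (Coh.HH Xk F 0) : ℚ) = Φ.eval 0 := by
      refine Eq.trans ?_ (hP 0)
      refine congrArg (Int.cast (R := ℚ)) (Eq.trans ?_ (Groth.L03.Euler.euler_iso (k := k) (tensorUnitRight F)).symm)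
      exact (Groth.L17.Strat.euler_eq_finrank hvan).symm
    haveI : Nontrivial Γ(Spec (CommRingCat.of k), ⊤) := (σk k).symm.toEquiv.nontrivial
    haveI : Module.Free Γ(Spec (CommRingCat.of k), ⊤) (Sct h F ⊤) := Module.Free.of_basis b
    have h2 := LinearMap.finrank_le_finrank_of_surjective (f := πL h ε' q ⊤) hspan
    rw [Module.finrank_eq_card_basis b, Fintype.card_fin, Module.finrank_fin_fun] at h2
    rw [rk, ← h1, Int.floor_natCast, Int.toNat_natCast]
    omega
  refine ⟨hvan 1 one_pos, ⟨nonempty_basis_of_finrank h F hfin hr.symm, hspan, fun x => ?_⟩⟩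
  have hgg : Curv2.IsGloballyGenerated G := by
    obtain ⟨e⟩ := Groth.L22.Reg.nonempty_tw_zero G
    exact Groth.L18.Ample.isGloballyGenerated_of_iso e (hGreg.isGloballyGenerated hG le_rfl)
  haveI := Groth.L17.ClosedPush.isIso_counit ik
  have h1 : GenKerAt ((Scheme.Modules.pullback ik).map ψ ≫ adj.counit.app F)
      (pullσ (fun a : {a : Γ(A, ⊤) // ψ.app ⊤ a = 0} => a.1) ik) x (show x ∈ ik ⁻¹ᵁ ⊤ from trivial) :=
    GenKerAt.comp_mono _ _ ((genKerAt_of_gg ψ hgg (ik x)).pullback _ _ ik)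
  have h2 : (Scheme.Modules.pullback ik).map ψ ≫ adj.counit.app F = φ ≫ q :=
    (adj.homEquiv_counit ..).symm.trans (Equiv.symm_apply_apply _ _)
  have h1' : GenKerAt (φ ≫ q) (pullσ (fun a : {a : Γ(A, ⊤) // ψ.app ⊤ a = 0} => a.1) ik) x
      (show x ∈ ik ⁻¹ᵁ ⊤ from trivial) := h2 ▸ h1
  refine (h1'.of_epi φ q).mono (fun c => c.2) fun a => ?_
  obtain ⟨c, hc⟩ := hcomb a.1
  have hφa : (show Γ((Scheme.Modules.pullback g).obj E, ⊤) from φ'.app ⊤ a.1) =
      φ.app ⊤ (pull ik A ⊤ a.1) := by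
    rw [← hφ']; rfl
  refine ⟨⟨c, ?_⟩, hc.symm.trans hφa⟩
  show q.app ⊤ (comb h ε' ⊤ c) = 0
  rw [← hc, hφa]
  refine Eq.trans ?_ a.2
  exact (congr($(hψ).app ⊤ a.1)).symm

end Groth.L02.Quot.FieldProj
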