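import Groth.Agent.L02.Quot.Nested
import Groth.Agent.L02.Quot.ProjTotal
import Groth.Agent.L18.SegreOver
import Mathlib.AlgebraicGeometry.Limits

/-!
# Schemes of nested pairs of closed subschemes
-/

set_option autoImplicit false
set_option linter.style.haveILetI false
set_option linter.unusedSectionVars false
set_option backward.isDefEq.respectTransparency false
set_option backward.isDefEq.respectTransparency.types false

universe u

open CategoryTheory CategoryTheory.Limits AlgebraicGeometry TopologicalSpace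

noncomputable section

namespace Groth.L02.Quot.Flag

variable {X S : Scheme.{u}} (f : X ⟶ S) [IsProper f]

theorem hilbPull_mem {T T' : Over S} [IsLocallyNoetherian T.left] [IsLocallyNoetherian T'.left] (g : T' ⟶ T)
    (Y : FGA.HilbSet f T) :
    IsProper ((FGA.hilbPull f g Y.1).subschemeι ≫ PicF.XTproj f T') ∧
      Flat ((FGA.hilbPull f g Y.1).subschemeι ≫ PicF.XTproj f T') := by
  haveI := isLocallyNoetherian_XT (f := f) T
  haveI := isLocallyNoetherian_XT (f := f) T'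
  have h := Groth.L14.Quot.quotPull_mem f (Coh.structureModule X) g
    ⟨HilbQ.toQuot f Y.1, (HilbQ.toQuot_mem_iff f Y.1).2 Y.2⟩
  have e : FGA.quotPull f (Coh.structureModule X) g (HilbQ.toQuot f Y.1) = HilbQ.toQuot f (FGA.hilbPull f g Y.1) :=
    HilbQ.quotPull_toQuot f g Y.1
  exact (HilbQ.toQuot_mem_iff f _).1 (e ▸ h)

theorem hilbPull_comp {T T' T'' : Over S} [IsLocallyNoetherian T.left] [IsLocallyNoetherian T'.left]
    (g : T'' ⟶ T') (g' : T' ⟶ T) (I : (PicF.XT f T).IdealSheafData) :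
    FGA.hilbPull f (g ≫ g') I = FGA.hilbPull f g (FGA.hilbPull f g' I) := by
  refine HilbQ.qI_injective (pullback.fst f T''.hom) ?_
  show HilbQ.toQuot f _ = HilbQ.toQuot f _
  rw [← HilbQ.quotPull_toQuot f (g ≫ g') I, ← HilbQ.quotPull_toQuot f g (FGA.hilbPull f g' I),
    ← HilbQ.quotPull_toQuot f g' I, Groth.L14.Quot.quotPull_comp]

/-- A product of two closed subschemes of projective spaces is one. -/
theorem exists_prod_proj {A B : Scheme.{u}} {a : A ⟶ S} {b : B ⟶ S} {n m : ℕ}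
    (cA : A ⟶ CohB1.ProjSpaceOver n S) [IsClosedImmersion cA] (hA : cA ≫ CohB1.ProjSpaceOver.toBase n S = a)
    (cB : B ⟶ CohB1.ProjSpaceOver m S) [IsClosedImmersion cB] (hB : cB ≫ CohB1.ProjSpaceOver.toBase m S = b) :
    ∃ c : pullback a b ⟶ CohB1.ProjSpaceOver (n * m + n + m) S, IsClosedImmersion c ∧
      c ≫ CohB1.ProjSpaceOver.toBase _ S = pullback.fst a b ≫ a := by
  obtain ⟨φ, hφ, hφb⟩ := Groth.L18.PS.segre_over S n m
  let d : pullback a b ⟶ pullback (CohB1.ProjSpaceOver.toBase n S) (CohB1.ProjSpaceOver.toBase m S) :=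
    pullback.map a b _ _ cA cB (𝟙 _) (by rw [Category.comp_id, hA]) (by rw [Category.comp_id, hB])
  haveI : IsClosedImmersion d :=
    MorphismProperty.pullback_map (P := @IsClosedImmersion) inferInstance inferInstance hA.symm hB.symm
  haveI := hφ
  refine ⟨d ≫ φ, inferInstance, ?_⟩
  rw [Category.assoc, hφb]
  simp [d, hA]

/-- Nested pairs in a projective scheme are parametrised by a disjoint union of projective schemes. -/
theorem exists_flag [AlgebraicGeometry.IsNoetherian S] {n : ℕ} (i : X ⟶ CohB1.ProjSpaceOver n S) [IsClosedImmersion i]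
    (hf : i ≫ CohB1.ProjSpaceOver.toBase n S = f) :
    ∃ (H : Over S) (W₁ W₂ : FGA.HilbSet f H), W₂.1 ≤ W₁.1 ∧ IsLocallyNoetherian H.left ∧
      (∀ (T : Over S) [IsLocallyNoetherian T.left] (Y₁ Y₂ : FGA.HilbSet f T), Y₂.1 ≤ Y₁.1 →
          ∃! g : T ⟶ H, FGA.hilbPull f g W₁.1 = Y₁.1 ∧ FGA.hilbPull f g W₂.1 = Y₂.1) ∧
      ∃ (ι : Type u) (P : ι → Scheme.{u}) (e : (∐ P) ≅ H.left) (m : ι → ℕ)
        (c : ∀ a, P a ⟶ CohB1.ProjSpaceOver (m a) S),
        ∀ a, IsClosedImmersion (c a) ∧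
          c a ≫ CohB1.ProjSpaceOver.toBase (m a) S = Limits.Sigma.ι P a ≫ e.hom ≫ H.hom := by
  haveI : IsLocallyNoetherian X := LocallyOfFiniteType.isLocallyNoetherian f
  have hX : Coh.IsCoh (Coh.structureModule X) := Groth.L16.Rees.RelVanish.isCoh_structureModule X
  obtain ⟨e0⟩ := nonempty_OX_zero i
  let q : (∐ fun _ : Fin 1 => OX i 0) ⟶ Coh.structureModule X := Limits.Sigma.desc fun _ => e0.hom
  haveI : Epi q := by
    haveI : Epi (Limits.Sigma.ι (fun _ : Fin 1 => OX i 0) 0 ≫ q) := by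
      rw [Limits.Sigma.ι_desc]; infer_instance
    exact epi_of_epi (Limits.Sigma.ι (fun _ : Fin 1 => OX i 0) 0) q
  obtain ⟨Q, K, hK, ι, P, e, m, c, hc⟩ := exists_quot_total_proj i f hf (Coh.structureModule X) hX 1 0 q
  obtain ⟨Z, hZ⟩ := HilbQ.exists_hilb f K hK
  haveI := hK.1
  have hci : ∀ a, IsClosedImmersion (c a) := fun a => (hc a).1
  have hpr : ∀ a, IsProper (Limits.Sigma.ι P a ≫ e.hom ≫ Q.hom) := fun a => by
    rw [← (hc a).2]
    haveI := hci a
    exact isProper_comp_toBase (c a)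
  haveI : LocallyOfFiniteType Q.hom := by
    rw [← MorphismProperty.cancel_left_of_respectsIso @LocallyOfFiniteType e.hom,
      IsZariskiLocalAtSource.iff_of_openCover (P := @LocallyOfFiniteType) (sigmaOpenCover P)]
    exact fun a => haveI := hpr a; inferInstanceAs (LocallyOfFiniteType (Limits.Sigma.ι P a ≫ e.hom ≫ Q.hom))
  let T : Over S := Over.mk (pullback.fst Q.hom Q.hom ≫ Q.hom)
  let p₁ : T ⟶ Q := Over.homMk (pullback.fst Q.hom Q.hom) rfl
  let p₂ : T ⟶ Q := Over.homMk (pullback.snd Q.hom Q.hom) pullback.condition.symm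
  haveI : IsLocallyNoetherian T.left := LocallyOfFiniteType.isLocallyNoetherian (pullback.fst Q.hom Q.hom)
  obtain ⟨H, cH, hcH, hH⟩ := Nested.exists_hilb_le_locus i hf hX
    ⟨_, hilbPull_mem f p₁ Z⟩ ⟨_, hilbPull_mem f p₂ Z⟩
  haveI := hcH
  haveI : IsLocallyNoetherian H.left := LocallyOfFiniteType.isLocallyNoetherian cH.left
  refine ⟨H, ⟨_, hilbPull_mem f (cH ≫ p₁) Z⟩, ⟨_, hilbPull_mem f (cH ≫ p₂) Z⟩, ?_, inferInstance, ?_, ?_⟩
  · show FGA.hilbPull f (cH ≫ p₂) Z.1 ≤ FGA.hilbPull f (cH ≫ p₁) Z.1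
    rw [hilbPull_comp, hilbPull_comp]
    exact (hH H cH).2 ⟨𝟙 _, Category.id_comp _⟩
  · intro U _ Y₁ Y₂ h
    obtain ⟨g₁, hg₁, hu₁⟩ := hZ.2 U Y₁
    obtain ⟨g₂, hg₂, hu₂⟩ := hZ.2 U Y₂
    let g : U ⟶ T := Over.homMk (pullback.lift g₁.left g₂.left ((Over.w g₁).trans (Over.w g₂).symm))
      ((pullback.lift_fst_assoc _ _ _ _).trans (Over.w g₁))
    have hgp₁ : g ≫ p₁ = g₁ := Over.OverMorphism.ext (pullback.lift_fst _ _ _)
    have hgp₂ : g ≫ p₂ = g₂ := Over.OverMorphism.ext (pullback.lift_snd _ _ _)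
    have hle : FGA.hilbPull f g (FGA.hilbPull f p₂ Z.1) ≤ FGA.hilbPull f g (FGA.hilbPull f p₁ Z.1) := by
      rw [← hilbPull_comp, ← hilbPull_comp, hgp₁, hgp₂, hg₁, hg₂]
      exact h
    obtain ⟨w, hw⟩ := (hH U g).1 hle
    refine ⟨w, ⟨?_, ?_⟩, fun w' ⟨hw₁, hw₂⟩ => ?_⟩
    · rw [← hilbPull_comp, reassoc_of% hw, hgp₁, hg₁]
    · rw [← hilbPull_comp, reassoc_of% hw, hgp₂, hg₂]
    · have e₁ : w' ≫ cH ≫ p₁ = g₁ := hu₁ _ (by show FGA.hilbPull f (w' ≫ cH ≫ p₁) Z.1 = _; rw [hilbPull_comp]; exact hw₁)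
      have e₂ : w' ≫ cH ≫ p₂ = g₂ := hu₂ _ (by show FGA.hilbPull f (w' ≫ cH ≫ p₂) Z.1 = _; rw [hilbPull_comp]; exact hw₂)
      refine Over.OverMorphism.ext ((cancel_mono cH.left).1 (pullback.hom_ext ?_ ?_))
      · exact ((congr($(e₁).left)).trans (congr($(hgp₁).left)).symm).trans
          (congr($(hw).left ≫ pullback.fst Q.hom Q.hom)).symm
      · exact ((congr($(e₂).left)).trans (congr($(hgp₂).left)).symm).trans
          (congr($(hw).left ≫ pullback.snd Q.hom Q.hom)).symm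
  · let π : ι → Scheme.{u} := P
    let o : ∀ a, P a ⟶ Q.left := fun a => Limits.Sigma.ι P a ≫ e.hom
    let d : ι × ι → Scheme.{u} := fun ab => pullback (o ab.1 ≫ Q.hom) (o ab.2 ≫ Q.hom)
    let dm : ∀ ab, d ab ⟶ T.left := fun ab =>
      pullback.map (o ab.1 ≫ Q.hom) (o ab.2 ≫ Q.hom) Q.hom Q.hom (o ab.1) (o ab.2) (𝟙 _) (by simp) (by simp)
    have hrange : ∀ ab, Set.range (dm ab) = pullback.fst Q.hom Q.hom ⁻¹' Set.range (o ab.1) ∩
        pullback.snd Q.hom Q.hom ⁻¹' Set.range (o ab.2) := fun ab => Scheme.Pullback.range_map _ _ _ _ _ _ _ _ _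
    haveI : ∀ ab, IsOpenImmersion (dm ab) := fun ab => inferInstance
    let j : ∀ ab, pullback cH.left (dm ab) ⟶ H.left := fun ab => pullback.fst cH.left (dm ab)
    have hrj : ∀ ab, Set.range (j ab) = cH.left ⁻¹' Set.range (dm ab) := fun ab => IsOpenImmersion.range_pullbackFst _ _
    have hcov : ⨆ ab, (j ab).opensRange = ⊤ := top_unique fun z _ => by
      obtain ⟨a, y, hy⟩ := (sigmaOpenCover P).exists_eq (e.inv (pullback.fst Q.hom Q.hom (cH.left z)))
      obtain ⟨b, y', hy'⟩ := (sigmaOpenCover P).exists_eq (e.inv (pullback.snd Q.hom Q.hom (cH.left z)))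
      refine Opens.mem_iSup.2 ⟨(a, b), ?_⟩
      show z ∈ Set.range (j (a, b))
      rw [hrj, Set.mem_preimage, hrange]
      have key : ∀ (w : Q.left) (a : ι) (y : P a), Limits.Sigma.ι P a y = e.inv w → w ∈ Set.range (o a) :=
        fun w a y h => ⟨y, by
          show e.hom (Limits.Sigma.ι P a y) = w
          rw [h, ← Scheme.Hom.comp_apply, e.inv_hom_id]; rfl⟩
      exact ⟨key _ a y hy, key _ b y' hy'⟩
    have hdis : ∀ {a b : ι} {w : Q.left}, w ∈ Set.range (o a) → w ∈ Set.range (o b) → a = b := by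
      rintro a b _ ⟨y, rfl⟩ ⟨y', hy'⟩
      by_contra h
      have hd := disjoint_opensRange_sigmaι P a b h
      exact (hd.le_bot (show Limits.Sigma.ι P a y ∈ _ ⊓ _ from
        ⟨⟨y, rfl⟩, ⟨y', e.hom.isOpenEmbedding.injective hy'⟩⟩) : False)
    obtain ⟨hcol⟩ := nonempty_isColimit_cofanMk_of j hcov fun ab ab' hne => by
      refine disjoint_iff.2 (Opens.ext (Set.eq_empty_of_forall_notMem fun z hz => hne ?_))
      have h1 : z ∈ Set.range (j ab) := hz.1
      have h2 : z ∈ Set.range (j ab') := hz.2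
      rw [hrj, Set.mem_preimage, hrange] at h1 h2
      exact Prod.ext (hdis h1.1 h2.1) (hdis h1.2 h2.2)
    haveI := fun ab : ι × ι => hci ab.1
    choose cd hcd hcdb using fun ab : ι × ι => haveI := hci ab.1; haveI := hci ab.2
      exists_prod_proj (c ab.1) (show _ = o ab.1 ≫ Q.hom from (hc ab.1).2.trans (Category.assoc _ _ _).symm)
        (c ab.2) (show _ = o ab.2 ≫ Q.hom from (hc ab.2).2.trans (Category.assoc _ _ _).symm)
    refine ⟨ι × ι, fun ab => pullback cH.left (dm ab),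
      (coproductIsCoproduct _).coconePointUniqueUpToIso hcol, fun ab => m ab.1 * m ab.2 + m ab.1 + m ab.2,
      fun ab => pullback.snd cH.left (dm ab) ≫ cd ab, fun ab => ⟨?_, ?_⟩⟩
    · haveI := hcd ab
      haveI : IsClosedImmersion (pullback.snd cH.left (dm ab)) := MorphismProperty.pullback_snd _ _ hcH
      infer_instance
    · rw [← Category.assoc (Limits.Sigma.ι _ ab),
        show Limits.Sigma.ι (fun ab => pullback cH.left (dm ab)) ab ≫
          ((coproductIsCoproduct _).coconePointUniqueUpToIso hcol).hom = j ab from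
          IsColimit.comp_coconePointUniqueUpToIso_hom _ hcol ⟨ab⟩, Category.assoc, hcdb, ← Over.w cH]
      show _ = j ab ≫ cH.left ≫ pullback.fst Q.hom Q.hom ≫ Q.hom
      rw [reassoc_of% (pullback.condition (f := cH.left) (g := dm ab))]
      simp [dm, o]

end Groth.L02.Quot.Flag
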