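import Groth.Agent.L02.Quot.PullStk
import Groth.Agent.L18.FiberStalk
import Groth.Agent.L21.Mod.Locality
import Groth.Prelude.Def_FlatMod2
import Mathlib.RingTheory.Nakayama
import Mathlib.RingTheory.Flat.Basic
import Mathlib.LinearAlgebra.TensorProduct.RightExactness
import Mathlib.RingTheory.Noetherian.Basic
import Mathlib.CategoryTheory.Subobject.Limits

/-! Global sections generating the kernel of a morphism, stalk by stalk. -/

set_option autoImplicit false
set_option linter.style.haveILetI false
set_option linter.unusedSectionVars false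
set_option backward.isDefEq.respectTransparency false
set_option backward.isDefEq.respectTransparency.types false

universe u

open CategoryTheory CategoryTheory.Limits AlgebraicGeometry TopologicalSpace IsLocalRing
open scoped TensorProduct

noncomputable section

namespace Groth.L02.Quot

section Alg

variable {R O : Type u} [CommRing R] [CommRing O] [Algebra R O] [IsLocalRing R] [IsLocalRing O]
  [IsLocalHom (algebraMap R O)] {E F : Type u} [AddCommGroup E] [Module O E] [AddCommGroup F] [Module O F]
  [Module R F] [IsScalarTower R O F]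

/-- A kernel with flat cokernel-quotient is generated once it is so modulo the maximal ideal of the base. -/
theorem ker_eq_of_mod (q : E →ₗ[O] F) (hq : Function.Surjective q) [Module.Flat R F] [IsNoetherianRing O]
    [Module.Finite O E] (N : Submodule O E) (hN : N ≤ LinearMap.ker q)
    (h : LinearMap.ker q ≤ N ⊔ (maximalIdeal R).map (algebraMap R O) • ⊤) : LinearMap.ker q = N := by
  let π : E →ₗ[O] (E ⧸ N) := N.mkQ
  let qb : (E ⧸ N) →ₗ[O] F := N.liftQ q hN
  let K := LinearMap.ker qb
  let I := maximalIdeal R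
  letI : Module R E := Module.compHom E (algebraMap R O)
  haveI : IsScalarTower R O E := IsScalarTower.of_algebraMap_smul fun _ _ => rfl
  have hex : Function.Exact (K.subtype.restrictScalars R) (qb.restrictScalars R) := LinearMap.exact_subtype_ker_map qb
  have hsurj : Function.Surjective (qb.restrictScalars R) := fun y => by
    obtain ⟨e, rfl⟩ := hq y; exact ⟨π e, rfl⟩
  have hinj := LinearMap.lTensor_injective_of_exact_of_flat (qb.restrictScalars R) hsurj
    (K.subtype.restrictScalars R) Subtype.val_injective hex (R ⧸ I)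
  have hle : K ≤ I.map (algebraMap R O) • K := by
    intro c hc
    have hc' : c ∈ I.map (algebraMap R O) • (⊤ : Submodule O (E ⧸ N)) := by
      obtain ⟨e, rfl⟩ := N.mkQ_surjective c
      obtain ⟨n, hn, m, hm, rfl⟩ := Submodule.mem_sup.1 (h (show e ∈ LinearMap.ker q from hc))
      rw [map_add, show N.mkQ n = 0 from (Submodule.Quotient.mk_eq_zero _).2 hn, zero_add]
      have := Submodule.mem_map_of_mem (f := N.mkQ) hm
      rw [Submodule.map_smul''] at this
      exact Submodule.smul_mono le_rfl le_top this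
    have hI : ∀ (M : Type u) [AddCommGroup M] [Module O M] [Module R M] [IsScalarTower R O M] (m : M),
        m ∈ I • (⊤ : Submodule R M) ↔ m ∈ I.map (algebraMap R O) • (⊤ : Submodule O M) := by
      intro M _ _ _ _ m
      rw [← Submodule.restrictScalars_top R O M, ← Ideal.smul_restrictScalars]
      rfl
    have hzero : ((1 : R ⧸ I) ⊗ₜ[R] c : (R ⧸ I) ⊗[R] (E ⧸ N)) = 0 := by
      apply (TensorProduct.quotTensorEquivQuotSMul (E ⧸ N) I).injective
      rw [map_zero, ← map_one (Ideal.Quotient.mk I), TensorProduct.quotTensorEquivQuotSMul_mk_tmul, one_smul]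
      exact (Submodule.Quotient.mk_eq_zero _).2 ((hI _ c).2 hc')
    have hK : ((1 : R ⧸ I) ⊗ₜ[R] (⟨c, hc⟩ : K) : (R ⧸ I) ⊗[R] K) = 0 := hinj (by
      rw [map_zero, LinearMap.lTensor_tmul]
      exact hzero)
    have h2 := congrArg (TensorProduct.quotTensorEquivQuotSMul K I) hK
    rw [map_zero, ← map_one (Ideal.Quotient.mk I), TensorProduct.quotTensorEquivQuotSMul_mk_tmul, one_smul,
      Submodule.Quotient.mk_eq_zero] at h2
    have h3 := Submodule.mem_map_of_mem (f := K.subtype) ((hI _ _).1 h2)
    rwa [Submodule.map_smul'', Submodule.map_subtype_top] at h3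
  have hmax : I.map (algebraMap R O) ≤ Ideal.jacobson ⊥ := by
    rw [IsLocalRing.jacobson_eq_maximalIdeal ⊥ bot_ne_top]
    exact Ideal.map_le_iff_le_comap.2 fun a ha => map_nonunit (algebraMap R O) a ha
  haveI : IsNoetherian O (E ⧸ N) := isNoetherian_of_isNoetherianRing_of_finite _ _
  have hK : K = ⊥ := Submodule.eq_bot_of_le_smul_of_le_jacobson_bot _ K (IsNoetherian.noetherian K) hle hmax
  refine le_antisymm (fun e he => ?_) hN
  have : π e ∈ K := he
  rw [hK, Submodule.mem_bot] at this
  exact (Submodule.Quotient.mk_eq_zero _).1 this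

end Alg

variable {X : Scheme.{u}} {E F : X.Modules} (q : E ⟶ F) {ι : Type*} {U : X.Opens} (σ : ι → Γ(E, U))

/-- The stalk map, linearly. -/
def stkₗ (x : X) : E.presheaf.stalk x →ₗ[X.presheaf.stalk x] F.presheaf.stalk x :=
  ((Groth.L00.Stk.F X x).map q).hom

theorem stkₗ_germ (x : X) {U : X.Opens} (hx : x ∈ U) (s : Γ(E, U)) :
    stkₗ q x (E.presheaf.germ U x hx s) = F.presheaf.germ U x hx (q.app U s) :=
  congrArg (fun k => (ConcreteCategory.hom k) s)
    (TopCat.Presheaf.stalkFunctor_map_germ U x hx ((Scheme.Modules.toPresheaf X).map q))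

theorem stkₗ_surjective [Epi q] (x : X) : Function.Surjective (stkₗ q x) :=
  (Groth.L21.Mod.epi_iff_stalk_surjective q).1 inferInstance x

/-- The span of the germs. -/
def spanGerm (x : X) (hx : x ∈ U) : Submodule (X.presheaf.stalk x) (E.presheaf.stalk x) :=
  Submodule.span _ (Set.range fun i => E.presheaf.germ U x hx (σ i))

/-- The sections generate the kernel at a point. -/
def GenKerAt (x : X) (hx : x ∈ U) : Prop := LinearMap.ker (stkₗ q x) = spanGerm σ x hx

theorem spanGerm_le_ker (h : ∀ i, q.app U (σ i) = 0) (x : X) (hx : x ∈ U) : spanGerm σ x hx ≤ LinearMap.ker (stkₗ q x) :=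
  Submodule.span_le.2 (by
    rintro _ ⟨i, rfl⟩
    show stkₗ q x _ = 0
    rw [stkₗ_germ, h i, map_zero])

section Pull

variable {X' : Scheme.{u}} (g : X' ⟶ X)

/-- The pulled back sections. -/
def pullσ : ι → Γ((Scheme.Modules.pullback g).obj E, g ⁻¹ᵁ U) :=
  fun i => Groth.L18.Frame.pull g E U (σ i)

theorem GenKerAt.pullback [Epi q] {x' : X'} {hx : g x' ∈ U} (h : GenKerAt q σ (g x') hx) :
    GenKerAt ((Scheme.Modules.pullback g).map q) (pullσ σ g) x' hx := by
  letI := (Groth.L00.PullStalk.φ g x').toAlgebra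
  let O := X.presheaf.stalk (g x')
  let O' := X'.presheaf.stalk x'
  refine le_antisymm (fun z hz => ?_) (Submodule.span_le.2 ?_)
  · let eE := ((Groth.L00.PullStalk.stalkIso g x').app E).toLinearEquiv
    let eF := ((Groth.L00.PullStalk.stalkIso g x').app F).toLinearEquiv
    have hnat : eF (stkₗ ((Scheme.Modules.pullback g).map q) x' z) = (stkₗ q (g x')).lTensor O' (eE z) :=
      congrArg (fun k => (ConcreteCategory.hom k) z) ((Groth.L00.PullStalk.stalkIso g x').hom.naturality q)
    rw [LinearMap.mem_ker.1 hz, map_zero] at hnat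
    have hex : Function.Exact ((LinearMap.ker (stkₗ q (g x'))).subtype.lTensor O') ((stkₗ q (g x')).lTensor O') :=
      lTensor_exact O' (LinearMap.exact_subtype_ker_map _) (stkₗ_surjective q (g x'))
    obtain ⟨u, hu⟩ := (hex _).1 hnat.symm
    rw [← eE.symm_apply_apply z, ← hu]
    clear hu hnat hz
    induction u using TensorProduct.induction_on with
    | zero =>
      rw [map_zero]
      exact (map_zero eE.symm).symm ▸ Submodule.zero_mem _
    | tmul a n =>
      rw [LinearMap.lTensor_tmul]
      have h1 : (show O' ⊗[O] E.presheaf.stalk (g x') from a ⊗ₜ n.1) = a • ((1 : O') ⊗ₜ n.1) := by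
        rw [TensorProduct.smul_tmul', smul_eq_mul, mul_one]
      refine ((congrArg eE.symm h1).trans (map_smul eE.symm a _)).symm ▸ Submodule.smul_mem _ a ?_
      show τ g E x' n.1 ∈ spanGerm (pullσ σ g) x' hx
      have hn : n.1 ∈ spanGerm σ (g x') hx := h ▸ n.2
      refine Submodule.span_induction (fun y hy => ?_) ?_ (fun y y' _ _ hy hy' => ?_) (fun r y _ hy => ?_) hn
      · obtain ⟨i, rfl⟩ := hy
        rw [τ_germ]
        exact Submodule.subset_span ⟨i, rfl⟩
      · rw [map_zero]; exact Submodule.zero_mem _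
      · rw [map_add]; exact Submodule.add_mem _ hy hy'
      · rw [LinearMap.map_smulₛₗ]; exact Submodule.smul_mem _ _ hy
    | add a b ha hb =>
      rw [map_add]
      exact (map_add eE.symm _ _).symm ▸ Submodule.add_mem _ ha hb
  · rintro _ ⟨i, rfl⟩
    have h0 : stkₗ q (g x') (E.presheaf.germ U (g x') hx (σ i)) = 0 :=
      LinearMap.mem_ker.1 (h ▸ Submodule.subset_span ⟨i, rfl⟩)
    show stkₗ _ x' _ = 0
    have h1 := τ_germ g E x' (V := U) hx (σ i)
    refine (congrArg (stkₗ _ x') h1.symm).trans ((τ_natural g E x' q _).trans ?_)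
    exact (congrArg (τ g F x') h0).trans (map_zero _)

end Pull

section Fibre

variable {S : Scheme.{u}} (f : X ⟶ S)

/-- Generation of the kernel is detected on the fibre, for a flat target. -/
theorem genKerAt_of_fibre [IsLocallyNoetherian X] (hE : ∀ x, Module.Finite (X.presheaf.stalk x) (E.presheaf.stalk x))
    [Epi q] (hF : FlatMod.IsFlatOver f F) (h0 : ∀ i, q.app U (σ i) = 0) (s : S) (v : ↥(f.fiber s)) (hx : f.fiberι s v ∈ U)
    (hv : GenKerAt ((Scheme.Modules.pullback (f.fiberι s)).map q) (pullσ σ (f.fiberι s)) v hx) :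
    GenKerAt q σ (f.fiberι s v) hx := by
  set g := f.fiberι s
  set x := g v
  letI : Algebra (S.presheaf.stalk (f x)) (X.presheaf.stalk x) := (f.stalkMap x).hom.toAlgebra
  haveI : IsLocalHom (algebraMap (S.presheaf.stalk (f x)) (X.presheaf.stalk x)) :=
    inferInstanceAs (IsLocalHom (f.stalkMap x).hom)
  letI : Module (S.presheaf.stalk (f x)) (F.presheaf.stalk x) := Module.compHom _ (f.stalkMap x).hom
  haveI : IsScalarTower (S.presheaf.stalk (f x)) (X.presheaf.stalk x) (F.presheaf.stalk x) :=
    IsScalarTower.of_algebraMap_smul fun _ _ => rfl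
  haveI : Module.Flat (S.presheaf.stalk (f x)) (F.presheaf.stalk x) := hF x
  haveI := hE x
  refine ker_eq_of_mod (R := S.presheaf.stalk (f x)) (stkₗ q x) (stkₗ_surjective q x) (spanGerm σ x hx) (spanGerm_le_ker q σ h0 x hx) fun e he => ?_
  obtain ⟨hsurj, hker⟩ := Groth.L18.stalkMap_fiberι f s v
  have h1 : τ g E v e ∈ spanGerm (pullσ σ g) v hx := hv ▸ (show stkₗ _ v (τ g E v e) = 0 from
    (τ_natural g E v q e).trans ((congrArg (τ g F v) (LinearMap.mem_ker.1 he)).trans (map_zero _)))
  obtain ⟨n, hn, hne⟩ : ∃ n ∈ spanGerm σ x hx, τ g E v n = τ g E v e := by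
    refine Submodule.span_induction (p := fun z _ => ∃ n ∈ spanGerm σ x hx, τ g E v n = z)
      (fun z hz => ?_) ⟨0, Submodule.zero_mem _, map_zero _⟩ (fun z z' _ _ hz hz' => ?_) (fun r z _ hz => ?_) h1
    · obtain ⟨i, rfl⟩ := hz
      exact ⟨_, Submodule.subset_span ⟨i, rfl⟩, τ_germ g E v (V := U) hx (σ i)⟩
    · obtain ⟨n, hn, rfl⟩ := hz
      obtain ⟨n', hn', rfl⟩ := hz'
      exact ⟨n + n', Submodule.add_mem _ hn hn', map_add _ _ _⟩
    · obtain ⟨n, hn, rfl⟩ := hz
      obtain ⟨r', rfl⟩ := hsurj r
      exact ⟨r' • n, Submodule.smul_mem _ _ hn, LinearMap.map_smulₛₗ _ _ _⟩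
  have h2 : τ g E v (e - n) = 0 := by rw [map_sub, hne, sub_self]
  rw [τ_eq_zero_iff g E v hsurj, hker] at h2
  exact Submodule.mem_sup.2 ⟨n, hn, e - n, h2, add_sub_cancel n e⟩

end Fibre

/-- Two quotients whose kernels agree stalk by stalk have the same kernel. -/
theorem kernelSubobject_eq {G : X.Modules} (q' : E ⟶ G)
    (h : ∀ x, LinearMap.ker (stkₗ q x) = LinearMap.ker (stkₗ q' x)) : kernelSubobject q = kernelSubobject q' := by
  have key : ∀ {A B : X.Modules} (a : E ⟶ A) (b : E ⟶ B), (∀ x, LinearMap.ker (stkₗ a x) ≤ LinearMap.ker (stkₗ b x)) →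
      (kernelSubobject a).arrow ≫ b = 0 := by
    intro A B a b hab
    apply Groth.L21.Mod.hom_ext_stalk
    intro x
    ext z
    have h1 : stkₗ a x (stkₗ (kernelSubobject a).arrow x z) = 0 :=
      (congrArg (fun k => (ConcreteCategory.hom k) z) ((Groth.L00.Stk.F X x).map_comp _ a)).symm.trans (by
        rw [kernelSubobject_arrow_comp, Functor.map_zero]
        rfl)
    have h2 : stkₗ b x (stkₗ (kernelSubobject a).arrow x z) = 0 :=
      LinearMap.mem_ker.1 (hab x (LinearMap.mem_ker.2 h1))
    rw [Functor.map_zero]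
    refine Eq.trans ?_ h2
    exact congrArg (fun k => (ConcreteCategory.hom k) z) ((Groth.L00.Stk.F X x).map_comp _ b)
  exact le_antisymm (le_kernelSubobject q' _ (key q q' fun x => (h x).le))
    (le_kernelSubobject q _ (key q' q fun x => (h x).ge))

end Groth.L02.Quot
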