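import Groth.Agent.L02.Quot.CoreLemmas
import Groth.Agent.L21.Mod.Locality
import Groth.Agent.L29.DCoh.RHomCoh
import Groth.Agent.L17.FlatBase.CxTools
import Groth.Agent.L02.FibFlat.Pointwise
import Groth.Agent.L14.Quot.Pull
import Mathlib.AlgebraicGeometry.PullbackCarrier
import Mathlib.CategoryTheory.Limits.FunctorCategory.Basic
import Mathlib.Algebra.Category.Grp.Limits

/-!
# Families of quotients on disjoint open pieces of the base
-/

set_option autoImplicit false
set_option linter.style.haveILetI false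
set_option linter.unusedSectionVars false
set_option backward.isDefEq.respectTransparency false
set_option backward.isDefEq.respectTransparency.types false

universe u

open CategoryTheory CategoryTheory.Limits AlgebraicGeometry TopologicalSpace Opposite

noncomputable section

namespace Groth.L02.Quot.Glue

variable {X S : Scheme.{u}} (f : X ⟶ S) (E : X.Modules) {T : Over S} {α : Type u} {Ta : α → Over S} (g : ∀ a, Ta a ⟶ T)

instance isOpenImmersion_XTmap {T' : Over S} (h : T' ⟶ T) [IsOpenImmersion h.left] :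
    IsOpenImmersion (PicF.XTmap f h) :=
  MorphismProperty.of_isPullback (P := @IsOpenImmersion) (Groth.L14.Quot.isPullback_XTmap f h).flip inferInstance

theorem exists_XTmap_eq (hcov : ∀ t : T.left, ∃ a y, (g a).left y = t) (x : PicF.XT f T) :
    ∃ a y, PicF.XTmap f (g a) y = x := by
  obtain ⟨a, y, hy⟩ := hcov (PicF.XTproj f T x)
  obtain ⟨z, hz, -⟩ := Scheme.Pullback.exists_preimage_pullback (f := PicF.XTproj f T) (g := (g a).left) x y hy.symm
  refine ⟨a, (Groth.L14.Quot.isPullback_XTmap f (g a)).isoPullback.inv z, ?_⟩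
  rw [← Scheme.Hom.comp_apply, IsPullback.isoPullback_inv_fst]
  exact hz

theorem pullback_map_eq_zero {Y X' : Scheme.{u}} {j : X' ⟶ Y} [IsOpenImmersion j] {M N : Y.Modules} {k : M ⟶ N}
    (h : (Scheme.Modules.pullback j).map k = 0) : (Scheme.Modules.restrictFunctor j).map k = 0 := by
  have hn := (Scheme.Modules.restrictFunctorIsoPullback j).hom.naturality k
  rw [h, comp_zero] at hn
  exact (cancel_mono ((Scheme.Modules.restrictFunctorIsoPullback j).hom.app N)).1 (hn.trans zero_comp.symm)

/-- Families of quotients agree once they agree on an open cover of the base. -/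
theorem ext_of_cover [∀ a, IsOpenImmersion (g a).left] (hcov : ∀ t : T.left, ∃ a y, (g a).left y = t)
    {K K' : Subobject (FGA.ET f E T)} (h : ∀ a, FGA.quotPull f E (g a) K = FGA.quotPull f E (g a) K') : K = K' := by
  have key : ∀ {K K' : Subobject (FGA.ET f E T)}, (∀ a, FGA.quotPull f E (g a) K = FGA.quotPull f E (g a) K') →
      K ≤ K' := by
    intro K K' h
    rw [← kernelSubobject_cokernel_π K']
    refine le_kernelSubobject _ _ ?_
    refine Groth.L21.Mod.hom_ext_of_restrict (fun a => PicF.XTmap f (g a)) (exists_XTmap_eq f g hcov) fun a => ?_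
    rw [Functor.map_zero]
    refine pullback_map_eq_zero ?_
    have h1 : (FGA.quotPull f E (g a) K).arrow ≫ pullQ f E (g a) (cokernel.π K'.arrow) = 0 := by
      rw [h a, show FGA.quotPull f E (g a) K' = kernelSubobject (pullQ f E (g a) (cokernel.π K'.arrow)) by
        rw [← quotPull_kernel, kernelSubobject_cokernel_π]]
      exact kernelSubobject_arrow_comp _
    have h2 := congrArg (factorThruImageSubobject
      ((Scheme.Modules.pullback (PicF.XTmap f (g a))).map K.arrow ≫ (FGA.ETiso f E (g a)).hom) ≫ ·) h1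
    simp only [FGA.quotPull, imageSubobject_arrow_comp_assoc, comp_zero, pullQ, Category.assoc,
      Iso.hom_inv_id_assoc, ← Functor.map_comp] at h2
    exact h2
  exact le_antisymm (key h) (key fun a => (h a).symm)

theorem isZero_restrict_push {Y U V : Scheme.{u}} (j : U ⟶ Y) [IsOpenImmersion j] (j' : V ⟶ Y) (G : V.Modules)
    (hd : ∀ y x, j' y ≠ j x) : IsZero ((Scheme.Modules.restrictFunctor j).obj ((Scheme.Modules.pushforward j').obj G)) := by
  rw [IsZero.iff_id_eq_zero]
  ext W s
  have hbot : j' ⁻¹ᵁ (j ''ᵁ W) = ⊥ := by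
    refine Opens.ext (Set.eq_empty_of_forall_notMem fun y hy => ?_)
    obtain ⟨x, -, hx⟩ := hy
    exact hd y x hx.symm
  haveI : Subsingleton Γ(G, j' ⁻¹ᵁ (j ''ᵁ W)) := ⟨fun a b => by
    refine TopCat.Sheaf.eq_of_locally_eq' (⟨G.presheaf, G.isSheaf⟩ : TopCat.Sheaf Ab _)
      (fun e : PEmpty.{u + 1} => e.elim) _ (fun e => e.elim) ?_ a b (fun e => e.elim)
    rw [hbot]
    exact bot_le⟩
  exact @Subsingleton.elim Γ(G, j' ⁻¹ᵁ (j ''ᵁ W)) _ _ _

theorem isIso_restrict_π {Y U : Scheme.{u}} (j : U ⟶ Y) [IsOpenImmersion j] (M : α → Y.Modules) (a : α)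
    (hz : ∀ b, b ≠ a → IsZero ((Scheme.Modules.restrictFunctor j).obj (M b))) :
    IsIso ((Scheme.Modules.restrictFunctor j).map (Pi.π M a)) := by
  classical
  let s : M a ⟶ ∏ᶜ M := Pi.lift fun b => if h : b = a then eqToHom (by rw [h]) else 0
  have hs : s ≫ Pi.π M a = 𝟙 _ := by simp [s]
  refine ⟨(Scheme.Modules.restrictFunctor j).map s, ?_, by rw [← Functor.map_comp, hs, CategoryTheory.Functor.map_id]⟩
  let d : ∏ᶜ M ⟶ ∏ᶜ M := Pi.π M a ≫ s - 𝟙 _
  have hd : ∀ b, (Scheme.Modules.restrictFunctor j).map (d ≫ Pi.π M b) = 0 := fun b => by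
    by_cases hb : b = a
    · subst hb
      rw [show d ≫ Pi.π M b = 0 by simp [d, hs], Functor.map_zero]
    · exact (hz b hb).eq_of_tgt _ _
  have key : (Scheme.Modules.restrictFunctor j).map d = 0 := by
    ext W z
    let V : Y.Opensᵒᵖ := op (j ''ᵁ W)
    let P := Scheme.Modules.toPresheaf Y ⋙ (evaluation Y.Opensᵒᵖ Ab.{u}).obj V
    haveI h1 : PreservesLimitsOfShape (Discrete α) (Scheme.Modules.toPresheaf Y) := inferInstance
    haveI h2 : PreservesLimitsOfShape (Discrete α) ((evaluation Y.Opensᵒᵖ Ab.{u}).obj V) := evaluation_preservesLimitsOfShape V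
    haveI : PreservesLimitsOfShape (Discrete α) P := @comp_preservesLimitsOfShape _ _ _ _ _ _ _ _ (Scheme.Modules.toPresheaf Y) ((evaluation Y.Opensᵒᵖ Ab.{u}).obj V) h1 h2
    refine Concrete.limit_ext (Discrete.functor fun b => P.obj (M b)) ((PreservesProduct.iso P M).hom (d.app (j ''ᵁ W) z))
      ((PreservesProduct.iso P M).hom 0) ?_ |> fun h =>
        (ConcreteCategory.bijective_of_isIso (PreservesProduct.iso P M).hom).1 h
    rintro ⟨b⟩
    have e1 : (PreservesProduct.iso P M).hom ≫ Pi.π (fun b => P.obj (M b)) b = P.map (Pi.π M b) := by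
      rw [PreservesProduct.iso_hom, piComparison_comp_π]
    refine (congr($e1 (d.app (j ''ᵁ W) z))).trans (Eq.trans ?_ (congr($e1 0)).symm)
    rw [map_zero]
    exact congr($(hd b).app W z)
  rw [← Functor.map_comp, ← sub_eq_zero, ← CategoryTheory.Functor.map_id, ← Functor.map_sub]
  exact key

variable [∀ a, IsOpenImmersion (g a).left]

/-- Families given on disjoint open pieces glue. -/
theorem exists_glue (hdisj : ∀ a b y x, a ≠ b → (g b).left y ≠ (g a).left x)
    (K : ∀ a, Subobject (FGA.ET f E (Ta a))) :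
    ∃ K₀ : Subobject (FGA.ET f E T), ∀ a, FGA.quotPull f E (g a) K₀ = K a := by
  let j := fun a => PicF.XTmap f (g a)
  let adj := fun a => Scheme.Modules.pullbackPushforwardAdjunction (j a)
  let G := fun a => cokernel (K a).arrow
  let M : α → (PicF.XT f T).Modules := fun a => (Scheme.Modules.pushforward (j a)).obj (G a)
  let η : FGA.ET f E T ⟶ ∏ᶜ M :=
    Pi.lift fun a => (adj a).homEquiv _ _ ((FGA.ETiso f E (g a)).hom ≫ cokernel.π (K a).arrow)
  let q := factorThruImage η
  refine ⟨kernelSubobject q, fun a => ?_⟩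
  rw [quotPull_kernel]
  haveI := Groth.L17.CxTools.preservesFiniteLimits_pullback (f := j a)
  have hz : ∀ b, b ≠ a → IsZero ((Scheme.Modules.restrictFunctor (j a)).obj (M b)) := fun b hb => by
    refine isZero_restrict_push (j a) (j b) (G b) fun y x h => hdisj a b (PicF.XTproj f (Ta b) y)
      (PicF.XTproj f (Ta a) x) (Ne.symm hb) ?_
    rw [← Scheme.Hom.comp_apply, ← Scheme.Hom.comp_apply, ← (Groth.L14.Quot.isPullback_XTmap f (g b)).w,
      ← (Groth.L14.Quot.isPullback_XTmap f (g a)).w, Scheme.Hom.comp_apply, Scheme.Hom.comp_apply]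
    exact congrArg _ h
  haveI : IsIso ((Scheme.Modules.pullback (j a)).map (Pi.π M a)) := by
    haveI := isIso_restrict_π (j a) M a hz
    exact (NatIso.isIso_map_iff (Scheme.Modules.restrictFunctorIsoPullback (j a)) (Pi.π M a)).1 inferInstance
  let m : (Scheme.Modules.pullback (j a)).obj (image η) ⟶ G a :=
    (Scheme.Modules.pullback (j a)).map (image.ι η) ≫ (Scheme.Modules.pullback (j a)).map (Pi.π M a) ≫
      (adj a).counit.app (G a)
  haveI : Mono m := inferInstance
  have hm : pullQ f E (g a) q ≫ m = cokernel.π (K a).arrow := by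
    have h1 : (Scheme.Modules.pullback (j a)).map q ≫ (Scheme.Modules.pullback (j a)).map (image.ι η) ≫
        (Scheme.Modules.pullback (j a)).map (Pi.π M a) =
        (Scheme.Modules.pullback (j a)).map ((adj a).homEquiv _ _ ((FGA.ETiso f E (g a)).hom ≫ cokernel.π (K a).arrow)) := by
      rw [← Functor.map_comp, ← Functor.map_comp]
      exact congrArg _ ((image.fac_assoc η (Pi.π M a)).trans (Pi.lift_π _ a))
    have h2 : (Scheme.Modules.pullback (j a)).map ((adj a).homEquiv _ _ ((FGA.ETiso f E (g a)).hom ≫ cokernel.π (K a).arrow)) ≫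
        (adj a).counit.app (G a) = (FGA.ETiso f E (g a)).hom ≫ cokernel.π (K a).arrow :=
      ((adj a).homEquiv_counit ..).symm.trans (Equiv.symm_apply_apply _ _)
    simp only [pullQ, m, Category.assoc]
    rw [reassoc_of% h1, h2, Iso.inv_hom_id_assoc]
  rw [← kernelSubobject_comp_mono (pullQ f E (g a) q) m]
  exact (kernelSubobject_congr' hm).trans (kernelSubobject_cokernel_π (K a))
where
  kernelSubobject_congr' {Y : Scheme.{u}} {A B : Y.Modules} {a b : A ⟶ B} (h : a = b) :
      kernelSubobject a = kernelSubobject b := by subst h; rfl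

theorem mem_of_cover (hcov : ∀ t : T.left, ∃ a y, (g a).left y = t) (K₀ : Subobject (FGA.ET f E T))
    (h : ∀ a, Coh.IsCoh (cokernel (FGA.quotPull f E (g a) K₀).arrow) ∧
      FlatMod.IsFlatOver (PicF.XTproj f (Ta a)) (cokernel (FGA.quotPull f E (g a) K₀).arrow)) :
    Coh.IsCoh (cokernel K₀.arrow) ∧ FlatMod.IsFlatOver (PicF.XTproj f T) (cokernel K₀.arrow) := by
  have hres : ∀ a, Coh.IsCoh ((cokernel K₀.arrow).restrict (PicF.XTmap f (g a))) := fun a => by
    obtain ⟨e⟩ := Groth.L14.Quot.nonempty_cokernel_iso f E (g a) K₀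
    exact Groth.L14.Quot.isCoh_of_iso
      ((Scheme.Modules.restrictFunctorIsoPullback _).app _ ≪≫ e).symm (h a).1
  have hcoh : Coh.IsCoh (cokernel K₀.arrow) := by
    refine Groth.L29.DC.RHomC.isCoh_of_cover fun x => ?_
    obtain ⟨a, y, hy⟩ := exists_XTmap_eq f g hcov x
    let j := PicF.XTmap f (g a)
    refine ⟨j.opensRange, ⟨y, hy⟩, ?_⟩
    refine Groth.L14.Quot.isCoh_of_iso ?_ (Groth.L29.DC.RHomC.isCoh_restrict j.isoOpensRange.inv (hres a))
    exact ((Scheme.Modules.restrictFunctorComp j.isoOpensRange.inv j).symm ≪≫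
      Scheme.Modules.restrictFunctorCongr (j.isoOpensRange_inv_comp)).app _
  refine ⟨hcoh, fun x => ?_⟩
  obtain ⟨a, y, rfl⟩ := exists_XTmap_eq f g hcov x
  haveI : Coh.IsQCoh (cokernel K₀.arrow) := hcoh.1
  obtain ⟨e⟩ := Groth.L14.Quot.nonempty_cokernel_iso f E (g a) K₀
  exact (Groth.L02.FibFlat.isFlatOverAt_openImmersion_iff (Groth.L14.Quot.isPullback_XTmap f (g a)).w
    (cokernel K₀.arrow) y).1 (Groth.L29.DC.RelBC.isFlatOver_of_iso _ e.symm (h a).2 y)

end Groth.L02.Quot.Glue
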