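import Groth.Agent.L02.Quot.FactorQuotient
import Groth.Agent.L02.Quot.HilbQuot
import Groth.Agent.L02.Quot.BoundedEpi

/-!
# The closed condition that one family of quotients dominates another
-/

set_option autoImplicit false
set_option linter.style.haveILetI false
set_option linter.unusedSectionVars false
set_option backward.isDefEq.respectTransparency false
set_option backward.isDefEq.respectTransparency.types false

universe u

open CategoryTheory CategoryTheory.Limits AlgebraicGeometry TopologicalSpace Opposite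

noncomputable section

namespace Groth.L02.Quot.Nested

open Groth.L00.Tensor (tensorIso)
open Groth.L18.Frame (rs)
open Groth.L16.EpiFrames (app_rs)

/-- Kernels are ordered as their sections over small affine opens. -/
theorem kernel_le_of_affine {Y : Scheme.{u}} {E F G : Y.Modules} (q : E ⟶ F) (q' : E ⟶ G)
    (h : ∀ (x : Y) (U : Y.Opens), x ∈ U → ∃ W : Y.affineOpens, x ∈ W.1 ∧ W.1 ≤ U ∧
      ∀ z : Γ(E, W.1), q.app W.1 z = 0 → q'.app W.1 z = 0) :
    kernelSubobject q ≤ kernelSubobject q' := by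
  refine le_kernelSubobject _ _ (Groth.L21.Mod.hom_ext_stalk fun x => ?_)
  suffices h0 : (Groth.L00.Stk.F Y x).map ((kernelSubobject q).arrow ≫ q') = 0 by
    rw [Functor.map_zero]
    ext v
    exact congr($(h0) v)
  ext v
  obtain ⟨U, hU, s, rfl⟩ := TopCat.Presheaf.exists_germ_eq
    (F := (kernelSubobject q : Y.Modules).presheaf) (x := x) v
  obtain ⟨W, hxW, hWU, hW⟩ := h x U hU
  have h1 : q.app W.1 ((kernelSubobject q).arrow.app W.1 (rs _ hWU s)) = 0 := by
    rw [← ConcreteCategory.comp_apply, ← Scheme.Modules.Hom.comp_app, kernelSubobject_arrow_comp]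
    rfl
  show stkₗ ((kernelSubobject q).arrow ≫ q') x _ = 0
  rw [stkₗ_germ, ← TopCat.Presheaf.germ_res_apply G.presheaf (homOfLE hWU) x hxW]
  refine (congrArg (G.presheaf.germ W.1 x hxW) ?_).trans (map_zero _)
  show rs G hWU (((kernelSubobject q).arrow ≫ q').app U s) = 0
  rw [← app_rs]
  exact hW _ h1

variable {X S : Scheme.{u}} (f : X ⟶ S) {T : Over S}

theorem toQuot_le_toQuot_iff (I J : (PicF.XT f T).IdealSheafData) :
    HilbQ.toQuot f I ≤ HilbQ.toQuot f J ↔ I ≤ J := by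
  let p := pullback.fst f T.hom
  constructor
  · intro h W r hr
    haveI := HilbQ.epi_qI p I
    have h0 : (HilbQ.toQuot f I).arrow ≫ HilbQ.qI p J = 0 := by
      rw [← Subobject.ofLE_arrow h, Category.assoc, show (HilbQ.toQuot f J).arrow ≫ HilbQ.qI p J = 0 from
        kernelSubobject_arrow_comp _, comp_zero]
    have h1 : kernel.ι (HilbQ.qI p I) ≫ HilbQ.qI p J = 0 := by
      rw [← kernelSubobject_arrow', Category.assoc]; exact ((congrArg (_ ≫ ·) h0)).trans comp_zero
    let m := Abelian.epiDesc (HilbQ.qI p I) (HilbQ.qI p J) h1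
    have hm : HilbQ.qI p I ≫ m = HilbQ.qI p J := Abelian.comp_epiDesc _ _ _
    rw [← HilbQ.qI_eq_zero_iff p J W, ← hm]
    show m.app W.1 ((HilbQ.qI p I).app W.1 (r • HilbQ.one' p W.1)) = 0
    rw [(HilbQ.qI_eq_zero_iff p I W r).2 hr, map_zero]
  · intro h
    refine kernel_le_of_affine _ _ fun x U hU => ?_
    obtain ⟨_, ⟨W, hW, rfl⟩, hxW, hWU⟩ :=
      (PicF.XT f T).isBasis_affineOpens.exists_subset_of_mem_open (show x ∈ U from hU) U.2
    refine ⟨⟨W, hW⟩, hxW, hWU, fun z hz => ?_⟩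
    obtain ⟨r, rfl⟩ := HilbQ.exists_smul_one p W z
    exact (HilbQ.qI_eq_zero_iff p J ⟨W, hW⟩ r).2 (h ⟨W, hW⟩ ((HilbQ.qI_eq_zero_iff p I ⟨W, hW⟩ r).1 hz))

variable {n : ℕ} (i : X ⟶ CohB1.ProjSpaceOver n S) [IsClosedImmersion i]
  {f} (hf : i ≫ CohB1.ProjSpaceOver.toBase n S = f)

include hf in
/-- The vanishing locus of a morphism between coherent modules on a projective family, the target flat. -/
theorem exists_vanish_coh {T : Scheme.{u}} [IsLocallyNoetherian T] (τ : T ⟶ S) {P Q : (pullback f τ).Modules}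
    (hP : Coh.IsCoh P) (hQ : Coh.IsCoh Q) (hQfl : FlatMod.IsFlatOver (pullback.snd f τ) Q) (h : P ⟶ Q) :
    ∃ (W : Scheme.{u}) (c : W ⟶ T), IsClosedImmersion c ∧ ∀ {U Y' : Scheme.{u}} (g : U ⟶ T) (π' : Y' ⟶ U)
      (g' : Y' ⟶ pullback f τ), IsPullback g' π' (pullback.snd f τ) g →
        ((Scheme.Modules.pullback g').map h = 0 ↔ ∃ j, j ≫ c = g) := by
  refine Vanish.exists_vanish_of_cover (pullback.snd f τ) h fun t => ?_
  obtain ⟨_, ⟨W', hWa, rfl⟩, htW, -⟩ :=
    T.isBasis_affineOpens.exists_subset_of_mem_open (Set.mem_univ t) isOpen_univ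
  let W : T.Opens := W'
  haveI : IsAffine W.toScheme := hWa
  haveI : AlgebraicGeometry.IsNoetherian W.toScheme := {}
  let p₁ := pullback.fst (pullback.snd f τ) W.ι
  let π₁ := pullback.snd (pullback.snd f τ) W.ι
  obtain ⟨lT, hlT, hlTπ, heT⟩ := exists_proj_baseChange' i hf τ
  haveI := hlT
  obtain ⟨l, hl, hlπ, he⟩ := exists_proj_baseChange' lT hlTπ W.ι
  haveI := hl
  haveI : IsProper f := hf ▸ isProper_comp_toBase i
  haveI : IsProper π₁ := inferInstance
  haveI : LocallyOfFinitePresentation π₁ := inferInstance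
  obtain ⟨t₀, ht₀⟩ := exists_presentation_of_le l ((Scheme.Modules.pullback p₁).obj P)
    (Groth.L19.LimMod.isCoh_pullback' _ hP)
  obtain ⟨n₁, hn⟩ := Vanish.exists_good π₁ (Groth.L19.LimMod.isCoh_pullback' p₁ hQ)
    (Groth.L29.DC.RelBC.isFlatOver_pullback (IsPullback.of_hasPullback (pullback.snd f τ) W.ι) hQfl)
    (by have hh := isRelAmple_OX_one l; rwa [hlπ] at hh) (isInvertible_OX l 1)
  let ν := max n₁ t₀
  obtain ⟨p, q, hq⟩ := ht₀ ν (le_max_right _ _)
  haveI := hq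
  obtain ⟨hfp, hfl, hvan⟩ := hn ν (le_max_left _ _)
  obtain ⟨eL⟩ := nonempty_OX_cancel l ν
  obtain ⟨Z, c, hc, hZ⟩ := Vanish.exists_vanish_twisted π₁
    (Groth.L18.Ample.isInvertible_tensorPow (isInvertible_OX l 1) ν) eL hfp hfl hvan q
    ((Scheme.Modules.pullback p₁).map h)
  exact ⟨W, htW, Z, c, hc, hZ⟩

include hf in
/-- The locus where one family of quotients is a quotient of another. -/
theorem exists_le_locus (E : X.Modules) (hE : Coh.IsCoh E) {T : Over S} [IsLocallyNoetherian T.left]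
    (K₁ K₂ : FGA.QuotSet f E T) :
    ∃ (T' : Over S) (c : T' ⟶ T), IsClosedImmersion c.left ∧ ∀ (U : Over S) (g : U ⟶ T),
      FGA.quotPull f E g K₂.1 ≤ FGA.quotPull f E g K₁.1 ↔ ∃ h : U ⟶ T', h ≫ c = g := by
  haveI : IsProper f := hf ▸ isProper_comp_toBase i
  haveI := isLocallyNoetherian_XT (f := f) T
  let q₁ := cokernel.π K₁.1.arrow
  let q₂ := cokernel.π K₂.1.arrow
  have hP : Coh.IsCoh (K₂.1 : (PicF.XT f T).Modules) :=
    Groth.L14.Quot.isCoh_of_iso
      ((kernelSubobjectIso q₂).symm ≪≫ Subobject.isoOfEq _ _ (kernelSubobject_cokernel_π K₂.1))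
      (Groth.L16.CohKernel.isCoh_kernel_cokernel (Groth.L19.LimMod.isCoh_pullback' _ hE) K₂.2.1 q₂).1
  obtain ⟨W, c, hc, hW⟩ := exists_vanish_coh i hf T.hom hP K₁.2.1 K₁.2.2 (K₂.1.arrow ≫ q₁)
  refine ⟨Over.mk (c ≫ T.hom), Over.homMk c rfl, hc, fun U g => ?_⟩
  let F := Scheme.Modules.pullback (PicF.XTmap f g)
  let b := F.map K₂.1.arrow ≫ (FGA.ETiso f E g).hom
  have hq : FGA.quotPull f E g K₁.1 = kernelSubobject (pullQ f E g q₁) := by
    rw [← quotPull_kernel, kernelSubobject_cokernel_π]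
  have key : b ≫ pullQ f E g q₁ = F.map (K₂.1.arrow ≫ q₁) := by
    simp [b, pullQ, F, Functor.map_comp]
  have h1 : FGA.quotPull f E g K₂.1 ≤ FGA.quotPull f E g K₁.1 ↔ F.map (K₂.1.arrow ≫ q₁) = 0 := by
    rw [hq, ← key]
    constructor
    · intro h
      rw [← imageSubobject_arrow_comp b, Category.assoc,
        ← Subobject.ofLE_arrow (show imageSubobject b ≤ _ from h), Category.assoc,
        kernelSubobject_arrow_comp, comp_zero, comp_zero]
    · intro h
      exact imageSubobject_le _ (factorThruKernelSubobject _ _ h) (factorThruKernelSubobject_comp_arrow _ _ h)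
  refine h1.trans ((hW g.left _ _ (Groth.L02.Hilb.isPullback_XTmap f g)).trans ⟨?_, ?_⟩)
  · rintro ⟨j, hj⟩
    refine ⟨Over.homMk j ?_, Over.OverMorphism.ext hj⟩
    show j ≫ c ≫ T.hom = U.hom
    rw [← Category.assoc, hj]
    exact Over.w g
  · rintro ⟨w, hw⟩
    exact ⟨w.left, congr($(hw).left)⟩

/-- The locus where one family of closed subschemes is contained in another. -/
theorem exists_hilb_le_locus {S : Scheme.{u}} {n : ℕ} {X : Scheme.{u}} (i : X ⟶ CohB1.ProjSpaceOver n S) [IsClosedImmersion i]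
    {f : X ⟶ S} (hf : i ≫ CohB1.ProjSpaceOver.toBase n S = f) (hX : Coh.IsCoh (Coh.structureModule X))
    {T : Over S} [IsLocallyNoetherian T.left] (Y₁ Y₂ : FGA.HilbSet f T) :
    ∃ (T' : Over S) (c : T' ⟶ T), IsClosedImmersion c.left ∧ ∀ (U : Over S) (g : U ⟶ T),
      FGA.hilbPull f g Y₂.1 ≤ FGA.hilbPull f g Y₁.1 ↔ ∃ h : U ⟶ T', h ≫ c = g := by
  haveI : IsProper f := hf ▸ isProper_comp_toBase i
  obtain ⟨T', c, hc, h⟩ := exists_le_locus i hf (Coh.structureModule X) hX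
    ⟨HilbQ.toQuot f Y₁.1, (HilbQ.toQuot_mem_iff f Y₁.1).2 Y₁.2⟩
    ⟨HilbQ.toQuot f Y₂.1, (HilbQ.toQuot_mem_iff f Y₂.1).2 Y₂.2⟩
  refine ⟨T', c, hc, fun U g => ?_⟩
  rw [← h U g, HilbQ.quotPull_toQuot, HilbQ.quotPull_toQuot, toQuot_le_toQuot_iff]

end Groth.L02.Quot.Nested
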