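import Groth.Agent.L02.Quot.BoundedEpi

/-!
# Base change of a closed subscheme of projective space
-/

set_option autoImplicit false
set_option linter.style.haveILetI false
set_option linter.unusedSectionVars false
set_option backward.isDefEq.respectTransparency false
set_option backward.isDefEq.respectTransparency.types false

universe u

open CategoryTheory CategoryTheory.Limits AlgebraicGeometry TopologicalSpace

noncomputable section

namespace Groth.L02.Quot

open Groth.L16
open Groth.L00.Tensor (tensorIso)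

variable {n : ℕ} {S X : Scheme.{u}} (i : X ⟶ CohB1.ProjSpaceOver n S) [IsClosedImmersion i]

/-- The base change of a closed subscheme of projective space is one. -/
theorem exists_proj_baseChange {W : Scheme.{u}} (h : W ⟶ S) :
    ∃ (l : pullback (i ≫ CohB1.ProjSpaceOver.toBase n S) h ⟶ CohB1.ProjSpaceOver n W),
      IsClosedImmersion l ∧
        l ≫ CohB1.ProjSpaceOver.toBase n W = pullback.snd (i ≫ CohB1.ProjSpaceOver.toBase n S) h ∧
        ∀ m : ℤ, Nonempty (OX l m ≅
          (Scheme.Modules.pullback (pullback.fst (i ≫ CohB1.ProjSpaceOver.toBase n S) h)).obj (OX i m)) := by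
  let f := i ≫ CohB1.ProjSpaceOver.toBase n S
  let hsq := ProjSpace.isPullback_overMap n h
  let l : pullback f h ⟶ CohB1.ProjSpaceOver n W :=
    hsq.lift (pullback.fst f h ≫ i) (pullback.snd f h) (by rw [Category.assoc]; exact pullback.condition)
  have hl : IsPullback (pullback.fst f h) l i (ProjSpace.overMap n h) := by
    refine IsPullback.of_bot ?_ (hsq.lift_fst _ _ _).symm hsq
    rw [hsq.lift_snd]
    exact IsPullback.of_hasPullback f h
  refine ⟨l, MorphismProperty.of_isPullback (P := @IsClosedImmersion) hl inferInstance, hsq.lift_snd _ _ _, fun m => ?_⟩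
  have h1 : ProjSpace.overMap n h ≫
      pullback.fst (CohB1.ProjSpace.toSpec n (ULift.{u} ℤ)) (specULiftZIsTerminal.from S) =
        pullback.fst (CohB1.ProjSpace.toSpec n (ULift.{u} ℤ)) (specULiftZIsTerminal.from W) :=
    (pullback.lift_fst _ _ _).trans (Category.comp_id _)
  have he : l ≫ pullback.fst (CohB1.ProjSpace.toSpec n (ULift.{u} ℤ)) (specULiftZIsTerminal.from W) =
      pullback.fst f h ≫ i ≫ pullback.fst (CohB1.ProjSpace.toSpec n (ULift.{u} ℤ)) (specULiftZIsTerminal.from S) := by
    rw [← h1]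
    erw [hsq.lift_fst_assoc]
    rw [Category.assoc]
  exact ⟨(Scheme.Modules.pullbackComp _ _).app _ ≪≫ (Scheme.Modules.pullbackCongr he).app _ ≪≫
    ((Scheme.Modules.pullbackComp _ _).app _).symm ≪≫
    (Scheme.Modules.pullback (pullback.fst f h)).mapIso ((Scheme.Modules.pullbackComp _ _).app _).symm⟩

/-- Twists cancel. -/
theorem nonempty_OX_cancel (t : ℕ) :
    Nonempty (CohB1.tensorMod (OX i (-(t : ℤ))) (CohB1.tensorPow (OX i 1) t) ≅ Coh.structureModule X) := by
  obtain ⟨et⟩ := Groth.L17.Strat.nonempty_tensorPow_twistOver n S t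
  obtain ⟨ea⟩ := Groth.L17.Strat.nonempty_twistOver_add n S (-(t : ℤ)) t
  obtain ⟨e0⟩ := nonempty_OX_zero i
  exact ⟨tensorIso (Iso.refl _) ((Groth.L18.Ample.pullPow i _ t).symm) ≪≫
      Groth.L29.DC.PullTensor.pullTensor i _ _ ≪≫ (Scheme.Modules.pullback i).mapIso (ea ≪≫ eqToIso (by simp)) ≪≫ e0⟩

end Groth.L02.Quot

namespace Groth.L02.Quot

variable {n : ℕ} {S X : Scheme.{u}} (i : X ⟶ CohB1.ProjSpaceOver n S) [IsClosedImmersion i]

/-- The base change of a closed subscheme of projective space is one, structure morphism given. -/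
theorem exists_proj_baseChange' {f : X ⟶ S} (hf : i ≫ CohB1.ProjSpaceOver.toBase n S = f) {W : Scheme.{u}} (h : W ⟶ S) :
    ∃ (l : pullback f h ⟶ CohB1.ProjSpaceOver n W),
      IsClosedImmersion l ∧ l ≫ CohB1.ProjSpaceOver.toBase n W = pullback.snd f h ∧
        ∀ m : ℤ, Nonempty (OX l m ≅ (Scheme.Modules.pullback (pullback.fst f h)).obj (OX i m)) := by
  subst hf
  exact exists_proj_baseChange i h

end Groth.L02.Quot
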