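import Mathlib.LinearAlgebra.Matrix.Determinant.Basic
import Mathlib.LinearAlgebra.Matrix.Permutation
import Mathlib.LinearAlgebra.Matrix.Adjugate
import Mathlib.LinearAlgebra.Matrix.InvariantBasisNumber
import Mathlib.Data.Finset.Sort
import Mathlib.Data.Fintype.Powerset
import Mathlib.LinearAlgebra.Basis.VectorSpace
import Mathlib.LinearAlgebra.StdBasis
import Mathlib.RingTheory.OrzechProperty
import Mathlib.RingTheory.Noetherian.Orzech
import Mathlib.LinearAlgebra.FiniteDimensional.Basic

/-!
# Plücker coordinates, indexed by subsets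

For a tuple `z` indexed by the `ρ`-subsets of `Fin N`, `ext z` is its alternating extension to all
`ρ`-tuples and `vv z J l` is the vector whose `c`-th coordinate is `ext z (J[l ↦ c])`.  These vectors are
linear in `z`; for the coordinates of a free submodule they generate it, and they determine the coordinates.
-/

set_option autoImplicit false
set_option linter.style.haveILetI false
set_option linter.unusedSectionVars false
set_option linter.dupNamespace false

universe u

open Matrix

noncomputable section

namespace Groth.L02.Quot.Pl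

variable {N ρ : ℕ}

/-- The subsets indexing the coordinates. -/
abbrev Sub (N ρ : ℕ) : Type := {s : Finset (Fin N) // s.card = ρ}

/-- The increasing enumeration of a subset. -/
def enum (s : Sub N ρ) : Fin ρ → Fin N := s.1.orderEmbOfFin s.2

theorem enum_injective (s : Sub N ρ) : Function.Injective (enum s) := (s.1.orderEmbOfFin s.2).injective

theorem range_enum (s : Sub N ρ) : Set.range (enum s) = (s.1 : Set (Fin N)) := Finset.range_orderEmbOfFin _ _

theorem mem_iff_enum (s : Sub N ρ) {c : Fin N} : c ∈ s.1 ↔ ∃ a, enum s a = c := by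
  rw [← Finset.mem_coe, ← range_enum]; rfl

variable {A : Type u} [CommRing A] {B : Type u} [CommRing B]

/-- The sign with which the tuple `J` is the subset `s`. -/
def coef (J : Fin ρ → Fin N) (s : Sub N ρ) : ℤ :=
  (Matrix.of fun a b => if J a = enum s b then (1 : ℤ) else 0).det

/-- The alternating extension. -/
def ext (z : Sub N ρ → A) (J : Fin ρ → Fin N) : A := ∑ s, (coef J s : A) * z s

/-- The vectors attached to the coordinates. -/
def vv (z : Sub N ρ → A) (J : Fin ρ → Fin N) (l : Fin ρ) : Fin N → A :=
  fun c => ext z (Function.update J l c)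

/-- The Plücker coordinates of rows. -/
def Pl (v : Fin ρ → Fin N → A) (s : Sub N ρ) : A := (Matrix.of fun a b => v a (enum s b)).det

theorem map_ext (φ : A →+* B) (z : Sub N ρ → A) (J : Fin ρ → Fin N) :
    φ (ext z J) = ext (fun s => φ (z s)) J := by
  simp [ext, map_sum]

theorem map_vv (φ : A →+* B) (z : Sub N ρ → A) (J : Fin ρ → Fin N) (l : Fin ρ) (c : Fin N) :
    φ (vv z J l c) = vv (fun s => φ (z s)) J l c := map_ext φ z _

theorem ext_smul (a : A) (z : Sub N ρ → A) (J : Fin ρ → Fin N) : ext (a • z) J = a * ext z J := by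
  simp [ext, Finset.mul_sum, mul_left_comm]

theorem vv_smul (a : A) (z : Sub N ρ → A) (J : Fin ρ → Fin N) (l : Fin ρ) :
    vv (a • z) J l = a • vv z J l := funext fun _ => ext_smul a z _

theorem coef_eq_zero_of_not_injective {J : Fin ρ → Fin N} (hJ : ¬ Function.Injective J) (s : Sub N ρ) :
    coef J s = 0 := by
  obtain ⟨a, b, hab, hne⟩ := Function.not_injective_iff.1 hJ
  exact det_zero_of_row_eq hne (funext fun c => by simp [hab])

theorem ext_eq_zero {J : Fin ρ → Fin N} (hJ : ¬ Function.Injective J) (z : Sub N ρ → A) : ext z J = 0 :=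
  Finset.sum_eq_zero fun s _ => by rw [coef_eq_zero_of_not_injective hJ, Int.cast_zero, zero_mul]

/-- An injective tuple is a permuted enumeration. -/
theorem exists_perm {J : Fin ρ → Fin N} (hJ : Function.Injective J) :
    ∃ (s : Sub N ρ) (σ : Equiv.Perm (Fin ρ)), J = enum s ∘ σ := by
  classical
  let s : Sub N ρ := ⟨Finset.univ.image J, by rw [Finset.card_image_of_injective _ hJ, Finset.card_fin]⟩
  have : ∀ a, ∃ b, enum s b = J a := fun a => (mem_iff_enum s).1 (Finset.mem_image_of_mem J (Finset.mem_univ a))
  choose σ hσ using this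
  have hσi : Function.Injective σ := fun a b h => hJ (by rw [← hσ, h, hσ])
  exact ⟨s, Equiv.ofBijective σ (Finite.injective_iff_bijective.1 hσi), funext fun a => (hσ a).symm⟩

theorem coef_perm (s t : Sub N ρ) (σ : Equiv.Perm (Fin ρ)) :
    coef (enum s ∘ σ) t = if t = s then (Equiv.Perm.sign σ : ℤ) else 0 := by
  classical
  split_ifs with h
  · subst h
    have : (Matrix.of fun a b => if (enum t ∘ σ) a = enum t b then (1 : ℤ) else 0) =
        (1 : Matrix (Fin ρ) (Fin ρ) ℤ).submatrix σ id := by
      ext a b
      simp [Matrix.one_apply, (enum_injective t).eq_iff]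
    rw [coef, this, det_permute, det_one, mul_one]
    simp
  · obtain ⟨c, hc, hc'⟩ : ∃ c ∈ s.1, c ∉ t.1 := Finset.not_subset.1 fun hsub =>
      h (Subtype.ext (Finset.eq_of_subset_of_card_le hsub (by rw [s.2, t.2])).symm)
    obtain ⟨a, ha⟩ := (mem_iff_enum s).1 hc
    refine det_eq_zero_of_row_eq_zero (σ.symm a) fun b => ?_
    simp only [Function.comp_apply, Matrix.of_apply, Equiv.apply_symm_apply, ha]
    rw [if_neg]
    exact fun e => hc' ((mem_iff_enum t).2 ⟨b, e.symm⟩)

theorem ext_perm (z : Sub N ρ → A) (s : Sub N ρ) (σ : Equiv.Perm (Fin ρ)) :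
    ext z (enum s ∘ σ) = ((Equiv.Perm.sign σ : ℤ) : A) * z s := by
  classical
  rw [ext, Finset.sum_eq_single s (fun t _ ht => by rw [coef_perm, if_neg ht, Int.cast_zero, zero_mul])
    (fun h => absurd (Finset.mem_univ s) h), coef_perm, if_pos rfl]

theorem ext_enum (z : Sub N ρ → A) (s : Sub N ρ) : ext z (enum s) = z s := by
  have := ext_perm z s 1
  simpa using this

theorem ext_Pl (v : Fin ρ → Fin N → A) (J : Fin ρ → Fin N) :
    ext (Pl v) J = (Matrix.of fun a b => v a (J b)).det := by
  classical
  by_cases hJ : Function.Injective J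
  · obtain ⟨s, σ, rfl⟩ := exists_perm hJ
    rw [ext_perm, Pl, ← det_permute' σ]
    rfl
  · rw [ext_eq_zero hJ]
    obtain ⟨a, b, hab, hne⟩ := Function.not_injective_iff.1 hJ
    exact (det_zero_of_column_eq hne fun c => by simp [hab]).symm

/-- Cramer's rule. -/
theorem vv_Pl_mem_span (v : Fin ρ → Fin N → A) (J : Fin ρ → Fin N) (l : Fin ρ) :
    vv (Pl v) J l ∈ Submodule.span A (Set.range v) := by
  classical
  let M : Matrix (Fin ρ) (Fin ρ) A := Matrix.of fun a b => v a (J b)
  have : vv (Pl v) J l = ∑ a, M.adjugate l a • v a := by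
    funext c
    have e : (Matrix.of fun a b => v a (Function.update J l c b)) = M.updateCol l (fun a => v a c) := by
      ext a b
      by_cases hb : b = l
      · subst hb; simp [M]
      · simp [M, hb]
    rw [Finset.sum_apply]
    show ext (Pl v) (Function.update J l c) = _
    rw [ext_Pl, e, ← cramer_apply, cramer_eq_adjugate_mulVec]
    rfl
  rw [this]
  exact Submodule.sum_mem _ fun a _ => Submodule.smul_mem _ _ (Submodule.subset_span ⟨a, rfl⟩)

/-- The rows at a subset with coordinate one. -/
theorem vv_enum (z : Sub N ρ → A) (s : Sub N ρ) (hz : z s = 1) (m b : Fin ρ) :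
    vv z (enum s) m (enum s b) = if m = b then 1 else 0 := by
  classical
  show ext z (Function.update (enum s) m (enum s b)) = _
  split_ifs with h
  · subst h
    rw [Function.update_eq_self, ext_enum, hz]
  · refine ext_eq_zero (fun hi => h (hi ?_)) z
    rw [Function.update_self, Function.update_of_ne (Ne.symm h)]

/-- The number of entries outside a subset. -/
def outside (s : Sub N ρ) (J : Fin ρ → Fin N) : ℕ := (Finset.univ.filter fun a => J a ∉ s.1).card

/-- The coordinates are determined by the vectors. -/
theorem eq_Pl (z : Sub N ρ → A) (s : Sub N ρ) (hz : z s = 1)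
    (h : ∀ J l, vv z J l ∈ Submodule.span A (Set.range (vv z (enum s)))) :
    z = Pl (vv z (enum s)) := by
  classical
  set v := vv z (enum s)
  have hv : ∀ x ∈ Submodule.span A (Set.range v), x = ∑ m, x (enum s m) • v m := by
    intro x hx
    obtain ⟨a, rfl⟩ := (Submodule.mem_span_range_iff_exists_fun A).1 hx
    refine Finset.sum_congr rfl fun m _ => ?_
    congr 1
    rw [Finset.sum_apply]
    simp [v, vv_enum z s hz]
  have hs : Pl v s = 1 := by
    rw [Pl, show (Matrix.of fun a b => v a (enum s b)) = 1 from Matrix.ext fun a b => by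
      simp [v, vv_enum z s hz, Matrix.one_apply], det_one]
  suffices key : ∀ (n : ℕ) (J : Fin ρ → Fin N), outside s J ≤ n → ext z J = ext (Pl v) J by
    funext t
    rw [← ext_enum z t, key _ _ le_rfl, ext_enum]
  intro n
  induction n with
  | zero =>
    intro J hJ
    have hJs : ∀ a, J a ∈ s.1 := fun a => by
      have h0 : (Finset.univ.filter fun a => J a ∉ s.1) = ∅ := Finset.card_eq_zero.1 (Nat.le_zero.1 hJ)
      by_contra ha
      exact Finset.notMem_empty a (h0 ▸ Finset.mem_filter.2 ⟨Finset.mem_univ a, ha⟩)
    by_cases hi : Function.Injective J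
    · obtain ⟨t, σ, rfl⟩ := exists_perm hi
      have : t = s := Subtype.ext (Finset.eq_of_subset_of_card_le (fun c hc => by
        obtain ⟨a, ha⟩ := (mem_iff_enum t).1 hc
        have := hJs (σ.symm a)
        simpa [ha] using this) (by rw [t.2, s.2]))
      subst this
      rw [ext_perm, ext_perm, hz, hs]
    · rw [ext_eq_zero hi, ext_eq_zero hi]
  | succ n ih =>
    intro J hJ
    by_cases hle : outside s J ≤ n
    · exact ih J hle
    obtain ⟨l, hl⟩ : ∃ l, J l ∉ s.1 := by
      by_contra hc
      simp only [not_exists, not_not] at hc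
      exact hle (by rw [outside, Finset.filter_false_of_mem (fun a _ => not_not.2 (hc a)), Finset.card_empty]; exact Nat.zero_le n)
    have hlow : ∀ c ∈ s.1, outside s (Function.update J l c) ≤ n := by
      intro c hc
      have hsub : (Finset.univ.filter fun a => Function.update J l c a ∉ s.1) ⊆
          (Finset.univ.filter fun a => J a ∉ s.1).erase l := by
        intro a ha
        rw [Finset.mem_filter] at ha
        rw [Finset.mem_erase, Finset.mem_filter]
        have hal : a ≠ l := fun e => by subst e; rw [Function.update_self] at ha; exact ha.2 hc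
        exact ⟨hal, Finset.mem_univ a, by simpa [Function.update_of_ne hal] using ha.2⟩
      refine (Finset.card_le_card hsub).trans ?_
      rw [Finset.card_erase_of_mem (Finset.mem_filter.2 ⟨Finset.mem_univ l, hl⟩)]
      unfold outside at hJ
      omega
    have e1 := hv _ (h J l)
    have e2 := hv _ (vv_Pl_mem_span v J l)
    have : vv z J l = vv (Pl v) J l := by
      rw [e1, e2]
      refine Finset.sum_congr rfl fun m _ => ?_
      congr 1
      exact ih _ (hlow _ ((mem_iff_enum s).2 ⟨m, rfl⟩))
    have := congrFun this (J l)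
    simpa [vv] using this

/-- Rows with an invertible minor generate the kernel of a surjection of the complementary rank. -/
theorem ker_eq_span [Nontrivial A] {r : ℕ} (hr : r + ρ = N) {H : Type u} [AddCommGroup H] [Module A H]
    (b : Module.Basis (Fin r) A H) (π : (Fin N → A) →ₗ[A] H) (hπ : Function.Surjective π)
    (v : Fin ρ → Fin N → A) (hv : ∀ l, π (v l) = 0) (s : Sub N ρ)
    (hs : ∀ m a, v m (enum s a) = if m = a then 1 else 0) :
    LinearMap.ker π = Submodule.span A (Set.range v) := by
  classical
  refine le_antisymm (fun x hx => ?_) (Submodule.span_le.2 (by rintro _ ⟨l, rfl⟩; exact hv l))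
  set C := {c : Fin N // c ∉ s.1}
  have hC : Fintype.card C = r := by
    rw [Fintype.card_subtype_compl, Fintype.card_fin, Fintype.card_coe, s.2]
    omega
  let ι : (C → A) →ₗ[A] (Fin N → A) :=
    { toFun := fun y c => if h : c ∉ s.1 then y ⟨c, h⟩ else 0
      map_add' := fun y y' => funext fun c => by simp only [Pi.add_apply]; split_ifs <;> simp
      map_smul' := fun t y => funext fun c => by simp only [Pi.smul_apply, RingHom.id_apply]; split_ifs <;> simp }
  let red : (Fin N → A) → (Fin N → A) := fun y => y - ∑ m, y (enum s m) • v m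
  have hred : ∀ y, ∃ y', ι y' = red y := fun y => by
    refine ⟨fun c => red y c.1, funext fun c => ?_⟩
    show (if h : c ∉ s.1 then red y c else 0) = _
    split_ifs with h
    · obtain ⟨a, rfl⟩ := (mem_iff_enum s).1 h
      simp [red, Finset.sum_apply, hs]
    · rfl
  have hπred : ∀ y, π (red y) = π y := fun y => by simp [red, map_sum, hv]
  have hsurj : Function.Surjective (π ∘ₗ ι) := fun w => by
    obtain ⟨y, rfl⟩ := hπ w
    obtain ⟨y', hy'⟩ := hred y
    exact ⟨y', by rw [LinearMap.comp_apply, hy', hπred]⟩
  let e : (C → A) ≃ₗ[A] H :=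
    (LinearEquiv.funCongrLeft A A ((Fintype.equivFinOfCardEq hC).symm)).trans b.equivFun.symm
  have hinj : Function.Injective (π ∘ₗ ι) := by
    have h2 : Function.Surjective (e.symm.toLinearMap ∘ₗ π ∘ₗ ι) := e.symm.surjective.comp hsurj
    have h3 := OrzechProperty.injective_of_surjective_endomorphism _ h2
    intro y y' hy
    exact h3 (congrArg e.symm hy)
  obtain ⟨x', hx'⟩ := hred x
  have hx0 : x' = 0 := hinj (by rw [LinearMap.comp_apply, hx', hπred, map_zero]; exact hx)
  rw [hx0, map_zero] at hx'
  have : x = ∑ m, x (enum s m) • v m := sub_eq_zero.1 hx'.symm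
  rw [this]
  exact Submodule.sum_mem _ fun m _ => Submodule.smul_mem _ _ (Submodule.subset_span ⟨m, rfl⟩)

/-- A surjection to a field-valued free module has a coordinate basis. -/
theorem exists_complement {K : Type u} [Field K] {r : ℕ} (hr : r + ρ = N) (π : (Fin N → K) →ₗ[K] (Fin r → K))
    (hπ : Function.Surjective π) :
    ∃ s : Sub N ρ, Function.Surjective (fun y : {c : Fin N // c ∉ s.1} → K =>
      π (fun c => if h : c ∉ s.1 then y ⟨c, h⟩ else 0)) := by
  classical
  let g : Fin N → (Fin r → K) := fun c => π (Pi.single c 1)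
  have hspan : Submodule.span K (Set.range g) = ⊤ := by
    refine eq_top_iff.2 fun w _ => ?_
    obtain ⟨y, rfl⟩ := hπ w
    have : π y = ∑ c, y c • g c := by
      conv_lhs => rw [← (Pi.basisFun K (Fin N)).sum_repr y]
      simp [g]
    rw [this]
    exact Submodule.sum_mem _ fun c _ => Submodule.smul_mem _ _ (Submodule.subset_span ⟨c, rfl⟩)
  obtain ⟨T, hTli, hTspan⟩ : ∃ T : Set (Fin N), LinearIndependent K (fun c : T => g c) ∧
      Submodule.span K (g '' T) = ⊤ := by
    obtain ⟨B, hB, hBspan, hBli⟩ := exists_linearIndependent K (Set.range g)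
    choose pre hpre using fun b : B => hB b.2
    refine ⟨Set.range pre, ?_, ?_⟩
    · let q : Set.range pre → B := fun c => c.2.choose
      have hq : ∀ c, g c.1 = (q c : Fin r → K) := fun c => by
        have hc : pre (q c) = c.1 := c.2.choose_spec
        rw [← hpre (q c), hc]
      rw [show (fun c : Set.range pre => g c) = (fun b : B => (b : Fin r → K)) ∘ q from funext hq]
      refine hBli.comp q fun c c' h => Subtype.ext ?_
      rw [← c.2.choose_spec, ← c'.2.choose_spec]
      exact congrArg pre h
    · rw [← hspan, ← hBspan]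
      congr 1
      ext w
      constructor
      · rintro ⟨_, ⟨b, rfl⟩, rfl⟩
        rw [hpre]; exact b.2
      · intro hw
        exact ⟨pre ⟨w, hw⟩, ⟨_, rfl⟩, hpre _⟩
  have hcard : Fintype.card T = r := by
    let bT := Module.Basis.mk hTli (by rw [← hTspan, Set.image_eq_range])
    rw [← Module.finrank_eq_card_basis bT, Module.finrank_fin_fun]
  let s : Sub N ρ := ⟨(T.toFinset)ᶜ, by
    rw [Finset.card_compl, Fintype.card_fin, Set.toFinset_card, hcard]; omega⟩
  refine ⟨s, fun w => ?_⟩
  have hw : w ∈ Submodule.span K (g '' T) := hTspan ▸ trivial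
  rw [Set.image_eq_range] at hw
  obtain ⟨a, ha⟩ := (Submodule.mem_span_range_iff_exists_fun K).1 hw
  refine ⟨fun c => a ⟨c.1, by simpa [s] using c.2⟩, ?_⟩
  rw [← ha]
  have key : (fun c => if h : c ∉ s.1 then a ⟨c, by simpa [s] using h⟩ else 0) = ∑ x : T, a x • Pi.single x.1 (1 : K) := by
    funext c
    rw [Finset.sum_apply]
    by_cases h : c ∈ T
    · rw [Finset.sum_eq_single ⟨c, h⟩ (fun x _ hx => by
        have : c ≠ x.1 := fun e => hx (Subtype.ext e.symm)
        simp [this]) (fun hh => absurd (Finset.mem_univ _) hh)]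
      simp [s, h]
    · rw [Finset.sum_eq_zero fun x _ => by
        have : c ≠ x.1 := fun e => h (e ▸ x.2)
        simp [this]]
      simp [s, h]
  show π _ = _
  rw [key, map_sum]
  simp [g]

end Groth.L02.Quot.Pl

namespace Groth.L02.Quot.Pl

variable {N ρ : ℕ} {A : Type u} [CommRing A]

/-- Rows in the span of others have proportional coordinates. -/
theorem exists_Pl_of_span_le {v w : Fin ρ → Fin N → A} (h : ∀ l, w l ∈ Submodule.span A (Set.range v)) :
    ∃ c : A, ∀ s, Pl w s = c * Pl v s := by
  classical
  choose a ha using fun l => (Submodule.mem_span_range_iff_exists_fun A).1 (h l)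
  refine ⟨(Matrix.of a).det, fun s => ?_⟩
  rw [Pl, Pl, ← Matrix.det_mul]
  congr 1
  ext l j
  simp [Matrix.mul_apply, ← ha l, Finset.sum_apply]

theorem Pl_map {B : Type u} [CommRing B] (φ : A →+* B) (v : Fin ρ → Fin N → A) (s : Sub N ρ) :
    φ (Pl v s) = Pl (fun l c => φ (v l c)) s := by
  rw [Pl, RingHom.map_det]
  rfl

theorem vv_Pl_enum (v : Fin ρ → Fin N → A) (s : Sub N ρ)
    (hs : ∀ m a, v m (enum s a) = if m = a then 1 else 0) (l : Fin ρ) : vv (Pl v) (enum s) l = v l := by
  funext c
  show ext (Pl v) _ = _
  rw [ext_Pl, show (Matrix.of fun a b => v a (Function.update (enum s) l c b)) =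
      (1 : Matrix (Fin ρ) (Fin ρ) A).updateCol l (fun i => v i c) from Matrix.ext fun a b => by
    rw [Matrix.updateCol_apply]
    by_cases hb : b = l
    · subst hb; simp
    · simp [hb, hs, Matrix.one_apply]]
  rw [← Matrix.cramer_apply, Matrix.cramer_one]
  rfl

end Groth.L02.Quot.Pl
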