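import Groth.Agent.L02.Quot.Rel
import Groth.Agent.L18.ProjSpaceUP

/-!
# The point of projective space defined by a family of quotients
-/

set_option autoImplicit false
set_option linter.style.haveILetI false
set_option linter.unusedSectionVars false
set_option backward.isDefEq.respectTransparency false
set_option backward.isDefEq.respectTransparency.types false

universe u

open CategoryTheory CategoryTheory.Limits AlgebraicGeometry TopologicalSpace Opposite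

noncomputable section

namespace Groth.L02.Quot

open Groth.L18.Frame (rs ro rs_rs ro_ro rs_smul ro_self rs_self pull pull_rs pull_smul)

namespace Pl

variable {N ρ : ℕ} {A : Type u} [CommRing A]

/-- Coordinates with a unit entry whose vectors lie in the span of rows are a multiple of theirs. -/
theorem exists_smul_of_span (z : Sub N ρ → A) (v : Fin ρ → Fin N → A) (j : Sub N ρ) (hj : z j = 1)
    (h : ∀ J l, vv z J l ∈ Submodule.span A (Set.range v)) : ∃ c : A, ∀ s, z s = c * Pl v s := by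
  classical
  choose a ha using fun m => (Submodule.mem_span_range_iff_exists_fun A).1 (h (enum j) m)
  let M : Matrix (Fin ρ) (Fin ρ) A := Matrix.of a
  let B : Matrix (Fin ρ) (Fin ρ) A := Matrix.of fun l b => v l (enum j b)
  have hMB : M * B = 1 := by
    ext m b
    have := congrFun (ha m) (enum j b)
    rw [vv_enum z j hj] at this
    simpa [M, B, Matrix.mul_apply, Matrix.one_apply, Finset.sum_apply] using this
  have hBM : B * M = 1 := mul_eq_one_comm.1 hMB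
  have hv : ∀ l, v l ∈ Submodule.span A (Set.range (vv z (enum j))) := by
    intro l
    have e : v l = ∑ m, B l m • vv z (enum j) m := by
      funext i
      have h1 : ∀ m, vv z (enum j) m i = ∑ l', a m l' * v l' i := fun m => by
        rw [← ha m]; simp [Finset.sum_apply]
      rw [Finset.sum_apply]
      simp only [Pi.smul_apply, smul_eq_mul, h1, Finset.mul_sum]
      rw [Finset.sum_comm]
      simp only [← mul_assoc, ← Finset.sum_mul]
      have h2 : ∀ l', ∑ m, B l m * a m l' = if l = l' then 1 else 0 := fun l' => by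
        have := congrFun (congrFun hBM l) l'
        simpa [M, Matrix.mul_apply, Matrix.one_apply] using this
      simp [h2]
    rw [e]
    exact Submodule.sum_mem _ fun m _ => Submodule.smul_mem _ _ (Submodule.subset_span ⟨m, rfl⟩)
  have hz := eq_Pl z j hj fun J l => (Submodule.span_le.2 (by rintro _ ⟨l', rfl⟩; exact hv l')) (h J l)
  obtain ⟨c, hc⟩ := exists_Pl_of_span_le (v := v) (w := vv z (enum j)) fun m => h (enum j) m
  exact ⟨c, fun s => (congrFun hz s).trans (hc s)⟩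

end Pl

theorem aux_prop {A : Type u} [CommRing A] {c c' a b : A} (h : c * a = 1) : c' * b = c' * a * (c * b) := by
  linear_combination (-(c' * b)) * h

variable {X S : Scheme.{u}} {E F : X.Modules} {N ρ : ℕ}

/-- The vectors of the coordinates are killed. -/
def Killed (f : X ⟶ S) (ε : Fin N → Γ(E, ⊤)) (q : E ⟶ F) {U : S.Opens} (t : Pl.Sub N ρ → Γ(S, U)) : Prop :=
  ∀ J l, Pl.vv t J l ∈ combKer f ε q U

theorem Killed.rs' {f : X ⟶ S} {ε : Fin N → Γ(E, ⊤)} {q : E ⟶ F} {U V : S.Opens} {t : Pl.Sub N ρ → Γ(S, U)}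
    (h : Killed f ε q t) (hV : V ≤ U) : Killed f ε q fun s => ro hV (t s) := by
  intro J l
  have := map_mem_combKer f ε q hV (h J l)
  rwa [show (fun i => ro hV (Pl.vv t J l i)) = Pl.vv (fun s => ro hV (t s)) J l from
    funext fun i => Pl.map_vv (S.presheaf.map (homOfLE hV).op).hom t J l i] at this

variable {f : X ⟶ S} [IsLocallyNoetherian S] [IsProper f] [LocallyOfFinitePresentation f]
  {ε : Fin N → Γ(E, ⊤)} {q : E ⟶ F} {r : ℕ}

/-- Killed coordinates are multiples of those of a chart. -/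
theorem exists_unit_smul (hrρ : r + ρ = N) (h : RelHyp f ε q r) (x : S) :
    ∃ (U : S.Opens) (t : Pl.Sub N ρ → Γ(S, U)) (s0 : Pl.Sub N ρ), x ∈ U ∧ t s0 = 1 ∧
      (∀ (y : X) (hy : y ∈ f ⁻¹ᵁ U), GenKerAt q (fun l => comb f ε U (Pl.vv t (Pl.enum s0) l)) y hy) ∧
      ∀ (V : S.Opens) (hV : V ≤ U) (z : Pl.Sub N ρ → Γ(S, V)) (j : Pl.Sub N ρ), z j = 1 → Killed f ε q z →
        ∃ c : Γ(S, V), IsUnit c ∧ ∀ s, z s = c * ro hV (t s) := by
  obtain ⟨U, t, s0, hxU, -, ht, hkill, hgen, hspan⟩ := exists_chart hrρ h x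
  refine ⟨U, t, s0, hxU, ht, hgen, fun V hV z j hj hz => ?_⟩
  let v : Fin ρ → Fin N → Γ(S, V) := fun m i => ro hV (Pl.vv t (Pl.enum s0) m i)
  have hmem : ∀ c ∈ combKer f ε q V, c ∈ Submodule.span _ (Set.range v) := fun c hc => by
    rw [hspan V hV c hc]
    exact Submodule.sum_mem _ fun m _ => Submodule.smul_mem _ _ (Submodule.subset_span ⟨m, rfl⟩)
  obtain ⟨c, hc⟩ := Pl.exists_smul_of_span z v j hj fun J l => hmem _ (hz J l)
  let tV : Pl.Sub N ρ → Γ(S, V) := fun s => ro hV (t s)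
  have htV : tV = Pl.Pl v := by
    have hv : Pl.vv tV (Pl.enum s0) = v := funext fun m => funext fun i =>
      (Pl.map_vv (S.presheaf.map (homOfLE hV).op).hom t (Pl.enum s0) m i).symm
    rw [← hv]
    refine Pl.eq_Pl tV s0 (by show ro hV (t s0) = 1; rw [ht]; exact map_one _) fun J l => ?_
    rw [hv]
    exact hmem _ (Killed.rs' (t := t) hkill hV J l)
  have hc' : ∀ s, z s = c * tV s := fun s => by rw [htV]; exact hc s
  exact ⟨c, IsUnit.of_mul_eq_one _ ((hc' j).symm.trans hj), hc'⟩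

/-- Two killed coordinate systems are proportional. -/
theorem killed_prop (hrρ : r + ρ = N) (h : RelHyp f ε q r) {U U' : S.Opens} (z : Pl.Sub N ρ → Γ(S, U))
    (z' : Pl.Sub N ρ → Γ(S, U')) {j j' : Pl.Sub N ρ} (hz : z j = 1) (hz' : z' j' = 1) (hk : Killed f ε q z)
    (hk' : Killed f ε q z') (m : Pl.Sub N ρ) :
    ro (inf_le_right : U ⊓ U' ≤ U') (z' m) = ro inf_le_right (z' j) * ro (inf_le_left : U ⊓ U' ≤ U) (z m) := by
  choose W t s0 hxW ht _ hW using fun x : (U ⊓ U' : S.Opens) => exists_unit_smul hrρ h x.1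
  refine TopCat.Sheaf.eq_of_locally_eq' (X := S.toTopCat) ⟨S.presheaf, S.sheaf.2⟩
    (fun x => W x ⊓ (U ⊓ U')) (U ⊓ U') (fun x => homOfLE inf_le_right)
    (fun y hy => Opens.mem_iSup.2 ⟨⟨y, hy⟩, hxW ⟨y, hy⟩, hy⟩) _ _ fun x => ?_
  let V := W x ⊓ (U ⊓ U')
  have hVU : V ≤ U := inf_le_right.trans inf_le_left
  have hVU' : V ≤ U' := inf_le_right.trans inf_le_right
  obtain ⟨c, -, hc⟩ := hW x V inf_le_left (fun s => ro hVU (z s)) j (by rw [hz]; exact map_one _) (hk.rs' hVU)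
  obtain ⟨c', -, hc'⟩ := hW x V inf_le_left (fun s => ro hVU' (z' s)) j' (by rw [hz']; exact map_one _) (hk'.rs' hVU')
  show ro inf_le_right (ro _ (z' m)) = ro inf_le_right (ro _ (z' j) * ro _ (z m))
  rw [Groth.L18.Frame.ro_mul, ro_ro, ro_ro, ro_ro, hc' m, hc' j, hc m]
  have h1 : ro hVU (z j) = 1 := by rw [hz]; exact map_one _
  rw [hc j] at h1
  exact aux_prop h1

/-- The vectors of killed coordinates generate the kernel. -/
theorem Killed.genKerAt (hrρ : r + ρ = N) (h : RelHyp f ε q r) {U : S.Opens} {z : Pl.Sub N ρ → Γ(S, U)}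
    (hk : Killed f ε q z) {j : Pl.Sub N ρ} (hz : z j = 1) (y : X) (hy : y ∈ f ⁻¹ᵁ U) :
    GenKerAt q (fun p : (Fin ρ → Fin N) × Fin ρ => comb f ε U (Pl.vv z p.1 p.2)) y hy := by
  obtain ⟨W, t, s0, hyW, ht, hgen, hW⟩ := exists_unit_smul hrρ h (f y)
  have hk0 : ∀ p : (Fin ρ → Fin N) × Fin ρ, q.app (f ⁻¹ᵁ U) (comb f ε U (Pl.vv z p.1 p.2)) = 0 := fun p =>
    (mem_combKer f ε (q := q)).1 (hk p.1 p.2)
  unfold GenKerAt
  refine le_antisymm ?_ (spanGerm_le_ker q (fun p : (Fin ρ → Fin N) × Fin ρ => comb f ε U (Pl.vv z p.1 p.2)) hk0 y hy)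
  refine (hgen y hyW).le.trans (Submodule.span_le.2 ?_)
  rintro _ ⟨l, rfl⟩
  let V := W ⊓ U
  obtain ⟨c, hcu, hc⟩ := hW V inf_le_left (fun s => ro inf_le_right (z s)) j (by rw [hz]; exact map_one _) (hk.rs' inf_le_right)
  obtain ⟨d, hd⟩ := hcu.exists_left_inv
  let w : Fin N → Γ(S, V) := fun i => ro (inf_le_left : V ≤ W) (Pl.vv t (Pl.enum s0) l i)
  let v : Fin N → Γ(S, V) := fun i => ro (inf_le_right : V ≤ U) (Pl.vv z (Pl.enum s0) l i)
  have hwv : w = d • v := funext fun i => by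
    have e1 : v i = c * w i := by
      show ro _ (Pl.vv z _ _ _) = c * ro _ (Pl.vv t _ _ _)
      rw [show ro (inf_le_right : V ≤ U) (Pl.vv z (Pl.enum s0) l i) = _ from Pl.map_vv (S.presheaf.map (homOfLE (inf_le_right : V ≤ U)).op).hom z _ l i,
        show ro (inf_le_left : V ≤ W) (Pl.vv t (Pl.enum s0) l i) = _ from Pl.map_vv (S.presheaf.map (homOfLE (inf_le_left : V ≤ W)).op).hom t _ l i]
      rw [show (fun s => (S.presheaf.map (homOfLE (inf_le_right : V ≤ U)).op).hom (z s)) =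
        c • fun s => (S.presheaf.map (homOfLE (inf_le_left : V ≤ W)).op).hom (t s) from funext fun s => hc s, Pl.vv_smul]
      rfl
    rw [Pi.smul_apply, smul_eq_mul, e1, ← mul_assoc, hd, one_mul]
  have hg : ∀ {A : S.Opens} (hA : V ≤ A) (u' : Fin N → Γ(S, A)) (hyA : y ∈ f ⁻¹ᵁ A),
      E.presheaf.germ (f ⁻¹ᵁ A) y hyA (comb f ε A u') =
        E.presheaf.germ (f ⁻¹ᵁ V) y ⟨hyW, hy⟩ (comb f ε V fun i => ro hA (u' i)) := fun hA u' hyA => by
    rw [← comb_rs f ε hA]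
    exact (TopCat.Presheaf.germ_res_apply _ _ _ _ _).symm
  show E.presheaf.germ (f ⁻¹ᵁ W) y hyW (comb f ε W (Pl.vv t (Pl.enum s0) l)) ∈ spanGerm _ y hy
  rw [hg inf_le_left]
  show E.presheaf.germ (f ⁻¹ᵁ V) y _ (comb f ε V w) ∈ _
  rw [hwv, comb_smul, Groth.L20.ModStalk.germ_smul E]
  refine Submodule.smul_mem _ _ ?_
  rw [← hg inf_le_right _ hy]
  exact Submodule.subset_span ⟨(Pl.enum s0, l), rfl⟩

section PP

open Groth.L18 Groth.L18.PUP

variable {R : ℕ} (e : Fin (R + 1) ≃ Pl.Sub N ρ)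

/-- Projective space over the integers. -/
abbrev PP (R : ℕ) : Scheme.{u} := PUP.P R (ULift.{u} ℤ)

/-- The integers in any ring. -/
def σz (B : Type u) [CommRing B] : ULift.{u} ℤ →+* B :=
  (Int.castRingHom B).comp ULift.ringEquiv.toRingHom

theorem ringHom_ulift_ext {B : Type u} [CommRing B] (g g' : ULift.{u} ℤ →+* B) : g = g' :=
  RingHom.ext fun x => by
    have := RingHom.ext_int (g.comp ULift.ringEquiv.symm.toRingHom) (g'.comp ULift.ringEquiv.symm.toRingHom)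
    exact congr($this (ULift.ringEquiv x))

/-- The coordinate function. -/
abbrev cf (a s : Pl.Sub N ρ) : Γ(PP.{u} R, PUP.D (e.symm a)) := PUP.cc (e.symm a) (e.symm s)

/-- The coordinates of a point. -/
def coordOf {T : Scheme.{u}} (φ : T ⟶ PP R) (a : Pl.Sub N ρ) {U : T.Opens} (hU : U ≤ φ ⁻¹ᵁ PUP.D (e.symm a)) :
    Pl.Sub N ρ → Γ(T, U) :=
  fun s => φ.appLE (PUP.D (e.symm a)) U hU (cf e a s)

theorem cf_self (a : Pl.Sub N ρ) : cf.{u} e a a = 1 := by
  show Proj.awayToSection _ _ (Groth.L18.PS.coord (e.symm a) (e.symm a)) = 1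
  rw [Groth.L18.PS.coord_self]
  exact map_one _

theorem coordOf_self {T : Scheme.{u}} (φ : T ⟶ PP R) (a : Pl.Sub N ρ) {U : T.Opens} (hU : U ≤ φ ⁻¹ᵁ PUP.D (e.symm a)) :
    coordOf e φ a hU a = 1 := by rw [coordOf, cf_self]; exact map_one _

theorem fromSpec_eq {T : Scheme.{u}} (φ : T ⟶ PP R) (a : Pl.Sub N ρ) {U : T.Opens} (hUa : IsAffineOpen U)
    (hU : U ≤ φ ⁻¹ᵁ PUP.D (e.symm a)) (hu : IsUnit (coordOf e φ a hU (e (e.symm a)))) :
    hUa.fromSpec ≫ φ = Groth.L18.PS.tuplePt (σz _) (fun k => coordOf e φ a hU (e k)) (e.symm a) hu := by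
  rw [PUP.fromSpec_comp φ hUa hU, Groth.L18.PS.tuplePt]
  congr 2
  ext1
  refine Groth.L18.PS.chart_ringHom_ext (e.symm a) (ringHom_ulift_ext _ _) fun k => ?_
  have h1 := Groth.L18.PS.chartHom_coord (σz _) (fun k => coordOf e φ a hU (e k)) (e.symm a) hu k
  simp only [Equiv.apply_symm_apply, coordOf_self, mul_one] at h1
  rw [CommRingCat.hom_ofHom, h1]
  simp [coordOf, cf, PUP.cc]

theorem coordOf_eq {T : Scheme.{u}} (φ : T ⟶ PP R) {U : T.Opens} (hUa : IsAffineOpen U) (t : Pl.Sub N ρ → Γ(T, U))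
    (a : Pl.Sub N ρ) (ht : t a = 1) (hu : IsUnit (t (e (e.symm a))))
    (h : hUa.fromSpec ≫ φ = Groth.L18.PS.tuplePt (σz _) (fun k => t (e k)) (e.symm a) hu) :
    ∃ hU : U ≤ φ ⁻¹ᵁ PUP.D (e.symm a), coordOf e φ a hU = t := by
  have hU : U ≤ φ ⁻¹ᵁ PUP.D (e.symm a) := fun x hx => by
    obtain ⟨x', rfl⟩ : x ∈ Set.range hUa.fromSpec := by rw [hUa.range_fromSpec]; exact hx
    have h1 : (hUa.fromSpec ≫ φ) ⁻¹ᵁ PUP.D (e.symm a) = ⊤ := by
      rw [h]
      exact (Groth.L18.PS.tuplePt_preimage_X _ _ _ hu (e.symm a)).trans (Groth.L18.PS.basicOpen_eq_top_of_isUnit hu)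
    exact h1.ge (x := x') trivial
  refine ⟨hU, ?_⟩
  have hu' : IsUnit (coordOf e φ a hU (e (e.symm a))) := by
    rw [Equiv.apply_symm_apply, coordOf_self]; exact isUnit_one
  obtain ⟨c, hc⟩ := Groth.L18.PS.exists_smul_of_tuplePt_eq _ _ _ _ hu hu' (h.symm.trans (fromSpec_eq e φ a hUa hU hu'))
  have h0 := hc (e.symm a)
  simp only [Equiv.apply_symm_apply, coordOf_self, ht, mul_one] at h0
  funext s
  have h1 := hc (e.symm s)
  simpa [← h0] using h1

/-- The transition rule for coordinates. -/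
theorem coordOf_change {T : Scheme.{u}} (φ : T ⟶ PP R) (a b : Pl.Sub N ρ) {W : T.Opens}
    (ha : W ≤ φ ⁻¹ᵁ PUP.D (e.symm a)) (hb : W ≤ φ ⁻¹ᵁ PUP.D (e.symm b)) (s : Pl.Sub N ρ) :
    coordOf e φ a ha s = coordOf e φ a ha b * coordOf e φ b hb s := by
  refine (PUP.rT_frame_le φ ha).inj le_rfl ?_
  rw [rs_self]
  refine (PUP.rT_smul_le φ ha (e.symm s)).trans ?_
  rw [mul_comm, mul_smul]
  show _ = coordOf e φ b hb s • (φ.appLE _ W ha (PUP.cc (e.symm a) (e.symm b)) • _)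
  rw [PUP.rT_smul_le φ ha (e.symm b)]
  exact (PUP.rT_smul_le φ hb (e.symm s)).symm

/-- Coordinates restrict to coordinates. -/
theorem ro_coordOf {T : Scheme.{u}} (φ : T ⟶ PP R) (a : Pl.Sub N ρ) {U V : T.Opens}
    (hU : U ≤ φ ⁻¹ᵁ PUP.D (e.symm a)) (hVU : V ≤ U) (s : Pl.Sub N ρ) :
    ro hVU (coordOf e φ a hU s) = coordOf e φ a (hVU.trans hU) s := by
  simp only [coordOf, Groth.L18.Frame.ro]
  rw [← CommRingCat.comp_apply, Scheme.Hom.appLE_map]

/-- Morphisms agreeing near every point of an affine open agree on it. -/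
theorem fromSpec_ext {T Y : Scheme.{u}} {U : T.Opens} (hU : IsAffineOpen U) {φ φ' : T ⟶ Y}
    (h : ∀ y ∈ U, ∃ V : T.Opens, y ∈ V ∧ V ≤ U ∧ ∃ hV : IsAffineOpen V, hV.fromSpec ≫ φ = hV.fromSpec ≫ φ') :
    hU.fromSpec ≫ φ = hU.fromSpec ≫ φ' := by
  choose V hyV hVU hV he using h
  have h1 : U.ι ≫ φ = U.ι ≫ φ' := by
    refine Scheme.Cover.hom_ext (U.toScheme.openCoverOfIsOpenCover (fun y : U => U.ι ⁻¹ᵁ V y.1 y.2)
      (TopologicalSpace.IsOpenCover.mk (eq_top_iff.2 fun y _ => Opens.mem_iSup.2 ⟨⟨y.1, y.2⟩, hyV _ _⟩))) _ _ fun y => ?_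
    have h2 : (V y.1 y.2).ι ≫ φ = (V y.1 y.2).ι ≫ φ' := by
      rw [← cancel_epi (hV y.1 y.2).isoSpec.inv, IsAffineOpen.isoSpec_inv_ι_assoc, IsAffineOpen.isoSpec_inv_ι_assoc]
      exact he y.1 y.2
    show (U.ι ⁻¹ᵁ V y.1 y.2).ι ≫ U.ι ≫ φ = (U.ι ⁻¹ᵁ V y.1 y.2).ι ≫ U.ι ≫ φ'
    rw [← morphismRestrict_ι_assoc, ← morphismRestrict_ι_assoc, h2]
  rw [← hU.isoSpec_inv_ι, Category.assoc, Category.assoc, h1]

/-- A point compatible with the quotient. -/
def Compat (f : X ⟶ S) (ε : Fin N → Γ(E, ⊤)) (q : E ⟶ F) (φ : S ⟶ PP R) : Prop :=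
  ∀ (a : Pl.Sub N ρ) (U : S.Opens) (hU : U ≤ φ ⁻¹ᵁ PUP.D (e.symm a)), IsAffineOpen U →
    Killed f ε q (coordOf e φ a hU)

theorem exists_mem_D {T : Scheme.{u}} (φ : T ⟶ PP R) (x : T) : ∃ a : Pl.Sub N ρ, x ∈ φ ⁻¹ᵁ PUP.D (e.symm a) := by
  obtain ⟨k, hk⟩ := Opens.mem_iSup.mp ((Groth.L18.PS.iSup_chart (n := R) (R := ULift.{u} ℤ)).ge (trivial : φ x ∈ ⊤))
  exact ⟨e k, by rw [Equiv.symm_apply_apply]; exact hk⟩

/-- The point of a family of quotients. -/
theorem existsUnique_compat (hrρ : r + ρ = N) (h : RelHyp f ε q r) : ∃! φ : S ⟶ PP R, Compat e f ε q φ := by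
  choose U t s0 hxU hU ht hkill _ _ using fun x : S => exists_chart hrρ h x
  let 𝒰 : S.AffineOpenCover :=
    { I₀ := S
      X := fun x => Γ(S, U x)
      f := fun x => (hU x).fromSpec
      idx := fun x => x
      covers := fun x => by rw [(hU x).range_fromSpec]; exact hxU x }
  obtain ⟨φ, hφ⟩ := Groth.L18.PS.exists_hom_of_tuples 𝒰 (fun x => σz _) (fun x k => t x (e k)) (fun x => e.symm (s0 x))
    (fun x => by rw [Equiv.apply_symm_apply, ht]; exact isUnit_one) (fun k l C g g' hgg' => by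
      refine ⟨ringHom_ulift_ext _ _, g'.hom (t l (s0 k)), fun m => ?_⟩
      set p := Spec.map g ≫ 𝒰.f k with hp
      have ek : ⊤ ≤ p ⁻¹ᵁ U k := fun x _ => by
        show (hU k).fromSpec _ ∈ U k
        rw [← SetLike.mem_coe, ← (hU k).range_fromSpec]; exact ⟨_, rfl⟩
      have el : ⊤ ≤ p ⁻¹ᵁ U l := fun x _ => by
        rw [hgg']
        show (hU l).fromSpec _ ∈ U l
        rw [← SetLike.mem_coe, ← (hU l).range_fromSpec]; exact ⟨_, rfl⟩
      have eO : ⊤ ≤ p ⁻¹ᵁ (U k ⊓ U l) := fun x hx => ⟨ek hx, el hx⟩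
      let Ev : Γ(S, U k ⊓ U l) ⟶ C := p.appLE (U k ⊓ U l) ⊤ eO ≫ (Scheme.ΓSpecIso C).hom
      have hf : ∀ b, g.hom b = Ev.hom (ro inf_le_left b) := fun b => by
        conv_lhs => rw [PUP.hom_eq_appLE (hU k) g p hp.symm ek]
        show _ = (S.presheaf.map (homOfLE inf_le_left).op ≫ p.appLE (U k ⊓ U l) ⊤ eO ≫ _).hom b
        rw [Scheme.Hom.map_appLE_assoc]
      have hg : ∀ b, g'.hom b = Ev.hom (ro inf_le_right b) := fun b => by
        conv_lhs => rw [PUP.hom_eq_appLE (hU l) g' p hgg'.symm el]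
        show _ = (S.presheaf.map (homOfLE inf_le_right).op ≫ p.appLE (U k ⊓ U l) ⊤ eO ≫ _).hom b
        rw [Scheme.Hom.map_appLE_assoc]
      rw [hf, hg, hg, ← map_mul]
      exact congrArg Ev.hom (killed_prop hrρ h (t k) (t l) (ht k) (ht l) (hkill k) (hkill l) (e m)))
  have hc : ∀ x, ∃ hx : U x ≤ φ ⁻¹ᵁ PUP.D (e.symm (s0 x)), coordOf e φ (s0 x) hx = t x := fun x =>
    coordOf_eq e φ (hU x) (t x) (s0 x) (ht x) (by rw [Equiv.apply_symm_apply, ht]; exact isUnit_one) (hφ x)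
  have hcompat : Compat e f ε q φ := by
    intro a V hV hVa J l
    rw [mem_combKer f ε]
    refine TopCat.Sheaf.eq_of_locally_eq' (⟨F.presheaf, F.isSheaf⟩ : TopCat.Sheaf Ab X.toTopCat)
      (fun x : S => f ⁻¹ᵁ (V ⊓ U x)) (f ⁻¹ᵁ V) (fun x => homOfLE (f.preimage_mono inf_le_left))
      (fun y hy => Opens.mem_iSup.2 ⟨f y, hy, hxU (f y)⟩) _ _ fun x => ?_
    show rsS f (inf_le_left : V ⊓ U x ≤ V) (πL f ε q V (Pl.vv (coordOf e φ a hV) J l)) = rsS f (inf_le_left : V ⊓ U x ≤ V) (0 : Sct f F V)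
    rw [rsS_zero, rsS_πL]
    show πL f ε q _ (fun i => (S.presheaf.map (homOfLE (inf_le_left : V ⊓ U x ≤ V)).op).hom (Pl.vv _ J l i)) = 0
    rw [show (fun i => (S.presheaf.map (homOfLE (inf_le_left : V ⊓ U x ≤ V)).op).hom (Pl.vv (coordOf e φ a hV) J l i)) =
      Pl.vv (fun s => ro (inf_le_left : V ⊓ U x ≤ V) (coordOf e φ a hV s)) J l from funext fun i => Pl.map_vv _ _ _ _ _]
    obtain ⟨hx, hcx⟩ := hc x
    let W := V ⊓ U x
    have hres : ∀ s, ro (inf_le_left : W ≤ V) (coordOf e φ a hV s) =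
        ro inf_le_left (coordOf e φ a hV (s0 x)) * ro inf_le_right (t x s) := by
      intro s
      rw [← hcx]
      rw [ro_coordOf, ro_coordOf, ro_coordOf]
      exact coordOf_change e φ a (s0 x) _ _ s
    rw [show (fun s => ro (inf_le_left : W ≤ V) (coordOf e φ a hV s)) =
      ro (inf_le_left : W ≤ V) (coordOf e φ a hV (s0 x)) • fun s => ro (inf_le_right : W ≤ U x) (t x s) from funext hres,
      Pl.vv_smul, map_smul, (mem_combKer' f ε q).1 ((Killed.rs' (t := t x) (hkill x) inf_le_right) J l), smul_zero]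
  refine ⟨φ, hcompat, fun φ' hφ' => ?_⟩
  refine Scheme.Cover.hom_ext 𝒰.openCover _ _ fun x => ?_
  show (hU x).fromSpec ≫ φ' = (hU x).fromSpec ≫ φ
  choose a ha using fun y : U x => exists_mem_D e φ' y.1
  obtain ⟨hx, hcx⟩ := hc x
  refine Groth.L02.Quot.fromSpec_ext (hU x) fun y hy => ?_
  obtain ⟨_, ⟨V, hV, rfl⟩, hyV, hVle⟩ := S.isBasis_affineOpens.exists_subset_of_mem_open
    (show y ∈ (φ' ⁻¹ᵁ PUP.D (e.symm (a ⟨y, hy⟩)) ⊓ U x : S.Opens) from ⟨ha ⟨y, hy⟩, hy⟩) (Opens.isOpen _)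
  refine ⟨V, hyV, fun z hz => (hVle hz).2, hV, ?_⟩
  let a' := a ⟨y, hy⟩
  have hV1 : V ≤ φ' ⁻¹ᵁ PUP.D (e.symm a') := fun z hz => (hVle hz).1
  have hV2 : V ≤ U x := fun z hz => (hVle hz).2
  let tV : Pl.Sub N ρ → Γ(S, V) := fun s => ro hV2 (t x s)
  have htV : coordOf e φ (s0 x) (hV2.trans hx) = tV := funext fun s => by
    show _ = ro hV2 (t x s)
    rw [← hcx, ro_coordOf]
  have hu1 : IsUnit (coordOf e φ' a' hV1 (e (e.symm a'))) := by
    rw [Equiv.apply_symm_apply, coordOf_self]; exact isUnit_one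
  have hu2 : IsUnit (coordOf e φ (s0 x) (hV2.trans hx) (e (e.symm (s0 x)))) := by
    rw [Equiv.apply_symm_apply, coordOf_self]; exact isUnit_one
  rw [fromSpec_eq e φ' a' hV hV1 hu1, fromSpec_eq e φ (s0 x) hV (hV2.trans hx) hu2]
  obtain ⟨W, t', s0', -, ht', -, -⟩ := exists_unit_smul hrρ h y
  have hprop : ∀ s, coordOf e φ (s0 x) (hV2.trans hx) s =
      coordOf e φ (s0 x) (hV2.trans hx) a' * coordOf e φ' a' hV1 s := fun s => by
    have h1 := killed_prop hrρ h (coordOf e φ' a' hV1) (coordOf e φ (s0 x) (hV2.trans hx)) (coordOf_self e φ' a' hV1)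
      (coordOf_self e φ _ _) (hφ' a' V hV1 hV) (hcompat _ V _ hV) s
    have e1 : ∀ b : Γ(S, V), ro (le_inf le_rfl le_rfl : V ≤ V ⊓ V) (ro inf_le_left b) = b := fun b => by
      rw [ro_ro]; exact ro_self _ _
    have e2 : ∀ b : Γ(S, V), ro (le_inf le_rfl le_rfl : V ≤ V ⊓ V) (ro inf_le_right b) = b := fun b => by
      rw [ro_ro]; exact ro_self _ _
    have h2 := congrArg (ro (le_inf le_rfl le_rfl : V ≤ V ⊓ V)) h1
    rwa [Groth.L18.Frame.ro_mul, e2, e2, e1] at h2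
  have hu3 : IsUnit (coordOf e φ (s0 x) (hV2.trans hx) a' * coordOf e φ' a' hV1 (e (e.symm (s0 x)))) := by
    rw [← hprop]; exact hu2
  exact ((Groth.L18.PS.tuplePt_congr _ (fun k => hprop (e k)) _ _ hu2 hu3).trans
    (Groth.L18.PS.tuplePt_smul _ (fun k => coordOf e φ' a' hV1 (e k)) _ _ _ hu3 hu1)).symm

end PP

end Groth.L02.Quot
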