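import Groth.Agent.L02.Quot.CoreLemmas
import Groth.Agent.L22.PDual.TwistExt
import Groth.Agent.L08.Cube.Inverse
import Groth.Agent.L03.ShStab.TwistFlat
import Groth.Agent.L29.DCoh.PullTensor

/-!
# Twisting the families of quotients by an invertible module
-/

set_option autoImplicit false
set_option linter.style.haveILetI false
set_option linter.unusedSectionVars false
set_option backward.isDefEq.respectTransparency false
set_option backward.isDefEq.respectTransparency.types false

universe u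

open CategoryTheory CategoryTheory.Limits MonoidalCategory AlgebraicGeometry TopologicalSpace Opposite

noncomputable section

namespace Groth.L02.Quot.Tw

open Groth.L18.Frame (rs rs_rs rs_self pull pull_rs)
open Groth.L18.GenLoc (tens tens_rs)
open Groth.L00.Tensor (tensorMap tensorIso tensorRightF tensorMap_comp pre)
open Groth.L29.DC.PullTensor (δ isIso_δ)
open Groth.L16.EpiFrames (app_rs)

variable {X Y : Scheme.{u}}

theorem tensorMap_tens {M M' N N' : X.Modules} (a : M ⟶ M') (b : N ⟶ N') (U : X.Opens) (m : Γ(M, U)) (n : Γ(N, U)) :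
    (tensorMap a b).app U (tens M N U m n) = tens M' N' U (a.app U m) (b.app U n) :=
  Groth.L17.ClosedPush.tensorMap_unit a b U m n

theorem δ_tens (f : X ⟶ Y) (A B : Y.Modules) (V : Y.Opens) (a : Γ(A, V)) (b : Γ(B, V)) :
    (δ f A B).app (f ⁻¹ᵁ V) (pull f (CohB1.tensorMod A B) V (tens A B V a b)) =
      tens _ _ (f ⁻¹ᵁ V) (pull f A V a) (pull f B V b) := by
  refine (congrArg (fun k => (Scheme.Modules.Hom.app k V) (tens A B V a b))
    (Groth.L29.DC.PullTensor.unit_push_δ f A B)).trans ?_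
  show ((Groth.L00.Tensor.tensorMap _ _) ≫ Groth.L17.ClosedPush.μ f _ _).app V _ = _
  rw [Scheme.Modules.Hom.comp_app]
  exact (congrArg ((Groth.L17.ClosedPush.μ f ((Scheme.Modules.pullback f).obj A) ((Scheme.Modules.pullback f).obj B)).app V)
      (Groth.L17.ClosedPush.tensorMap_unit _ _ V a b)).trans (Groth.L17.ClosedPush.μ_unit f _ _ V _ _)

theorem hom_ext_tens {A B M : X.Modules} {a b : CohB1.tensorMod A B ⟶ M}
    (h : ∀ (V : X.Opens) (x : Γ(A, V)) (y : Γ(B, V)), a.app V (tens A B V x y) = b.app V (tens A B V x y)) : a = b := by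
  refine ((Groth.L17.ClosedPush.shAdj X).homEquiv (pre A ⊗ pre B) M).injective ?_
  refine ((Groth.L17.ClosedPush.shAdj X).homEquiv_unit ..).trans (Eq.trans ?_ ((Groth.L17.ClosedPush.shAdj X).homEquiv_unit ..).symm)
  refine PresheafOfModules.hom_ext fun V => ModuleCat.MonoidalCategory.tensor_ext fun m n => ?_
  exact h V.unop m n

theorem hom_ext_pull_pull_tens {Z : Scheme.{u}} (f : X ⟶ Y) (g : Y ⟶ Z) {A B : Z.Modules} {M : X.Modules}
    {a b : (Scheme.Modules.pullback f).obj ((Scheme.Modules.pullback g).obj (CohB1.tensorMod A B)) ⟶ M}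
    (hab : ∀ (V : Z.Opens) (x : Γ(A, V)) (y : Γ(B, V)),
      a.app (f ⁻¹ᵁ (g ⁻¹ᵁ V)) (pull f _ _ (pull g (CohB1.tensorMod A B) V (tens A B V x y))) =
        b.app (f ⁻¹ᵁ (g ⁻¹ᵁ V)) (pull f _ _ (pull g (CohB1.tensorMod A B) V (tens A B V x y)))) : a = b := by
  refine ((Scheme.Modules.pullbackPushforwardAdjunction f).homEquiv _ M).injective ?_
  refine ((Scheme.Modules.pullbackPushforwardAdjunction g).homEquiv _ _).injective (hom_ext_tens fun V x y => ?_)
  simp only [Adjunction.homEquiv_unit]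
  exact hab V x y

variable {X₀ S : Scheme.{u}} (f : X₀ ⟶ S) (E M : X₀.Modules) {T T' : Over S}

/-- The comparisons of tensor products on base changes agree. -/
theorem ETiso_δ (g : T' ⟶ T) :
    (Scheme.Modules.pullback (PicF.XTmap f g)).map (δ (pullback.fst f T.hom) E M) ≫
        δ (PicF.XTmap f g) (FGA.ET f E T) (FGA.ET f M T) ≫
          tensorMap (FGA.ETiso f E g).hom (FGA.ETiso f M g).hom =
      (FGA.ETiso f (CohB1.tensorMod E M) g).hom ≫ δ (pullback.fst f T'.hom) E M := by
  refine hom_ext_pull_pull_tens (PicF.XTmap f g) (pullback.fst f T.hom) fun V x y => ?_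
  have hle : PicF.XTmap f g ⁻¹ᵁ (pullback.fst f T.hom ⁻¹ᵁ V) ≤ pullback.fst f T'.hom ⁻¹ᵁ V :=
    (congrArg (fun k => k ⁻¹ᵁ V) (FGA.XTmap_fst f g)).le
  simp only [Scheme.Modules.Hom.comp_app, ConcreteCategory.comp_apply]
  rw [Groth.L17.Approx.app_pull, δ_tens, δ_tens, tensorMap_tens,
    Groth.L14.Quot.ETiso_pull f E g V x hle, Groth.L14.Quot.ETiso_pull f M g V y hle,
    Groth.L14.Quot.ETiso_pull f (CohB1.tensorMod E M) g V _ hle, app_rs, δ_tens, tens_rs]

/-- The twist of a quotient. -/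
abbrev twQ (T : Over S) {F : (PicF.XT f T).Modules} (q : FGA.ET f E T ⟶ F) :
    FGA.ET f (CohB1.tensorMod E M) T ⟶ CohB1.tensorMod F (FGA.ET f M T) :=
  δ (pullback.fst f T.hom) E M ≫ tensorMap q (𝟙 _)

theorem epi_twQ (T : Over S) {F : (PicF.XT f T).Modules} (q : FGA.ET f E T ⟶ F) [Epi q] : Epi (twQ f E M T q) := by
  haveI := isIso_δ (pullback.fst f T.hom) E M
  haveI : Epi ((tensorRightF (FGA.ET f M T)).map q) := by
    haveI : PreservesColimitsOfSize.{u, u} (tensorRightF (FGA.ET f M T)) := inferInstance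
    haveI : PreservesFiniteColimits (tensorRightF (FGA.ET f M T)) := PreservesColimitsOfSize.preservesFiniteColimits _
    infer_instance
  haveI : Epi (tensorMap q (𝟙 (FGA.ET f M T))) := this
  infer_instance

theorem kernel_twQ_pullQ (g : T' ⟶ T) {F : (PicF.XT f T).Modules} (q : FGA.ET f E T ⟶ F) :
    kernelSubobject (Groth.L02.Quot.pullQ f (CohB1.tensorMod E M) g (twQ f E M T q)) =
      kernelSubobject (twQ f E M T' (Groth.L02.Quot.pullQ f E g q)) := by
  haveI := isIso_δ (PicF.XTmap f g) F (FGA.ET f M T)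
  let i := δ (PicF.XTmap f g) F (FGA.ET f M T) ≫ tensorMap (𝟙 _) (FGA.ETiso f M g).hom
  haveI : IsIso (tensorMap (𝟙 ((Scheme.Modules.pullback (PicF.XTmap f g)).obj F)) (FGA.ETiso f M g).hom) :=
    inferInstanceAs (IsIso (tensorIso (Iso.refl _) (FGA.ETiso f M g)).hom)
  haveI : IsIso i := inferInstance
  have h : Groth.L02.Quot.pullQ f (CohB1.tensorMod E M) g (twQ f E M T q) ≫ i = twQ f E M T' (Groth.L02.Quot.pullQ f E g q) := by
    rw [← cancel_epi (FGA.ETiso f (CohB1.tensorMod E M) g).hom]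
    simp only [Groth.L02.Quot.pullQ, twQ, i, Category.assoc, Functor.map_comp, Iso.hom_inv_id_assoc]
    rw [← reassoc_of% (ETiso_δ f E M g)]
    rw [reassoc_of% (Groth.L29.DC.PullTensor.δ_natural (PicF.XTmap f g) q (𝟙 (FGA.ET f M T)))]
    rw [← tensorMap_comp, CategoryTheory.Functor.map_id, ← tensorMap_comp]
    simp
  rw [← kernelSubobject_comp_mono (Groth.L02.Quot.pullQ f (CohB1.tensorMod E M) g (twQ f E M T q)) i]
  congr 1

variable {M}

theorem invertible_ET (hM : PicF.IsInvertible M) (T : Over S) : PicF.IsInvertible (FGA.ET f M T) :=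
  Groth.L18.Ample.isInvertible_pullback _ hM

theorem equivalence (hM : PicF.IsInvertible M) (T : Over S) : (tensorRightF (FGA.ET f M T)).IsEquivalence := by
  obtain ⟨L, -, ⟨e⟩⟩ := Groth.L08.Cube.exists_inverse (invertible_ET f hM T)
  exact Groth.L22.PDual.isEquivalence_tensorRightF e

variable (M)

/-- The twist of a family of quotients. -/
def twK (T : Over S) (K : Subobject (FGA.ET f E T)) : Subobject (FGA.ET f (CohB1.tensorMod E M) T) :=
  kernelSubobject (twQ f E M T (cokernel.π K.arrow))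

theorem twK_quotPull (g : T' ⟶ T) (K : Subobject (FGA.ET f E T)) :
    twK f E M T' (FGA.quotPull f E g K) = FGA.quotPull f (CohB1.tensorMod E M) g (twK f E M T K) := by
  haveI := epi_twQ f E M T (cokernel.π K.arrow)
  haveI := Groth.L02.Quot.epi_pullQ f E g (cokernel.π K.arrow)
  rw [twK, twK, Groth.L02.Quot.quotPull_kernel, kernel_twQ_pullQ]
  have hk : kernelSubobject (cokernel.π (FGA.quotPull f E g K).arrow) =
      kernelSubobject (Groth.L02.Quot.pullQ f E g (cokernel.π K.arrow)) := by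
    rw [kernelSubobject_cokernel_π, ← Groth.L02.Quot.quotPull_kernel, kernelSubobject_cokernel_π]
  obtain ⟨d, hd⟩ := exists_iso_of_kernel_eq _ _ hk
  haveI : IsIso (tensorMap d.hom (𝟙 (FGA.ET f M T'))) :=
    inferInstanceAs (IsIso (tensorIso d (Iso.refl (FGA.ET f M T'))).hom)
  rw [← kernelSubobject_comp_mono (twQ f E M T' (cokernel.π (FGA.quotPull f E g K).arrow)) (tensorMap d.hom (𝟙 _))]
  congr 1
  rw [twQ, twQ, Category.assoc, ← tensorMap_comp, hd, Category.id_comp]

theorem twK_injective (hM : PicF.IsInvertible M) (T : Over S) : Function.Injective (twK f E M T) := by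
  intro K K' h
  haveI := equivalence f hM T
  haveI := isIso_δ (pullback.fst f T.hom) E M
  haveI := epi_twQ f E M T (cokernel.π K.arrow)
  haveI := epi_twQ f E M T (cokernel.π K'.arrow)
  obtain ⟨d, hd⟩ := exists_iso_of_kernel_eq _ _ h
  let d₀ := (tensorRightF (FGA.ET f M T)).preimageIso d
  have h0 : cokernel.π K.arrow ≫ d₀.hom = cokernel.π K'.arrow := by
    apply (tensorRightF (FGA.ET f M T)).map_injective
    rw [Functor.map_comp, ← cancel_epi (δ (pullback.fst f T.hom) E M)]
    rw [show (tensorRightF (FGA.ET f M T)).map d₀.hom = d.hom from Functor.map_preimage _ _]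
    rw [← Category.assoc]
    exact hd
  rw [← kernelSubobject_cokernel_π K, ← kernelSubobject_cokernel_π K', ← kernelSubobject_comp_mono (cokernel.π K.arrow) d₀.hom]
  congr 1

theorem twK_mem [IsLocallyNoetherian (PicF.XT f T)] (hM : PicF.IsInvertible M) (K : FGA.QuotSet f E T) :
    Coh.IsCoh (cokernel (twK f E M T K.1).arrow) ∧ FlatMod.IsFlatOver (PicF.XTproj f T) (cokernel (twK f E M T K.1).arrow) := by
  haveI := epi_twQ f E M T (cokernel.π K.1.arrow)
  obtain ⟨d, -⟩ := exists_iso_of_kernel_eq (twQ f E M T (cokernel.π K.1.arrow)) (cokernel.π (twK f E M T K.1).arrow)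
    (kernelSubobject_cokernel_π _).symm
  exact ⟨Groth.L16.CohSupport.isCoh_of_iso d (Groth.L03.Euler.isCoh_tensor (invertible_ET f hM T) K.2.1),
    Groth.L29.DC.RelBC.isFlatOver_of_iso _ d (Groth.L03.ShStab.TwistFlat.isFlatOver_tensor _ (invertible_ET f hM T) K.2.2)⟩

theorem exists_twK_eq [IsLocallyNoetherian (PicF.XT f T)] (hM : PicF.IsInvertible M)
    (K' : FGA.QuotSet f (CohB1.tensorMod E M) T) : ∃ K : FGA.QuotSet f E T, twK f E M T K.1 = K'.1 := by
  obtain ⟨L, hL, ⟨eL⟩⟩ := Groth.L08.Cube.exists_inverse (invertible_ET f hM T)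
  haveI := Groth.L22.PDual.isEquivalence_tensorRightF eL
  haveI := isIso_δ (pullback.fst f T.hom) E M
  let R := tensorRightF (FGA.ET f M T)
  let G := cokernel K'.1.arrow
  let G₀ := R.objPreimage G
  let eG : R.obj G₀ ≅ G := R.objObjPreimageIso G
  let q : FGA.ET f E T ⟶ G₀ := R.preimage (inv (δ (pullback.fst f T.hom) E M) ≫ cokernel.π K'.1.arrow ≫ eG.inv)
  haveI : Epi q := R.epi_of_epi_map (show Epi (R.map q) by rw [R.map_preimage]; infer_instance)
  obtain ⟨d, hd⟩ := exists_iso_of_kernel_eq q (cokernel.π (kernelSubobject q).arrow) (kernelSubobject_cokernel_π _).symm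
  let e0 : CohB1.tensorMod G L ≅ G₀ :=
    tensorIso eG.symm (Iso.refl L) ≪≫ (Groth.L22.PDual.invIso eL).app G₀
  refine ⟨⟨kernelSubobject q, Groth.L16.CohSupport.isCoh_of_iso (e0 ≪≫ d) (Groth.L03.Euler.isCoh_tensor hL K'.2.1),
    Groth.L29.DC.RelBC.isFlatOver_of_iso _ (e0 ≪≫ d) (Groth.L03.ShStab.TwistFlat.isFlatOver_tensor _ hL K'.2.2)⟩, ?_⟩
  haveI := epi_twQ f E M T q
  haveI : IsIso (tensorMap d.hom (𝟙 (FGA.ET f M T))) :=
    inferInstanceAs (IsIso (tensorIso d (Iso.refl (FGA.ET f M T))).hom)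
  show kernelSubobject (twQ f E M T (cokernel.π (kernelSubobject q).arrow)) = _
  rw [← kernelSubobject_cokernel_π K'.1, ← kernelSubobject_comp_mono (cokernel.π K'.1.arrow) eG.inv,
    ← kernelSubobject_comp_mono (cokernel.π K'.1.arrow ≫ eG.inv) (R.map d.hom)]
  congr 1
  rw [← hd, twQ, show tensorMap (q ≫ d.hom) (𝟙 (FGA.ET f M T)) = R.map (q ≫ d.hom) from rfl, R.map_comp,
    R.map_preimage]
  simp only [Category.assoc, IsIso.hom_inv_id_assoc]

end Groth.L02.Quot.Tw
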