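import Groth.Agent.L02.Quot.Closed
import Groth.Agent.L02.Quot.Tw
import Groth.Agent.L02.Quot.FieldProj
import Groth.Agent.L17.Strat.Poly
import Groth.Agent.L18.VeryAmpleOver
import Groth.Agent.L22.Inter.Fga

/-!
# The scheme of quotients of a projective scheme with given Hilbert polynomial
-/

set_option autoImplicit false
set_option linter.style.haveILetI false
set_option linter.unusedSectionVars false
set_option backward.isDefEq.respectTransparency false
set_option backward.isDefEq.respectTransparency.types false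

universe u

open CategoryTheory CategoryTheory.Limits AlgebraicGeometry TopologicalSpace Opposite

noncomputable section

namespace Groth.L02.Quot

open Groth.L16
open Groth.L00.Tensor (tensorIso tensorAssoc tensorRightF tensorPowIso)
open Groth.L17.Strat (fib)
open Groth.L22.Reg (chiP tw')

variable {n : ℕ} {S X : Scheme.{u}} (i : X ⟶ CohB1.ProjSpaceOver n S)

/-- The twists on `X`. -/
abbrev OX (m : ℤ) : X.Modules := (Scheme.Modules.pullback i).obj (Twist.twistOver n S m)

/-- All fibres have the given Hilbert polynomial in all degrees. -/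
def PolyZ (Φ : Polynomial ℚ) (T : Over S) (F : (PicF.XT (i ≫ CohB1.ProjSpaceOver.toBase n S) T).Modules) : Prop :=
  ∀ (t : T.left) (m : ℤ),
    (FGA.eulerCharLE (T.left.residueField t) (FGA.fibreAt (i ≫ CohB1.ProjSpaceOver.toBase n S) T t).left
      (CohB1.tensorMod (FGA.restrFibre (i ≫ CohB1.ProjSpaceOver.toBase n S) T t F)
        (FGA.restrFibre (i ≫ CohB1.ProjSpaceOver.toBase n S) T t
          (FGA.ET (i ≫ CohB1.ProjSpaceOver.toBase n S) (OX i m) T))) n : ℚ) = Φ.eval (m : ℚ)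

variable [IsClosedImmersion i]

theorem isProper_comp_toBase : IsProper (i ≫ CohB1.ProjSpaceOver.toBase n S) := by
  haveI : IsProper (CohB1.ProjSpaceOver.toBase n S) := MorphismProperty.pullback_snd (P := @IsProper) _ _
    (inferInstanceAs (IsProper (CohB1.ProjSpace.toSpec n (ULift.{u} ℤ))))
  infer_instance

theorem isRelAmple_OX_one :
    RelAmple.IsRelAmple (i ≫ CohB1.ProjSpaceOver.toBase n S) (OX i 1) := by
  haveI : IsProper (CohB1.ProjSpaceOver.toBase n S) := MorphismProperty.pullback_snd (P := @IsProper) _ _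
    (inferInstanceAs (IsProper (CohB1.ProjSpace.toSpec n (ULift.{u} ℤ))))
  exact Groth.L18.Ample.isRelAmple_pullback_of_isInducing _ i i.isEmbedding.isInducing
    (Groth.L18.VeryAmpleOver.isRelAmple_twistOver n S)

theorem isInvertible_OX (m : ℤ) : PicF.IsInvertible (OX i m) :=
  Groth.L18.Ample.isInvertible_pullback _ (Groth.L17.Strat.isInvertible_twistOver n S m)

theorem exists_fibre_values {T : Over S} [IsLocallyNoetherian T.left] (d : ℕ)
    {F : (PicF.XT (i ≫ CohB1.ProjSpaceOver.toBase n S) T).Modules} (hF : Coh.IsCoh F) (t : T.left) :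
    ∃ P : (CohB1.ProjSpace n (T.left.residueField t)).Modules, Coh.IsCoh P ∧
      (∀ m : ℤ, FGA.eulerCharLE (T.left.residueField t) (FGA.fibreAt (i ≫ CohB1.ProjSpaceOver.toBase n S) T t).left
        (CohB1.tensorMod (FGA.restrFibre (i ≫ CohB1.ProjSpaceOver.toBase n S) T t F)
          (FGA.restrFibre (i ≫ CohB1.ProjSpaceOver.toBase n S) T t
            (FGA.ET (i ≫ CohB1.ProjSpaceOver.toBase n S) (OX i m) T))) n = chiP P m) ∧
      ∀ j : ℕ, fib (PicF.XTproj (i ≫ CohB1.ProjSpaceOver.toBase n S) T)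
        (FGA.ET (i ≫ CohB1.ProjSpaceOver.toBase n S) (OX i 1) T)
        (CohB1.tensorMod F (FGA.ET (i ≫ CohB1.ProjSpaceOver.toBase n S) (OX i (d : ℤ)) T)) t j =
          chiP P ((d : ℤ) + j) := by
  let f := i ≫ CohB1.ProjSpaceOver.toBase n S
  let k := T.left.residueField t
  let ι := (PicF.XTproj f T).fiberι t
  let hs := (PicF.XTproj f T).fiberToSpecResidueField t
  let p := pullback.fst f T.hom
  have sq : IsPullback (ι ≫ p) hs f (T.left.fromSpecResidueField t ≫ T.hom) :=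
    (IsPullback.of_hasPullback _ (T.left.fromSpecResidueField t)).paste_horiz (IsPullback.of_hasPullback f T.hom)
  obtain ⟨ik, hci, hks, hkm⟩ := exists_fibre_proj (k := T.left.residueField t) i sq
  haveI := hci
  letI : ((PicF.XTproj f T).fiber t).Over (Spec (CommRingCat.of (T.left.residueField t))) := ⟨hs⟩
  haveI := Groth.L22.Reg.isProper_over_proj (k := T.left.residueField t) (n := n)
  haveI : IsProper ((PicF.XTproj f T).fiber t ↘ Spec (CommRingCat.of (T.left.residueField t))) := by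
    show IsProper hs
    rw [← hks]
    haveI : IsProper (CohB1.ProjSpace.toSpec n (T.left.residueField t)) :=
      inferInstanceAs (IsProper (CohB1.ProjSpace n (T.left.residueField t) ↘ _))
    infer_instance
  haveI := Groth.L22.Reg.isLocallyNoetherian_closed ik
  haveI : CompactSpace ((PicF.XTproj f T).fiber t) :=
    QuasiCompact.compactSpace_of_compactSpace ((PicF.XTproj f T).fiber t ↘ Spec (CommRingCat.of (T.left.residueField t)))
  haveI : AlgebraicGeometry.IsNoetherian ((PicF.XTproj f T).fiber t) := {}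
  have hdim : topologicalKrullDim ((PicF.XTproj f T).fiber t) ≤ (n : WithBot ℕ∞) :=
    ik.isEmbedding.isInducing.topologicalKrullDim_le.trans (ProjSpace.topologicalKrullDim_eq_of_field n _).le
  let G := (Scheme.Modules.pullback ι).obj F
  have hG : Coh.IsCoh G := Groth.L19.LimMod.isCoh_pullback' ι hF
  have eO : ∀ m : ℤ, Nonempty ((Scheme.Modules.pullback ι).obj (FGA.ET f (OX i m) T) ≅
      (Scheme.Modules.pullback ik).obj (Twist.twistProjSpace n (T.left.residueField t) m)) := fun m => by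
    obtain ⟨e⟩ := nonempty_fibre_twist_iso i sq ik hkm m
    exact ⟨(Scheme.Modules.pullbackComp ι p).app _ ≪≫ e⟩
  refine ⟨(Coh.push ik).obj G, Groth.L22.Reg.isCoh_push_closed ik hG, fun m => ?_, fun j => ?_⟩
  · rw [Groth.L22.Reg.chiP_push ik hks hG]
    obtain ⟨e⟩ := eO m
    refine Eq.trans ?_ (Groth.L03.Euler.euler_iso (k := T.left.residueField t) (tensorIso (Iso.refl G) e))
    exact Groth.L22.Inter.eulerCharLE_eq (T.left.residueField t) hdim _
  · rw [Groth.L22.Reg.chiP_push ik hks hG]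
    obtain ⟨e1⟩ := eO 1
    obtain ⟨ed⟩ := eO d
    obtain ⟨ej⟩ := Groth.L22.Reg.nonempty_O_one_pow n (T.left.residueField t) j
    obtain ⟨ea⟩ := Groth.L22.Reg.nonempty_O_add (n := n) (R := T.left.residueField t)
      (show (d : ℤ) + (j : ℤ) = (d : ℤ) + j from rfl)
    refine Groth.L03.Euler.euler_iso (k := T.left.residueField t) ?_
    exact (Groth.L29.DC.PullTensor.pullTensor ι _ _).symm ≪≫
      tensorIso (Groth.L29.DC.PullTensor.pullTensor ι _ _).symm
        (Groth.L18.Ample.pullPow ι _ j ≪≫ tensorPowIso e1 j ≪≫ (Groth.L18.Ample.pullPow ik _ j).symm ≪≫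
          (Scheme.Modules.pullback ik).mapIso ej) ≪≫
      tensorAssoc _ _ _ ≪≫ tensorIso (Iso.refl G) (tensorIso ed (Iso.refl _) ≪≫
        Groth.L29.DC.PullTensor.pullTensor ik _ _ ≪≫ (Scheme.Modules.pullback ik).mapIso ea)

theorem polyZ_iff {T : Over S} [IsLocallyNoetherian T.left] (Φ : Polynomial ℚ) (d : ℕ)
    {F : (PicF.XT (i ≫ CohB1.ProjSpaceOver.toBase n S) T).Modules} (hF : Coh.IsCoh F) :
    PolyZ i Φ T F ↔ HasPoly (i ≫ CohB1.ProjSpaceOver.toBase n S) (OX i 1)
      (Φ.comp (Polynomial.X + Polynomial.C (d : ℚ))) T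
      (CohB1.tensorMod F (FGA.ET (i ≫ CohB1.ProjSpaceOver.toBase n S) (OX i (d : ℤ)) T)) := by
  refine forall_congr' fun t => ?_
  obtain ⟨P, hP, hZ, hN⟩ := exists_fibre_values i d hF t
  simp only [hZ, hN]
  refine ⟨fun h j => by rw [h]; simp [add_comm], fun h m => ?_⟩
  obtain ⟨e⟩ := Groth.L22.Reg.nonempty_tw_tw P (show (d : ℤ) + (m - d) = m by omega)
  have key := Groth.L22.Reg.chiP_eq_eval (Groth.L22.Reg.isCoh_tw hP (d : ℤ))
    (P := Φ.comp (Polynomial.X + Polynomial.C (d : ℚ))) (fun j => by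
      obtain ⟨e'⟩ := Groth.L22.Reg.nonempty_tw_tw P (show (d : ℤ) + (j : ℤ) = (d : ℤ) + j from rfl)
      refine Eq.trans ?_ (h j)
      rw [Groth.L22.Reg.chiP_eq, Groth.L22.Reg.chiP_eq]
      exact congrArg (Int.cast (R := ℚ)) (Groth.L03.Euler.euler_iso e')) (m - d)
  rw [Groth.L22.Reg.chiP_eq, Groth.L03.Euler.euler_iso e, ← Groth.L22.Reg.chiP_eq] at key
  rw [key]
  simp

theorem hasPoly_congr {T : Over S} {f : X ⟶ S} {L : X.Modules} {Φ : Polynomial ℚ}
    {F F' : (PicF.XT f T).Modules} (e : F ≅ F') (h : HasPoly f L Φ T F) : HasPoly f L Φ T F' := fun t j => by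
  refine Eq.trans ?_ (h t j)
  letI : ((PicF.XTproj f T).fiber t).Over (Spec (CommRingCat.of (T.left.residueField t))) :=
    ⟨(PicF.XTproj f T).fiberToSpecResidueField t⟩
  exact congrArg (Int.cast (R := ℚ)) (Groth.L03.Euler.euler_iso (k := T.left.residueField t)
    ((Scheme.Modules.pullback _).mapIso (tensorIso e.symm (Iso.refl _))))

theorem twQ_poly_iff {T : Over S} [IsLocallyNoetherian T.left] (E : X.Modules) (Φ : Polynomial ℚ) (d : ℕ)
    (K : FGA.QuotSet (i ≫ CohB1.ProjSpaceOver.toBase n S) E T) :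
    PolyZ i Φ T (cokernel K.1.arrow) ↔ HasPoly (i ≫ CohB1.ProjSpaceOver.toBase n S) (OX i 1)
      (Φ.comp (Polynomial.X + Polynomial.C (d : ℚ))) T
      (cokernel (Tw.twK (i ≫ CohB1.ProjSpaceOver.toBase n S) E (OX i (d : ℤ)) T K.1).arrow) := by
  rw [polyZ_iff i Φ d K.2.1]
  haveI := Tw.epi_twQ (i ≫ CohB1.ProjSpaceOver.toBase n S) E (OX i (d : ℤ)) T (cokernel.π K.1.arrow)
  obtain ⟨e, -⟩ := exists_iso_of_kernel_eq
    (Tw.twQ (i ≫ CohB1.ProjSpaceOver.toBase n S) E (OX i (d : ℤ)) T (cokernel.π K.1.arrow))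
    (cokernel.π (Tw.twK (i ≫ CohB1.ProjSpaceOver.toBase n S) E (OX i (d : ℤ)) T K.1).arrow)
    (kernelSubobject_cokernel_π _).symm
  exact ⟨hasPoly_congr e, hasPoly_congr e.symm⟩

/-- The scheme of quotients with Hilbert polynomial `Φ`. -/
theorem exists_quot_proj [IsNoetherian S] (E : X.Modules) (hE : Coh.IsCoh E) (p : ℕ) (ν : ℤ)
    (q : (∐ fun _ : Fin p => OX i ν) ⟶ E) [Epi q] (Φ : Polynomial ℚ) :
    ∃ (Q : Over S) (K : FGA.QuotSet (i ≫ CohB1.ProjSpaceOver.toBase n S) E Q),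
      IsLocallyNoetherian Q.left ∧ PolyZ i Φ Q (cokernel K.1.arrow) ∧
      (∀ (T : Over S) [IsLocallyNoetherian T.left] (K' : FGA.QuotSet (i ≫ CohB1.ProjSpaceOver.toBase n S) E T),
        PolyZ i Φ T (cokernel K'.1.arrow) →
          ∃! g : T ⟶ Q, FGA.quotPull (i ≫ CohB1.ProjSpaceOver.toBase n S) E g K.1 = K'.1) ∧
      ∃ (r : ℕ) (c : Q.left ⟶ CohB1.ProjSpaceOver r S),
        IsClosedImmersion c ∧ c ≫ CohB1.ProjSpaceOver.toBase r S = Q.hom := by
  let f := i ≫ CohB1.ProjSpaceOver.toBase n S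
  haveI := isProper_comp_toBase i
  haveI : IsLocallyNoetherian X := LocallyOfFiniteType.isLocallyNoetherian f
  obtain ⟨M, hM⟩ := Groth.L22.Reg.exists_kernel_bound.{u} n p (Φ.comp (Polynomial.X - Polynomial.C (ν : ℚ)))
  let d : ℕ := ((M : ℤ) - ν).toNat
  let D : ℕ := (ν + d).toNat
  have hD : (D : ℤ) = ν + d := by omega
  let Md := OX i (d : ℤ)
  let E' := CohB1.tensorMod E Md
  have hE' : Coh.IsCoh E' := Groth.L03.Euler.isCoh_tensor (isInvertible_OX i _) hE
  obtain ⟨ej⟩ := Groth.L17.Strat.nonempty_tensorPow_twistOver n S d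
  obtain ⟨ea⟩ := Groth.L17.Strat.nonempty_twistOver_add n S ν d
  let eS : OX i (D : ℤ) ≅ CohB1.tensorMod (OX i ν) Md :=
    eqToIso (congrArg (OX i) hD) ≪≫
      (Scheme.Modules.pullback i).mapIso (ea.symm ≪≫ tensorIso (Iso.refl _) ej) ≪≫
      (Groth.L29.DC.PullTensor.pullTensor i _ _).symm
  let P := tensorRightF Md
  haveI : PreservesColimitsOfSize.{u, u} P := inferInstance
  haveI : PreservesFiniteColimits P := PreservesColimitsOfSize.preservesFiniteColimits _
  let q₁ : FieldProj.AX n D p i ⟶ E' :=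
    ((Sigma.mapIso fun _ : Fin p => eS) ≪≫ (PreservesCoproduct.iso P (fun _ : Fin p => OX i ν)).symm).hom ≫ P.map q
  haveI : Epi q₁ := inferInstance
  let Φ' := Φ.comp (Polynomial.X + Polynomial.C (d : ℚ))
  have hΦ : Φ'.comp (Polynomial.X - Polynomial.C (D : ℚ)) = Φ.comp (Polynomial.X - Polynomial.C (ν : ℚ)) := by
    rw [Polynomial.comp_assoc]
    congr 1
    rw [show (D : ℚ) = (ν : ℚ) + (d : ℚ) by exact_mod_cast hD]
    simp
    ring
  have H := FieldProj.fieldHyp (i := i) q₁ Φ' M (by omega) (by rw [hΦ]; exact hM)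
  let N := FieldProj.num n D p
  let r := FieldProj.rk n D p Φ'
  have hrN : r ≤ N := min_le_right _ _
  haveI : Nonempty (Pl.Sub N (N - r)) := by
    obtain ⟨s, -, hs⟩ := Finset.exists_subset_card_eq (s := (Finset.univ : Finset (Fin N))) (n := N - r) (by simp)
    exact ⟨⟨s, hs⟩⟩
  obtain ⟨R, hR⟩ : ∃ R, Fintype.card (Pl.Sub N (N - r)) = R + 1 :=
    ⟨_, (Nat.succ_pred_eq_of_pos Fintype.card_pos).symm⟩
  obtain ⟨Q, c, K1, hQ, hc, hcQ, hK1, huniv⟩ := exists_quot_closed f (OX i 1) E' Φ' (FieldProj.eps q₁)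
    (((Fintype.equivFinOfCardEq hR).symm)) (isRelAmple_OX_one i) hE' (show r + (N - r) = N by omega) H
  haveI := hQ
  haveI := isLocallyNoetherian_XT (f := f) Q
  obtain ⟨K, hK⟩ := Tw.exists_twK_eq f E Md (isInvertible_OX i _) K1
  refine ⟨Q, K, hQ, (twQ_poly_iff i E Φ d K).2 (hK.symm ▸ hK1), fun T _ K' hK' => ?_, R, c, hc, hcQ⟩
  haveI := isLocallyNoetherian_XT (f := f) T
  obtain ⟨g, hg, huniq⟩ := huniv T ⟨_, Tw.twK_mem f E Md (isInvertible_OX i _) K'⟩ ((twQ_poly_iff i E Φ d K').1 hK')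
  refine ⟨g, ?_, fun g' hg' => huniq g' ?_⟩
  · apply Tw.twK_injective f E Md (isInvertible_OX i _) T
    rw [Tw.twK_quotPull, hK]
    exact hg
  · show FGA.quotPull f E' g' K1.1 = _
    rw [← hK, ← Tw.twK_quotPull, hg']

end Groth.L02.Quot
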