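import Groth.Agent.L17.ClosedPush
import Groth.Agent.L18.Frame
import Groth.Agent.L20.ModStalk
import Mathlib.LinearAlgebra.TensorProduct.Quotient

/-! The map of a stalk to the stalk of a pullback. -/

set_option autoImplicit false
set_option linter.style.haveILetI false
set_option backward.isDefEq.respectTransparency false
set_option backward.isDefEq.respectTransparency.types false

universe u

open CategoryTheory CategoryTheory.Limits AlgebraicGeometry Opposite TopologicalSpace TensorProduct

noncomputable section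

namespace Groth.L02.Quot

open Groth.L00.PullStalk

variable {X Y : Scheme.{u}} (f : X ⟶ Y) (M : Y.Modules) (x : X)

/-- A stalk to the stalk of the pullback, semilinearly. -/
def τ : M.presheaf.stalk (f x) →ₛₗ[φ f x] ((Scheme.Modules.pullback f).obj M).presheaf.stalk x where
  toFun q := ((stalkIso f x).inv.app M)
    ((ModuleCat.extendRestrictScalarsAdj (φ f x)).unit.app ((Groth.L00.Stk.F Y (f x)).obj M) q)
  map_add' a b := (congrArg _ (map_add
    (((ModuleCat.extendRestrictScalarsAdj (φ f x)).unit.app ((Groth.L00.Stk.F Y (f x)).obj M))).hom a b)).trans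
      (map_add ((stalkIso f x).inv.app M).hom _ _)
  map_smul' r a := (congrArg _ (map_smul
    (((ModuleCat.extendRestrictScalarsAdj (φ f x)).unit.app ((Groth.L00.Stk.F Y (f x)).obj M))).hom r a)).trans
      (map_smul ((stalkIso f x).inv.app M).hom (φ f x r) _)

theorem τ_germ {V : Y.Opens} (hx : f x ∈ V) (n : Γ(M, V)) :
    τ f M x (M.presheaf.germ V (f x) hx n) =
      ((Scheme.Modules.pullback f).obj M).presheaf.germ (f ⁻¹ᵁ V) x hx (Groth.L18.Frame.pull f M V n) := by
  have h := Groth.L17.ClosedPush.stalkIso_unit_germ f M x hx n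
  refine (congrArg ((stalkIso f x).inv.app M) h.symm).trans ?_
  exact congrArg (fun k => (ConcreteCategory.hom k)
    (((Scheme.Modules.pullback f).obj M).presheaf.germ (f ⁻¹ᵁ V) x hx (Groth.L18.Frame.pull f M V n)))
    ((stalkIso f x).hom_inv_id_app M)

theorem τ_natural {N : Y.Modules} (q : M ⟶ N) (z : M.presheaf.stalk (f x)) :
    (Groth.L00.Stk.F X x).map ((Scheme.Modules.pullback f).map q) (τ f M x z) =
      τ f N x ((Groth.L00.Stk.F Y (f x)).map q z) := by
  refine (congrArg (fun k => (ConcreteCategory.hom k) (((ModuleCat.extendRestrictScalarsAdj (φ f x)).unit.app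
    ((Groth.L00.Stk.F Y (f x)).obj M)) z)) ((stalkIso f x).inv.naturality q)).symm.trans ?_
  exact congrArg ((stalkIso f x).inv.app N) (congrArg (fun k => (ConcreteCategory.hom k) z)
    ((ModuleCat.extendRestrictScalarsAdj (φ f x)).unit.naturality ((Groth.L00.Stk.F Y (f x)).map q))).symm

/-- The image generates. -/
theorem span_range_τ : Submodule.span (X.presheaf.stalk x) (Set.range (τ f M x)) = ⊤ := by
  letI := (φ f x).toAlgebra
  let e := ((stalkIso f x).app M).toLinearEquiv
  refine eq_top_iff.2 fun z _ => ?_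
  obtain ⟨w, rfl⟩ := e.symm.surjective z
  change X.presheaf.stalk x ⊗[Y.presheaf.stalk (f x)] M.presheaf.stalk (f x) at w
  induction w using TensorProduct.induction_on with
  | zero => exact (map_zero e.symm).symm ▸ Submodule.zero_mem _
  | tmul a m =>
    have h : (show X.presheaf.stalk x ⊗[Y.presheaf.stalk (f x)] M.presheaf.stalk (f x) from a ⊗ₜ m) =
        a • ((1 : X.presheaf.stalk x) ⊗ₜ m) := by rw [TensorProduct.smul_tmul', smul_eq_mul, mul_one]
    refine ((congrArg e.symm h).trans (map_smul e.symm a _)).symm ▸ ?_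
    exact Submodule.smul_mem _ a (Submodule.subset_span ⟨m, rfl⟩)
  | add a b ha hb => exact (map_add e.symm a b).symm ▸ Submodule.add_mem _ (ha trivial) (hb trivial)

variable (hφ : Function.Surjective (φ f x))

include hφ in
theorem τ_surjective : Function.Surjective (τ f M x) := fun z => by
  letI := (φ f x).toAlgebra
  obtain ⟨q, hq⟩ := TensorProduct.mk_surjective (Y.presheaf.stalk (f x)) (M.presheaf.stalk (f x)) (X.presheaf.stalk x) hφ
    (((stalkIso f x).hom.app M) z)
  exact ⟨q, (congrArg ((stalkIso f x).inv.app M) hq).trans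
    (congrArg (fun k => (ConcreteCategory.hom k) z) ((stalkIso f x).hom_inv_id_app M))⟩

include hφ in
theorem τ_eq_zero_iff (z : M.presheaf.stalk (f x)) :
    τ f M x z = 0 ↔ z ∈ RingHom.ker (φ f x) • (⊤ : Submodule (Y.presheaf.stalk (f x)) (M.presheaf.stalk (f x))) := by
  letI := (φ f x).toAlgebra
  have h1 : τ f M x z = 0 ↔
      ((1 : X.presheaf.stalk x) ⊗ₜ z : X.presheaf.stalk x ⊗[Y.presheaf.stalk (f x)] M.presheaf.stalk (f x)) = 0 :=
    ⟨fun h => ((stalkIso f x).app M).toLinearEquiv.symm.injective (h.trans (map_zero _).symm),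
      fun h => (congrArg ((stalkIso f x).app M).toLinearEquiv.symm h).trans (map_zero _)⟩
  rw [h1]
  let I := RingHom.ker (Algebra.ofId (Y.presheaf.stalk (f x)) (X.presheaf.stalk x))
  let e₁ : (Y.presheaf.stalk (f x) ⧸ I) ≃ₐ[Y.presheaf.stalk (f x)] X.presheaf.stalk x :=
    Ideal.quotientKerAlgEquivOfSurjective (f := Algebra.ofId (Y.presheaf.stalk (f x)) (X.presheaf.stalk x)) hφ
  let E := (TensorProduct.congr e₁.toLinearEquiv.symm
    (LinearEquiv.refl (Y.presheaf.stalk (f x)) (M.presheaf.stalk (f x)))).trans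
      (TensorProduct.quotTensorEquivQuotSMul (M.presheaf.stalk (f x)) I)
  have hE : E ((1 : X.presheaf.stalk x) ⊗ₜ z) = Submodule.Quotient.mk z := by
    have : e₁.symm (1 : X.presheaf.stalk x) = Ideal.Quotient.mk I 1 := map_one e₁.symm
    show TensorProduct.quotTensorEquivQuotSMul _ I (e₁.symm 1 ⊗ₜ z) = _
    rw [this]
    simp
  rw [← E.map_eq_zero_iff, hE, Submodule.Quotient.mk_eq_zero]
  rfl

end Groth.L02.Quot
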