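import Groth.Agent.L17.Strat.Rk
import Groth.Agent.L15.FittFree
import Groth.Agent.L02.SchDom.ClosedLocus
import Groth.Agent.L19.LimMod.Zero
import Groth.Agent.L07.PrinParts.Mod
import Mathlib.AlgebraicGeometry.Morphisms.Immersion

/-!
# The locus where the pullback of a coherent module is locally free of a given rank

`isFinLocFreeOfRank_iff_fitt`: a quasi-coherent module of finite type is locally free of rank `r` iff its
Fitting ideals below `r` vanish and the `r`-th one is the unit ideal; `exists_rankLocus`.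
-/

set_option autoImplicit false
set_option linter.style.haveILetI false
set_option linter.unusedSectionVars false
set_option backward.isDefEq.respectTransparency false

universe u

open CategoryTheory CategoryTheory.Limits AlgebraicGeometry TopologicalSpace
open scoped TensorProduct

noncomputable section

namespace Groth.L02.Quot

variable {X : Scheme.{u}}

theorem isFinLocFreeOfRank_iff_fitt (M : X.Modules) (hM : Coh.IsCoh M) (r : ℕ) :
    FlatMod.IsFinLocFreeOfRank r M ↔
      (∀ k, k < r → Fitt.sheafIdeal M k = ⊥) ∧ ∀ x : X, x ∉ (Fitt.sheafIdeal M r).support := by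
  haveI := hM.1
  constructor
  · intro h
    choose U hxU hU using h
    have key : ∀ (x : X) (W : X.affineOpens), (W : X.Opens) ≤ U x → ∀ k,
        Fitt.ideal Γ(X, W.1) Γ(M, W.1) k = if r ≤ k then ⊤ else ⊥ := by
      intro x W hW k
      obtain ⟨i⟩ := hU x
      haveI : Epi i.inv := inferInstance
      obtain ⟨φ, hφ, hinj⟩ := Groth.L15.FittSheaf.exists_sections_of_free_hom M i.inv W.2 hW
      let e : (ULift.{u} (Fin r) →₀ Γ(X, W.1)) ≃ₗ[Γ(X, W.1)] Γ(M, W.1) :=
        LinearEquiv.ofBijective φ ⟨hinj inferInstance, hφ⟩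
      exact Groth.L13.Fitting.ideal_of_basis ((Module.Basis.ofRepr e.symm).reindex Equiv.ulift) k
    refine ⟨fun k hk => ?_, fun x hx => ?_⟩
    · refine Scheme.IdealSheafData.ext_of_iSup_eq_top
        (fun W : { W : X.affineOpens // ∃ x, (W : X.Opens) ≤ U x } => W.1) ?_ fun W => ?_
      · refine eq_top_iff.2 fun x _ => Opens.mem_iSup.2 ?_
        obtain ⟨_, ⟨W, hW, rfl⟩, hxW, hWU⟩ :=
          X.isBasis_affineOpens.exists_subset_of_mem_open (hxU x) (U x).2
        exact ⟨⟨⟨W, hW⟩, x, hWU⟩, hxW⟩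
      · obtain ⟨x, hW⟩ := W.2
        rw [Groth.L15.FittSheaf.sheafIdeal_ideal M hM.2, key x _ hW, if_neg (not_le.2 hk),
          Scheme.IdealSheafData.ideal_bot, Pi.bot_apply]
    · obtain ⟨_, ⟨W, hW, rfl⟩, hxW, hWU⟩ := X.isBasis_affineOpens.exists_subset_of_mem_open (hxU x) (U x).2
      rw [← not_not (a := x ∈ _)] at hx
      refine hx ((Groth.L15.FittSheaf.notMem_support_iff M hM.2 r (U := ⟨W, hW⟩) hxW).2 ?_)
      rw [key x ⟨W, hW⟩ hWU, if_pos le_rfl]
      exact fun h => ((IsAffineOpen.primeIdealOf hW ⟨x, hxW⟩).2.ne_top) (top_le_iff.1 h)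
  · rintro ⟨h0, h1⟩ x
    obtain ⟨W, hW, hxW, φ, hφ⟩ := Groth.L15.FittSheaf.exists_gens_of_notMem_support M hM.2 (h1 x)
    haveI := Groth.L20.ModStalk.finite_sections M hM hW
    let g : Fin r → Γ(M, W) := fun i => φ (Finsupp.single ⟨i⟩ 1)
    have hspan : Submodule.span Γ(X, W) (Set.range g) = ⊤ := by
      rw [eq_top_iff, ← LinearMap.range_eq_top.2 hφ]
      rintro _ ⟨c, rfl⟩
      induction c using Finsupp.induction_linear with
      | zero => simp
      | add a b ha hb => rw [map_add]; exact add_mem ha hb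
      | single i a =>
        rw [← mul_one a, ← smul_eq_mul, ← Finsupp.smul_single, map_smul]
        exact Submodule.smul_mem _ _ (Submodule.subset_span ⟨i.down, rfl⟩)
    have hli : LinearIndependent Γ(X, W) g := Groth.L13.Fitting.linearIndependent_of_bot g hspan fun k hk => by
      have h2 := congrArg (fun I : X.IdealSheafData => I.ideal ⟨W, hW⟩) (h0 k hk)
      simpa [Groth.L15.FittSheaf.sheafIdeal_ideal M hM.2] using h2
    have hinj : Function.Injective φ := by
      rw [← LinearMap.ker_eq_bot, eq_bot_iff]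
      intro c hc
      rw [Submodule.mem_bot]
      have h3 : φ c = ∑ i, c ⟨i⟩ • g i := by
        conv_lhs => rw [← Finsupp.univ_sum_single c]
        rw [map_sum, ← Equiv.ulift.symm.sum_comp]
        exact Finset.sum_congr rfl fun i _ => by
          simp only [g, ← map_smul, Finsupp.smul_single, smul_eq_mul, mul_one]; rfl
      have h4 := Fintype.linearIndependent_iff.1 hli (fun i => c ⟨i⟩) (h3.symm.trans hc)
      exact Finsupp.ext fun i => h4 i.down
    obtain ⟨π, -, hπ⟩ := Groth.L15.FittSheaf.exists_free_hom_of_sections M hW φ hφ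
    haveI := hπ hinj
    exact ⟨hW.fromSpec.opensRange, by rw [hW.opensRange_fromSpec]; exact hxW, ⟨(asIso π).symm⟩⟩

theorem comap_eq_bot_iff {Y : Scheme.{u}} (g : Y ⟶ X) (I : X.IdealSheafData) :
    I.comap g = ⊥ ↔ ∃ h, h ≫ I.subschemeι = g := by
  rw [Groth.L02.SchDom.exists_factor_iff_ker_le, Scheme.IdealSheafData.ker_subschemeι, ← le_bot_iff,
    ← Scheme.IdealSheafData.le_map_iff_comap_le, Scheme.IdealSheafData.map_bot]

/-- Fitting ideals of a pullback. -/
theorem sheafIdeal_pullback {T : Scheme.{u}} (g : T ⟶ X) (M : X.Modules) (hM : Coh.IsCoh M)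
    (hgM : Coh.IsCoh ((Scheme.Modules.pullback g).obj M)) (k : ℕ) :
    Fitt.sheafIdeal ((Scheme.Modules.pullback g).obj M) k = (Fitt.sheafIdeal M k).comap g := by
  haveI := hM.1
  haveI := hgM.1
  refine Scheme.IdealSheafData.ext_of_iSup_eq_top
    (fun W : { W : T.affineOpens // ∃ V : X.affineOpens, (W : T.Opens) ≤ g ⁻¹ᵁ V.1 } => W.1) ?_ fun W => ?_
  · refine eq_top_iff.2 fun t _ => Opens.mem_iSup.2 ?_
    obtain ⟨_, ⟨V, hV, rfl⟩, hxV, -⟩ := X.isBasis_affineOpens.exists_subset_of_mem_open (Set.mem_univ (g t)) isOpen_univ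
    obtain ⟨_, ⟨W, hW, rfl⟩, htW, hWV⟩ :=
      T.isBasis_affineOpens.exists_subset_of_mem_open (show t ∈ g ⁻¹ᵁ V from hxV) (g ⁻¹ᵁ V).2
    exact ⟨⟨⟨W, hW⟩, ⟨V, hV⟩, hWV⟩, htW⟩
  · obtain ⟨⟨V, hV⟩, hWV⟩ := W.2
    letI := (g.appLE V W.1.1 hWV).hom.toAlgebra
    haveI := Groth.L20.ModStalk.finite_sections M hM hV
    haveI := Groth.L20.ModStalk.finite_sections _ hgM W.1.2
    obtain ⟨e⟩ := Groth.L15.FittSheaf.exists_pullback_sections M g hV W.1.2 hWV
    rw [Groth.L15.FittSheaf.sheafIdeal_ideal _ hgM.2, Groth.L13.Fitting.ideal_congr e]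
    exact (Groth.L17.Strat.ideal_comap_chart hM hV W.1.2 hWV k).symm

theorem exists_rankLocus (M : X.Modules) (hM : Coh.IsCoh M) (hfp : CohB1.IsFP M) (r : ℕ) :
    ∃ (Z : Scheme.{u}) (e : Z ⟶ X), IsImmersion e ∧
      (∀ (T : Scheme.{u}) (g : T ⟶ X),
        FlatMod.IsFinLocFreeOfRank r ((Scheme.Modules.pullback g).obj M) ↔ ∃ g' : T ⟶ Z, g' ≫ e = g) ∧
      ((∀ x : X, x ∉ (Fitt.sheafIdeal M r).support) → IsClosedImmersion e) := by
  let I : X.IdealSheafData := ⨆ k : Fin r, Fitt.sheafIdeal M k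
  let O : X.Opens := ⟨((Fitt.sheafIdeal M r).support : Set X)ᶜ, (Fitt.sheafIdeal M r).support.isClosed.isOpen_compl⟩
  refine ⟨pullback I.subschemeι O.ι, pullback.fst _ _ ≫ I.subschemeι, inferInstance, fun T g => ?_, fun h => ?_⟩
  · have hgM : Coh.IsCoh ((Scheme.Modules.pullback g).obj M) := by
      haveI := hM.1
      exact ⟨Groth.L16.AffineBC.isQCoh_pullback g M,
        Groth.L19.LimMod.isFT_of_isFP (Groth.L07.PrinParts.isFP_pullback g hfp)⟩
    have hsupp : ∀ t : T, t ∈ (Fitt.sheafIdeal ((Scheme.Modules.pullback g).obj M) r).support ↔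
        g t ∈ (Fitt.sheafIdeal M r).support := fun t => by
      rw [sheafIdeal_pullback g M hM hgM, Scheme.IdealSheafData.support_comap]
      rfl
    rw [isFinLocFreeOfRank_iff_fitt _ hgM]
    constructor
    · rintro ⟨h0, h1⟩
      have hI : I.comap g = ⊥ := by
        rw [← le_bot_iff, ← Scheme.IdealSheafData.le_map_iff_comap_le]
        refine iSup_le fun k => ?_
        rw [Scheme.IdealSheafData.le_map_iff_comap_le, ← sheafIdeal_pullback g M hM hgM, h0 k k.2]
      obtain ⟨a, ha⟩ := (comap_eq_bot_iff g I).1 hI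
      have hO : Set.range g ⊆ Set.range O.ι := by
        rintro _ ⟨t, rfl⟩
        rw [Scheme.Opens.range_ι]
        exact fun ht => h1 t ((hsupp t).2 ht)
      obtain ⟨b, hb⟩ : ∃ b, b ≫ O.ι = g := ⟨IsOpenImmersion.lift O.ι g hO, IsOpenImmersion.lift_fac _ _ _⟩
      exact ⟨pullback.lift a b (ha.trans hb.symm), by rw [pullback.lift_fst_assoc, ha]⟩
    · rintro ⟨g', rfl⟩
      refine ⟨fun k hk => ?_, fun t ht => ?_⟩
      · rw [sheafIdeal_pullback _ M hM hgM, ← le_bot_iff]
        refine le_trans (Scheme.IdealSheafData.comap_mono _ (le_iSup (fun k : Fin r => Fitt.sheafIdeal M k) ⟨k, hk⟩)) ?_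
        exact le_of_eq ((comap_eq_bot_iff _ I).2 ⟨g' ≫ pullback.fst _ _, Category.assoc _ _ _⟩)
      · have h2 := (hsupp t).1 ht
        rw [pullback.condition, ← Category.assoc, Scheme.Hom.comp_apply] at h2
        have h3 : O.ι ((g' ≫ pullback.snd I.subschemeι O.ι) t) ∈ O :=
          ((g' ≫ pullback.snd I.subschemeι O.ι) t).2
        exact h3 h2
  · haveI : IsIso O.ι := by
      have hO : O = ⊤ := eq_top_iff.2 fun x _ => h x
      rw [hO]
      exact ⟨X.topIso.inv, X.topIso.hom_inv_id, X.topIso.inv_hom_id⟩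
    infer_instance

end Groth.L02.Quot
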