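import Groth.Agent.L02.Quot.H0Rank
import Groth.Agent.L17.BC.Bc0
import Groth.Agent.L17.BC.GenApply
import Groth.Agent.L15.Ref.FreeLocus
import Groth.Agent.L19.SupportPullback
import Mathlib.LinearAlgebra.Matrix.NonsingularInverse
import Mathlib.LinearAlgebra.Matrix.ToLin

/-!
# Plücker coordinates of a family of quotients near a point of the base
-/

set_option autoImplicit false
set_option linter.style.haveILetI false
set_option linter.unusedSectionVars false
set_option backward.isDefEq.respectTransparency false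
set_option backward.isDefEq.respectTransparency.types false

universe u

open CategoryTheory CategoryTheory.Limits AlgebraicGeometry TopologicalSpace Opposite

noncomputable section

namespace Groth.L02.Quot

open Groth.L18.Frame (rs ro rs_rs ro_ro rs_smul ro_self rs_self pull pull_rs pull_smul)

/-- An open of the spectrum of a field cut out by a non-zero function is everything, and conversely. -/
theorem basicOpen_eq_bot_of_eq_zero {X : Scheme.{u}} {U : X.Opens} {a : Γ(X, U)} (h : a = 0) : X.basicOpen a = ⊥ := by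
  rw [h, Scheme.basicOpen_zero]

variable {X S : Scheme.{u}} (f : X ⟶ S) [IsLocallyNoetherian S] [IsProper f] [LocallyOfFinitePresentation f]
  {E F : X.Modules} {N : ℕ} (ε : Fin N → Γ(E, ⊤)) (q : E ⟶ F)

/-- The hypotheses on a family of quotients. -/
structure RelHyp (r : ℕ) : Prop where
  epi : Epi q
  cohE : Coh.IsCoh E
  cohF : Coh.IsCoh F
  flat : FlatMod.IsFlatOver f F
  h1 : ∀ s, Subsingleton (CohIII.fiberH f F s 1)
  fibre : ∀ s, FieldOK (f.fiberToSpecResidueField s) (pullε ε (f.fiberι s))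
    ((Scheme.Modules.pullback (f.fiberι s)).map q) r

variable {f ε q} {r ρ : ℕ}

theorem fiber_w (s : S) : f.fiberι s ≫ f = f.fiberToSpecResidueField s ≫ S.fromSpecResidueField s := pullback.condition

theorem le_preimage_fromSpec {s : S} {U : S.Opens} (hs : s ∈ U) :
    (⊤ : (Spec (S.residueField s)).Opens) ≤ S.fromSpecResidueField s ⁻¹ᵁ U := by
  intro z _
  show S.fromSpecResidueField s z ∈ U
  rwa [Scheme.fromSpecResidueField_apply]

/-- Near every point the sections have a basis. -/
theorem exists_basis (h : RelHyp f ε q r) (s : S) :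
    ∃ U : S.Opens, s ∈ U ∧ IsAffineOpen U ∧ ∀ W : S.Opens, IsAffineOpen W → W ≤ U →
      Nonempty (Module.Basis (Fin r) Γ(S, W) (Sct f F W)) := by
  haveI := h.cohF.1
  haveI : IsLocallyNoetherian X := LocallyOfFiniteType.isLocallyNoetherian f
  haveI := Groth.L17.PushQCoh.hasInjectiveResolutions X
  obtain ⟨U, hsU, ⟨e⟩⟩ := Groth.L17.BC.exists_free_of_vanishing f F (Groth.L15.Ref.isFP_of_isCoh h.cohF) h.flat s 0
    (fun p hp => absurd hp (by omega)) (h.h1 s)
  obtain ⟨b⟩ := (h.fibre s).basis
  have hr : CohIII.fiberRank f F 0 s = r := finrank_of_basis (f.fiberToSpecResidueField s) _ b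
  rw [hr] at e
  obtain ⟨e0⟩ := Groth.L17.BC.Classes.nonempty_Rpush_zero_iso f F
  haveI : Coh.IsQCoh ((Scheme.Modules.pushforward f).obj F) := Groth.L16.QcqsPush.isQCoh_push F f
  let π : FlatMod.freeMod (U : Scheme.{u}) r ⟶ ((Scheme.Modules.pushforward f).obj F).restrict U.ι :=
    e.inv ≫ (Scheme.Modules.restrictFunctor U.ι).map e0.hom
  haveI : IsIso π := inferInstance
  obtain ⟨_, ⟨U', hU', rfl⟩, hsU', hU'U⟩ :=
    S.isBasis_affineOpens.exists_subset_of_mem_open hsU U.2
  refine ⟨U', hsU', hU', fun W hW hWU => ?_⟩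
  obtain ⟨φ, hφ, hφ'⟩ := Groth.L15.FittSheaf.exists_sections_of_free_hom _ π hW (hWU.trans hU'U)
  let L : (ULift.{u} (Fin r) →₀ Γ(S, W)) ≃ₗ[Γ(S, W)] Γ((Scheme.Modules.pushforward f).obj F, W) :=
    LinearEquiv.ofBijective φ ⟨hφ' inferInstance, hφ⟩
  let L' : Γ((Scheme.Modules.pushforward f).obj F, W) ≃ₗ[Γ(S, W)] Sct f F W :=
    { AddEquiv.refl (Γ(F, f ⁻¹ᵁ W)) with map_smul' := fun _ _ => rfl }
  exact ⟨(Module.Basis.ofRepr (L.trans L').symm).reindex Equiv.ulift⟩

/-- The inclusion of the coordinates outside a subset. -/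
def outC {A : Type u} [CommRing A] (s0 : Pl.Sub N ρ) : ({c : Fin N // c ∉ s0.1} → A) →ₗ[A] (Fin N → A) where
  toFun y c := if h : c ∉ s0.1 then y ⟨c, h⟩ else 0
  map_add' y y' := funext fun c => by simp only [Pi.add_apply]; split_ifs <;> simp
  map_smul' t y := funext fun c => by simp only [Pi.smul_apply, RingHom.id_apply]; split_ifs <;> simp

theorem outC_apply {A : Type u} [CommRing A] (s0 : Pl.Sub N ρ) (y : {c : Fin N // c ∉ s0.1} → A) (c : Fin N) :
    outC s0 y c = if h : c ∉ s0.1 then y ⟨c, h⟩ else 0 := rfl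

theorem outC_enum {A : Type u} [CommRing A] (s0 : Pl.Sub N ρ) (y : {c : Fin N // c ∉ s0.1} → A) (a : Fin ρ) :
    outC s0 y (Pl.enum s0 a) = 0 := dif_neg fun h => h ((Pl.mem_iff_enum s0).2 ⟨a, rfl⟩)

theorem card_compl_sub (hrρ : r + ρ = N) (s0 : Pl.Sub N ρ) : Fintype.card {c : Fin N // c ∉ s0.1} = r := by
  rw [Fintype.card_subtype_compl, Fintype.card_fin, Fintype.card_coe, s0.2]
  omega

/-- Near every point a complementary set of generators is a basis of the sections. -/
theorem exists_complement_basis (hrρ : r + ρ = N) (h : RelHyp f ε q r) (s : S) :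
    ∃ (U : S.Opens) (s0 : Pl.Sub N ρ), s ∈ U ∧ IsAffineOpen U ∧
      Function.Bijective (πL f ε q U ∘ₗ outC s0) := by
  classical
  obtain ⟨U, hsU, hU, hbasis⟩ := exists_basis h s
  obtain ⟨b⟩ := hbasis U hU le_rfl
  let g := f.fiberι s
  let fs := f.fiberToSpecResidueField s
  let u := S.fromSpecResidueField s
  let K := Γ(Spec (S.residueField s), ⊤)
  let eU := le_preimage_fromSpec (s := s) hsU
  let ψ : Γ(S, U) →+* K := (u.appLE U ⊤ eU).hom
  let P : Sct f F U → Sct fs ((Scheme.Modules.pullback g).obj F) ⊤ := fun z => pullS f fs g u (fiber_w s) eU z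
  let qs := (Scheme.Modules.pullback g).map q
  have hOK := h.fibre s
  obtain ⟨bs⟩ := hOK.basis
  let a : Fin N → Fin r → Γ(S, U) := fun i j => b.repr (πL f ε q U (Pi.single i 1)) j
  have ha : ∀ i, πL fs (pullε ε g) qs ⊤ (Pi.single i 1) = ∑ j, ψ (a i j) • P (b j) := by
    intro i
    have h1 : P (πL f ε q U (Pi.single i 1)) = πL fs (pullε ε g) qs ⊤ (Pi.single i 1) := by
      refine (pullS_πL f ε q fs g u (fiber_w s) eU _).trans (congrArg _ (funext fun c => ?_))
      by_cases hc : c = i
      · subst hc; simp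
      · simp [Pi.single_eq_of_ne hc]
    rw [← h1]
    let Pa : Sct f F U →+ Sct fs ((Scheme.Modules.pullback g).obj F) ⊤ := AddMonoidHom.mk' P (pullS_add f fs g u (fiber_w s) eU)
    conv_lhs => rw [← b.sum_repr (πL f ε q U (Pi.single i 1))]
    refine (map_sum Pa _ _).trans (Finset.sum_congr rfl fun j _ => ?_)
    exact pullS_smul f fs g u (fiber_w s) eU _ _
  let G : (Fin r → K) →ₗ[K] Sct fs ((Scheme.Modules.pullback g).obj F) ⊤ := Fintype.linearCombination K fun j => P (b j)
  let Ā : (Fin N → K) →ₗ[K] (Fin r → K) := Fintype.linearCombination K fun i => fun j => ψ (a i j)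
  have hfac : πL fs (pullε ε g) qs ⊤ = G ∘ₗ Ā := by
    refine (Pi.basisFun K (Fin N)).ext fun i => ?_
    rw [Pi.basisFun_apply, ha]
    simp [G, Ā, Fintype.linearCombination_apply]
  have hsurj : Function.Surjective (G ∘ₗ Ā) := hfac ▸ hOK.span
  have hG : Function.Surjective G := Function.Surjective.of_comp (f := G) (g := Ā) hsurj
  have hGi : Function.Injective G := by
    have h2 := OrzechProperty.injective_of_surjective_endomorphism
      (bs.equivFun.toLinearMap ∘ₗ G) (bs.equivFun.surjective.comp hG)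
    intro y y' hy
    exact h2 (congrArg bs.equivFun hy)
  have hĀ : Function.Surjective Ā := fun y => by
    obtain ⟨c, hc⟩ := hsurj (G y)
    exact ⟨c, hGi hc⟩
  letI : Field K := (σk (S.residueField s)).symm.toMulEquiv.isField (Field.toIsField _) |>.toField
  obtain ⟨s0, hs0⟩ := Pl.exists_complement hrρ Ā hĀ
  let C := {c : Fin N // c ∉ s0.1}
  let eC : C ≃ Fin r := Fintype.equivFinOfCardEq (card_compl_sub hrρ s0)
  let M : Matrix (Fin r) (Fin r) Γ(S, U) := Matrix.of fun i j => a (eC.symm i).1 j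
  have hdet : ψ M.det ≠ 0 := by
    intro h0
    rw [RingHom.map_det] at h0
    obtain ⟨y, hy0, hy⟩ := Matrix.exists_vecMul_eq_zero_iff.2 h0
    apply hy0
    have hsur : Function.Surjective (fun y : Fin r → K => Matrix.vecMul y (ψ.mapMatrix M)) := by
      intro w
      obtain ⟨z, hz⟩ := hs0 w
      refine ⟨fun i => z (eC.symm i), ?_⟩
      rw [← hz]
      funext j
      simp only [Matrix.vecMul, dotProduct, Ā, Fintype.linearCombination_apply, Finset.sum_apply, Pi.smul_apply,
        smul_eq_mul, RingHom.mapMatrix_apply, Matrix.map_apply, M, Matrix.of_apply]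
      refine (eC.symm.sum_comp (fun c : C => z c * ψ (a c.1 j))).trans ?_
      rw [← Finset.sum_filter_add_sum_filter_not Finset.univ (fun c : Fin N => c ∉ s0.1)]
      rw [show (∑ c ∈ Finset.univ.filter (fun c : Fin N => ¬ c ∉ s0.1),
        (if h : c ∉ s0.1 then z ⟨c, h⟩ else 0) * ψ (a c j)) = 0 from Finset.sum_eq_zero fun c hc => by
          rw [dif_neg (Finset.mem_filter.1 hc).2, zero_mul], add_zero]
      rw [Finset.sum_subtype (p := fun c => c ∉ s0.1) _ (fun c => by simp)]
      exact Finset.sum_congr rfl fun c _ => by rw [dif_pos c.2]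
    have h3 := OrzechProperty.injective_of_surjective_endomorphism (Matrix.vecMulLinear (ψ.mapMatrix M)) hsur
    exact h3 (hy.trans (map_zero _).symm)
  let U' := S.basicOpen M.det
  have hsU' : s ∈ U' := by
    by_contra hs'
    apply hdet
    have e1 : u ⁻¹ᵁ S.basicOpen M.det = ⊥ := le_bot_iff.1 fun z hz => hs' (by
      have : u z = s := Scheme.fromSpecResidueField_apply _ _
      exact this ▸ hz)
    have e2 : (Spec (S.residueField s)).basicOpen (ψ M.det) = ⊥ := by
      rw [show ψ M.det = (Spec (S.residueField s)).presheaf.map (homOfLE eU).op (u.app U M.det) from rfl,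
        Scheme.basicOpen_res, ← Scheme.preimage_basicOpen, e1, inf_bot_eq]
    by_contra hne
    have h4 : (Spec (S.residueField s)).basicOpen (ψ M.det) = ⊤ :=
      Scheme.basicOpen_of_isUnit _ (isUnit_iff_ne_zero.2 hne)
    rw [e2] at h4
    exact Set.notMem_empty (IsLocalRing.closedPoint (S.residueField s)) (by
      rw [← Opens.coe_bot, h4]; trivial)
  refine ⟨U', s0, hsU', hU.basicOpen M.det, ?_⟩
  haveI := h.cohF.1
  have hle : U' ≤ U := S.basicOpen_le _
  let φ := (S.presheaf.map (homOfLE hle).op).hom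
  have hu : IsUnit (φ M.det) := RingedSpace.isUnit_res_basicOpen S.toRingedSpace M.det
  let M' := φ.mapMatrix M
  have hu' : IsUnit M'.det := by
    rw [show M'.det = φ M.det from (RingHom.map_det φ M).symm]; exact hu
  let Y : Fin r → Sct f F U' := fun j => rsS f hle (b j)
  let p : C → Sct f F U' := fun c => πL f ε q U' (Pi.single c.1 1)
  have hp : ∀ c, p c = ∑ j, φ (a c.1 j) • Y j := by
    intro c
    have h1 : rsS f hle (πL f ε q U (Pi.single c.1 1)) = p c := by
      refine (rsS_πL f ε q hle _).trans (congrArg _ (funext fun d => ?_))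
      by_cases hd : d = c.1
      · subst hd; simp [Groth.L18.Frame.ro]
      · simp [Pi.single_eq_of_ne hd, Groth.L18.Frame.ro]
    rw [← h1]
    let Ra : Sct f F U →+ Sct f F U' := AddMonoidHom.mk' (rsS f hle) (rsS_add f hle)
    conv_lhs => rw [← b.sum_repr (πL f ε q U (Pi.single c.1 1))]
    refine (map_sum Ra _ _).trans (Finset.sum_congr rfl fun j _ => ?_)
    exact rsS_smul f hle _ _
  let J := πL f ε q U' ∘ₗ outC s0
  have hJ : ∀ z, J z = ∑ c, z c • p c := by
    intro z
    have : outC s0 z = ∑ c : C, z c • (Pi.single c.1 1 : Fin N → Γ(S, U')) := by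
      funext d
      rw [Finset.sum_apply]
      by_cases hd : d ∈ s0.1
      · rw [outC_apply, dif_neg (not_not.2 hd), Finset.sum_eq_zero fun c _ => by
          have : d ≠ c.1 := fun e => c.2 (e ▸ hd)
          simp [this]]
      · rw [outC_apply, dif_pos hd, Finset.sum_eq_single ⟨d, hd⟩ (fun c _ hc => by
          have : d ≠ c.1 := fun e => hc (Subtype.ext e.symm)
          simp [this]) (fun hh => absurd (Finset.mem_univ _) hh)]
        simp
    simp [J, this, p, map_sum]
    congr! 1
  have hYspan : ∀ j, Y j ∈ LinearMap.range J := by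
    intro j
    let B := M'⁻¹
    refine ⟨fun c => B j (eC c), ?_⟩
    rw [hJ]
    simp only [hp, Finset.smul_sum, smul_smul]
    rw [Finset.sum_comm]
    have key : ∀ l, ∑ c : C, B j (eC c) * φ (a c.1 l) = if j = l then 1 else 0 := by
      intro l
      have := congrFun (congrFun (Matrix.nonsing_inv_mul M' hu') j) l
      rw [Matrix.mul_apply, Matrix.one_apply] at this
      rw [← eC.symm.sum_comp]
      simpa [M', M, B] using this
    refine (Finset.sum_congr rfl fun l _ => (Finset.sum_smul).symm.trans (congrArg (· • Y l)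
      (Eq.trans (by congr! 1) (key l)))).trans ?_
    simp
  have hsurjJ : Function.Surjective J := by
    intro z
    have hc : IsCompact (f ⁻¹ᵁ U : Set X) := f.isCompact_preimage hU.isCompact
    have hq : IsQuasiSeparated (f ⁻¹ᵁ U : Set X) := f.isQuasiSeparated_preimage hU.isQuasiSeparated
    have eb : X.basicOpen (f.app U M.det) = f ⁻¹ᵁ U' := (Scheme.preimage_basicOpen f M.det).symm
    obtain ⟨n, t, ht⟩ := Groth.L16.QcqsPush.exists_pow_smul_eq_res F hc hq (f.app U M.det)
      (rs F eb.le (show Γ(F, f ⁻¹ᵁ U') from z))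
    have ht' : rsS f hle (show Sct f F U from t) = φ (M.det ^ n) • z := by
      have h1 := congrArg (rs F eb.ge) ht
      rw [rs_rs, rs_smul, rs_rs, rs_self, ro_ro] at h1
      refine h1.trans ?_
      refine congrArg (· • (show Γ(F, f ⁻¹ᵁ U') from z)) ?_
      rw [← map_pow]
      exact (ConcreteCategory.congr_hom (f.naturality (homOfLE hle).op) (M.det ^ n)).symm
    have hmem : rsS f hle (show Sct f F U from t) ∈ LinearMap.range J := by
      let Ra : Sct f F U →+ Sct f F U' := AddMonoidHom.mk' (rsS f hle) (rsS_add f hle)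
      rw [← b.sum_repr (show Sct f F U from t)]
      show Ra _ ∈ _
      rw [map_sum]
      refine Submodule.sum_mem _ fun j _ => ?_
      show rsS f hle _ ∈ _
      rw [rsS_smul]
      exact Submodule.smul_mem _ _ (hYspan j)
    rw [ht'] at hmem
    obtain ⟨v, hv⟩ := hu.pow n
    rw [map_pow, ← hv] at hmem
    simpa [smul_smul] using Submodule.smul_mem _ (↑v⁻¹ : Γ(S, U')) hmem
  refine ⟨?_, hsurjJ⟩
  obtain ⟨b'⟩ := hbasis U' (hU.basicOpen _) hle
  let e' : (C → Γ(S, U')) ≃ₗ[Γ(S, U')] Sct f F U' :=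
    (LinearEquiv.funCongrLeft Γ(S, U') Γ(S, U') eC.symm).trans b'.equivFun.symm
  have h3 := OrzechProperty.injective_of_surjective_endomorphism (e'.symm.toLinearMap ∘ₗ J) (e'.symm.surjective.comp hsurjJ)
  intro y y' hy
  exact h3 (congrArg e'.symm hy)

/-- Rows with unit minor killed by the quotient generate its kernel. -/
theorem genKerAtCongr [IsLocallyNoetherian X] (h : RelHyp f ε q r) {U : S.Opens} (s0 : Pl.Sub N ρ)
    (v : Fin ρ → Fin N → Γ(S, U)) (hv : ∀ l, v l ∈ combKer f ε q U)
    (hs : ∀ m a, v m (Pl.enum s0 a) = if m = a then 1 else 0) (hrρ : r + ρ = N) (s : S) (x : ↥(f.fiber s))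
    (hx : f.fiberι s x ∈ f ⁻¹ᵁ U) : GenKerAt q (fun l => comb f ε U (v l)) (f.fiberι s x) hx := by
  haveI := h.epi
  haveI := h.cohE.1
  have hsU : s ∈ U := by
    have h1 : f (f.fiberι s x) = s := by
      rw [← Scheme.Hom.comp_apply, fiber_w, Scheme.Hom.comp_apply, Scheme.fromSpecResidueField_apply]
    exact h1 ▸ hx
  refine genKerAt_of_fibre q _ f (fun z => Groth.L19.SupportPullback.finite_stalk E h.cohE z) h.flat hv s x hx ?_
  let g := f.fiberι s
  let fs := f.fiberToSpecResidueField s
  let u := S.fromSpecResidueField s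
  let eU := le_preimage_fromSpec (s := s) hsU
  let v' : Fin ρ → Fin N → Γ(Spec (S.residueField s), ⊤) := fun l i => u.appLE U ⊤ eU (v l i)
  haveI : Nontrivial Γ(Spec (S.residueField s), ⊤) := (σk (S.residueField s)).symm.toEquiv.nontrivial
  have hv' : ∀ l, v' l ∈ combKer fs (pullε ε g) ((Scheme.Modules.pullback g).map q) ⊤ := fun l =>
    map_pull_mem_combKer f ε q fs g u eU (fiber_w s) (hv l)
  have hs' : ∀ m a, v' m (Pl.enum s0 a) = if m = a then 1 else 0 := fun m a => by
    show u.appLE U ⊤ eU _ = _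
    rw [hs]; split_ifs
    · exact map_one _
    · exact map_zero _
  refine (FieldOK.ker_eq fs (pullε ε g) ((Scheme.Modules.pullback g).map q) hrρ (h.fibre s) v' hv' s0 hs').2 x |>.trans ?_
  show Submodule.span _ _ = Submodule.span _ _
  refine congrArg _ (congrArg Set.range (funext fun l => ?_))
  show _ = _
  refine (congrArg (fun z => ((Scheme.Modules.pullback g).obj E).presheaf.germ (fs ⁻¹ᵁ ⊤) x trivial z)
    (pull_comb f ε fs g u (fiber_w s) eU (v l)).symm).trans ?_
  exact TopCat.Presheaf.germ_res_apply _ _ _ _ _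

/-- Supported combinations killed by the quotient vanish. -/
theorem eq_zero_of_supported (h : RelHyp f ε q r) {U : S.Opens} (s0 : Pl.Sub N ρ) (hU : IsAffineOpen U)
    (hbij : Function.Bijective (πL f ε q U ∘ₗ outC s0)) {V : S.Opens} (hV : V ≤ U) (w : Fin N → Γ(S, V))
    (hw : w ∈ combKer f ε q V) (hws : ∀ a, w (Pl.enum s0 a) = 0) : w = 0 := by
  classical
  haveI := h.cohF.1
  funext i
  refine TopCat.Sheaf.eq_of_locally_eq' (X := S.toTopCat) ⟨S.presheaf, S.sheaf.2⟩
    (fun p : {a : Γ(S, U) // S.basicOpen a ≤ V} => S.basicOpen p.1) V (fun p => homOfLE p.2) ?_ _ _ fun p => ?_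
  · intro z hz
    obtain ⟨a, ha, hza⟩ := hU.exists_basicOpen_le ⟨z, hz⟩ (hV hz)
    exact Opens.mem_iSup.2 ⟨⟨a, ha⟩, hza⟩
  obtain ⟨a, ha⟩ := p
  show ro ha (w i) = ro ha (0 : Γ(S, V))
  rw [show ro ha (0 : Γ(S, V)) = 0 from map_zero _]
  let D := S.basicOpen a
  let w' : Fin N → Γ(S, D) := fun i => ro ha (w i)
  have hw' : w' ∈ combKer f ε q D := map_mem_combKer f ε q ha hw
  haveI := hU.isLocalization_basicOpen a
  obtain ⟨d, hd⟩ := IsLocalization.exist_integer_multiples_of_finite (Submonoid.powers a) w'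
  choose z hz using hd
  have hle : D ≤ U := S.basicOpen_le a
  let z' : Fin N → Γ(S, U) := fun i => if i ∈ s0.1 then 0 else z i
  have hz' : ∀ i, ro hle (z' i) = ro hle d.1 * w' i := fun i => by
    simp only [z']
    split_ifs with hi
    · obtain ⟨m, rfl⟩ := (Pl.mem_iff_enum s0).1 hi
      rw [show w' (Pl.enum s0 m) = 0 by simp [w', hws m], mul_zero]
      exact map_zero _
    · exact (hz i).trans (Algebra.smul_def _ _)
  have h1 : rsS f hle (πL f ε q U z') = 0 := by
    rw [rsS_πL, show (fun i => ro hle (z' i)) = ro hle d.1 • w' from funext fun i => hz' i, map_smul]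
    rw [(mem_combKer' f ε q).1 hw', smul_zero]
  have eb : X.basicOpen (f.app U a) = f ⁻¹ᵁ D := (Scheme.preimage_basicOpen f a).symm
  obtain ⟨n, hn⟩ := Groth.L16.QcqsPush.exists_pow_smul_eq_zero F (f.isCompact_preimage hU.isCompact) (f.app U a)
    (show Γ(F, f ⁻¹ᵁ U) from πL f ε q U z') (by
      have h2 := congrArg (rs F eb.le) h1
      exact (rs_rs F _ _ _).symm.trans (h2.trans (map_zero _)))
  have h3 : a ^ n • z' = 0 := by
    have h4 : (fun c : {c : Fin N // c ∉ s0.1} => (a ^ n • z') c.1) = 0 := hbij.1 (by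
      rw [map_zero, LinearMap.comp_apply]
      have e : outC s0 (fun c : {c : Fin N // c ∉ s0.1} => (a ^ n • z') c.1) = a ^ n • z' := funext fun c => by
        rw [outC_apply]
        split_ifs with hc
        all_goals first | rfl | simp [z', hc]
      rw [e, map_smul]
      refine Eq.trans ?_ hn
      exact congrArg (· • (show Γ(F, f ⁻¹ᵁ U) from πL f ε q U z')) (map_pow (f.app U).hom a n))
    funext c
    by_cases hc : c ∈ s0.1
    · simp [z', hc]
    · exact congrFun h4 ⟨c, hc⟩
  have hua : IsUnit (ro hle a) := RingedSpace.isUnit_res_basicOpen S.toRingedSpace a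
  have hud : IsUnit (ro hle d.1) := by
    obtain ⟨k, hk⟩ := d.2
    rw [← show a ^ k = d.1 from hk]
    show IsUnit ((S.presheaf.map (homOfLE hle).op).hom (a ^ k))
    rw [map_pow]; exact hua.pow k
  have h5 : ro hle (a ^ n) * (ro hle d.1 * w' i) = 0 := by
    rw [← hz', ← Groth.L18.Frame.ro_mul, show a ^ n * z' i = 0 from congrFun h3 i]
    exact map_zero _
  show w' i = 0
  refine (hud.mul_right_eq_zero).1 ((IsUnit.mul_right_eq_zero ?_).1 h5)
  show IsUnit ((S.presheaf.map (homOfLE hle).op).hom (a ^ n))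
  rw [map_pow]; exact hua.pow n

/-- Near every point the Plücker coordinates of the killed combinations exist and generate the kernel. -/
theorem exists_chart (hrρ : r + ρ = N) (h : RelHyp f ε q r) (s : S) :
    ∃ (U : S.Opens) (t : Pl.Sub N ρ → Γ(S, U)) (s0 : Pl.Sub N ρ), s ∈ U ∧ IsAffineOpen U ∧ t s0 = 1 ∧
      (∀ J l, Pl.vv t J l ∈ combKer f ε q U) ∧
      (∀ (x : X) (hx : x ∈ f ⁻¹ᵁ U), GenKerAt q (fun l => comb f ε U (Pl.vv t (Pl.enum s0) l)) x hx) ∧
      ∀ (V : S.Opens) (hV : V ≤ U) (c : Fin N → Γ(S, V)), c ∈ combKer f ε q V →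
        c = ∑ m, c (Pl.enum s0 m) • fun i => ro hV (Pl.vv t (Pl.enum s0) m i) := by
  classical
  obtain ⟨U, s0, hsU, hU, hbij⟩ := exists_complement_basis hrρ h s
  choose y hy using fun l : Fin ρ => hbij.2 (πL f ε q U (Pi.single (Pl.enum s0 l) 1))
  let v : Fin ρ → Fin N → Γ(S, U) := fun l => Pi.single (Pl.enum s0 l) 1 - outC s0 (y l)
  have hv : ∀ l, v l ∈ combKer f ε q U := fun l => by
    rw [mem_combKer' f ε q, map_sub, sub_eq_zero]
    exact (hy l).symm
  have hs : ∀ m a, v m (Pl.enum s0 a) = if m = a then 1 else 0 := fun m a => by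
    simp only [v, Pi.sub_apply, outC_enum, sub_zero, Pi.single_apply, (Pl.enum_injective s0).eq_iff]
    exact if_congr eq_comm rfl rfl
  let t := Pl.Pl v
  have htv : Pl.vv t (Pl.enum s0) = v := funext fun l => Pl.vv_Pl_enum v s0 hs l
  have ht1 : t s0 = 1 := by
    show (Matrix.of fun a b => v a (Pl.enum s0 b)).det = 1
    rw [show (Matrix.of fun a b => v a (Pl.enum s0 b)) = 1 from Matrix.ext fun a b => by
      simp [hs, Matrix.one_apply], Matrix.det_one]
  refine ⟨U, t, s0, hsU, hU, ht1, fun J l => ?_, ?_, ?_⟩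
  · exact (Submodule.span_le.2 (by rintro _ ⟨a, rfl⟩; exact hv a)) (Pl.vv_Pl_mem_span v J l)
  · rw [htv]
    intro x hx
    haveI : IsLocallyNoetherian X := LocallyOfFiniteType.isLocallyNoetherian f
    have key : ∀ (x' : X) (hx' : x' ∈ f ⁻¹ᵁ U), x' = x → GenKerAt q (fun l => comb f ε U (v l)) x' hx' →
        GenKerAt q (fun l => comb f ε U (v l)) x hx := by
      rintro _ _ rfl h'; exact h'
    have hx' : f.fiberι (f x) (f.asFiber x) ∈ f ⁻¹ᵁ U := by rw [f.fiberι_asFiber x]; exact hx
    exact key _ hx' (f.fiberι_asFiber x) (genKerAtCongr h s0 v hv hs hrρ _ (f.asFiber x) hx')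
  · intro V hV c hc
    rw [htv]
    let w : Fin N → Γ(S, V) := c - ∑ m, c (Pl.enum s0 m) • fun i => ro hV (v m i)
    have hsV : ∀ m a, ro hV (v m (Pl.enum s0 a)) = if m = a then (1 : Γ(S, V)) else 0 := fun m a => by
      rw [hs]; split_ifs
      · exact map_one _
      · exact map_zero _
    have hwk : w ∈ combKer f ε q V :=
      Submodule.sub_mem _ hc (Submodule.sum_mem _ fun m _ => Submodule.smul_mem _ _ (map_mem_combKer f ε q hV (hv m)))
    have hws : ∀ a, w (Pl.enum s0 a) = 0 := fun a => by simp [w, Finset.sum_apply, hsV]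
    have hw0 : w = 0 := eq_zero_of_supported h s0 hU hbij hV w hwk hws
    exact sub_eq_zero.1 hw0

end Groth.L02.Quot
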