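import Groth.Agent.L02.Quot.Setup
import Groth.Agent.L17.Approx.Pull
import Groth.Agent.L19.ProjBdl.PullComp
import Groth.Agent.L16.Exist.FormalSect

/-!
# Sections over preimages, as modules over the functions of the base, and fibre conditions
-/

set_option autoImplicit false
set_option linter.style.haveILetI false
set_option linter.unusedSectionVars false
set_option backward.isDefEq.respectTransparency false
set_option backward.isDefEq.respectTransparency.types false

universe u

open CategoryTheory CategoryTheory.Limits AlgebraicGeometry TopologicalSpace Opposite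

noncomputable section

namespace Groth.L02.Quot

open Groth.L18.Frame (rs ro rs_rs ro_ro rs_smul ro_self rs_self pull pull_rs pull_smul)
open Groth.L16.EpiFrames (app_rs)

variable {X S : Scheme.{u}} (f : X ⟶ S)

/-- Sections over the preimage of an open of the base. -/
def Sct (_f : X ⟶ S) (F : X.Modules) (U : S.Opens) : Type u := Γ(F, _f ⁻¹ᵁ U)

instance (F : X.Modules) (U : S.Opens) : AddCommGroup (Sct f F U) := inferInstanceAs (AddCommGroup Γ(F, f ⁻¹ᵁ U))

instance (F : X.Modules) (U : S.Opens) : Module Γ(S, U) (Sct f F U) := Module.compHom Γ(F, f ⁻¹ᵁ U) (f.app U).hom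

variable {E F : X.Modules} {N : ℕ} (ε : Fin N → Γ(E, ⊤)) (q : E ⟶ F)

/-- The image of a combination. -/
def πL (U : S.Opens) : (Fin N → Γ(S, U)) →ₗ[Γ(S, U)] Sct f F U where
  toFun c := q.app (f ⁻¹ᵁ U) (comb f ε U c)
  map_add' a b := (congrArg (q.app (f ⁻¹ᵁ U)) (comb_add f ε U a b)).trans (map_add _ _ _)
  map_smul' a c := (congrArg (q.app (f ⁻¹ᵁ U)) (comb_smul f ε U a c)).trans (Scheme.Modules.Hom.app_smul q _ _)

theorem mem_combKer' {U : S.Opens} {c : Fin N → Γ(S, U)} : c ∈ combKer f ε q U ↔ πL f ε q U c = 0 := Iff.rfl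

theorem combKer_eq_ker (U : S.Opens) : combKer f ε q U = LinearMap.ker (πL f ε q U) := rfl

/-- Restriction of sections. -/
def rsS {U V : S.Opens} (h : V ≤ U) (z : Sct f F U) : Sct f F V := rs F (f.preimage_mono h) z

theorem rsS_add {U V : S.Opens} (h : V ≤ U) (z z' : Sct f F U) : rsS f h (z + z') = rsS f h z + rsS f h z' :=
  map_add _ _ _

theorem rsS_zero {U V : S.Opens} (h : V ≤ U) : rsS f h (0 : Sct f F U) = 0 := map_zero _

theorem rsS_smul {U V : S.Opens} (h : V ≤ U) (a : Γ(S, U)) (z : Sct f F U) :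
    rsS f h (a • z) = ro h a • rsS f h z := by
  refine (rs_smul F (f.preimage_mono h) (f.app U a) z).trans ?_
  exact congrArg (· • (rs F (f.preimage_mono h) z)) (ConcreteCategory.congr_hom (f.naturality (homOfLE h).op) a).symm

theorem rsS_πL {U V : S.Opens} (h : V ≤ U) (c : Fin N → Γ(S, U)) :
    rsS f h (πL f ε q U c) = πL f ε q V (fun i => ro h (c i)) :=
  (app_rs q (f.preimage_mono h) _).symm.trans (congrArg (q.app (f ⁻¹ᵁ V)) (comb_rs f ε h c))

/-- What is asked of a quotient on a fibre (over the spectrum of a field). -/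
structure FieldOK (r : ℕ) : Prop where
  basis : Nonempty (Module.Basis (Fin r) Γ(S, ⊤) (Sct f F ⊤))
  span : Function.Surjective (πL f ε q ⊤)
  gen : ∀ x : X, GenKerAt q (fun c : combKer f ε q ⊤ => comb f ε ⊤ c.1) x (show x ∈ f ⁻¹ᵁ ⊤ from trivial)

variable {X' S' : Scheme.{u}} (f' : X' ⟶ S') (g : X' ⟶ X) (u : S' ⟶ S) (w : g ≫ f = f' ≫ u)

/-- The pulled back generators. -/
abbrev pullε : Fin N → Γ((Scheme.Modules.pullback g).obj E, ⊤) := fun i => pull g E ⊤ (ε i)

/-- Pullback of sections over preimages. -/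
def pullS {U : S.Opens} {V : S'.Opens} (hV : V ≤ u ⁻¹ᵁ U) (z : Sct f F U) :
    Sct f' ((Scheme.Modules.pullback g).obj F) V :=
  rs ((Scheme.Modules.pullback g).obj F) (preimage_le f f' g u hV w) (pull g F (f ⁻¹ᵁ U) z)

theorem pullS_add {U : S.Opens} {V : S'.Opens} (hV : V ≤ u ⁻¹ᵁ U) (z z' : Sct f F U) :
    pullS f f' g u w hV (z + z') = pullS f f' g u w hV z + pullS f f' g u w hV z' :=
  (congrArg (rs _ (preimage_le f f' g u hV w))
    (map_add (((Scheme.Modules.pullbackPushforwardAdjunction g).unit.app F).app (f ⁻¹ᵁ U)).hom z z')).trans (map_add _ _ _)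

theorem pullS_zero {U : S.Opens} {V : S'.Opens} (hV : V ≤ u ⁻¹ᵁ U) : pullS f f' g u w hV (0 : Sct f F U) = 0 :=
  (congrArg (rs _ (preimage_le f f' g u hV w))
    (map_zero (((Scheme.Modules.pullbackPushforwardAdjunction g).unit.app F).app (f ⁻¹ᵁ U)).hom)).trans (map_zero _)

theorem pullS_πL {U : S.Opens} {V : S'.Opens} (hV : V ≤ u ⁻¹ᵁ U) (c : Fin N → Γ(S, U)) :
    pullS f f' g u w hV (πL f ε q U c) =
      πL f' (pullε ε g) ((Scheme.Modules.pullback g).map q) V (fun i => u.appLE U V hV (c i)) := by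
  refine (congrArg (rs _ (preimage_le f f' g u hV w)) (Groth.L17.Approx.app_pull g q _ _).symm).trans ?_
  refine (app_rs ((Scheme.Modules.pullback g).map q) (preimage_le f f' g u hV w) _).symm.trans ?_
  exact congrArg (((Scheme.Modules.pullback g).map q).app (f' ⁻¹ᵁ V)) (pull_comb f ε f' g u w hV c)

theorem pullS_smul {U : S.Opens} {V : S'.Opens} (hV : V ≤ u ⁻¹ᵁ U) (a : Γ(S, U)) (z : Sct f F U) :
    pullS f f' g u w hV (a • z) = u.appLE U V hV a • pullS f f' g u w hV z := by
  refine (congrArg (rs _ (preimage_le f f' g u hV w)) (pull_smul g F (f.app U a) z)).trans ?_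
  refine (rs_smul _ (preimage_le f f' g u hV w) _ _).trans ?_
  refine congrArg (· • (rs ((Scheme.Modules.pullback g).obj F) (preimage_le f f' g u hV w) (pull g F (f ⁻¹ᵁ U) z))) ?_
  have e : ∀ (k : X' ⟶ S) (hk : k = f' ≫ u) (hle : f' ⁻¹ᵁ V ≤ k ⁻¹ᵁ U),
      k.app U ≫ X'.presheaf.map (homOfLE hle).op = u.appLE U V hV ≫ f'.app V := by
    rintro _ rfl hle
    rw [Scheme.Hom.app_eq_appLE f', Scheme.Hom.appLE_comp_appLE]
    rfl
  exact ConcreteCategory.congr_hom (e _ w (preimage_le f f' g u hV w)) a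

/-- Pulled back combinations killed by the pulled back morphism. -/
theorem map_pull_mem_combKer {U : S.Opens} {V : S'.Opens} (hV : V ≤ u ⁻¹ᵁ U) (w' : g ≫ f = f' ≫ u) {c : Fin N → Γ(S, U)}
    (hc : c ∈ combKer f ε q U) :
    (fun i => u.appLE U V hV (c i)) ∈ combKer f' (pullε ε g) ((Scheme.Modules.pullback g).map q) V := by
  rw [mem_combKer' f' (pullε ε g), ← pullS_πL f ε q f' g u w' hV c, (mem_combKer' f ε q).1 hc]
  exact pullS_zero f f' g u w' hV

/-- Germs of combinations are linear in the coefficients. -/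
theorem germ_comb_mem {U : S.Opens} {ι : Type*} (v : ι → Fin N → Γ(S, U)) {c : Fin N → Γ(S, U)}
    (hc : c ∈ Submodule.span Γ(S, U) (Set.range v)) (x : X) (hx : x ∈ f ⁻¹ᵁ U) :
    E.presheaf.germ (f ⁻¹ᵁ U) x hx (comb f ε U c) ∈ spanGerm (fun l => comb f ε U (v l)) x hx := by
  refine Submodule.span_induction (fun y hy => ?_) ?_ (fun y y' _ _ h h' => ?_) (fun a y _ h => ?_) hc
  · obtain ⟨l, rfl⟩ := hy
    exact Submodule.subset_span ⟨l, rfl⟩
  · rw [comb_zero, map_zero]; exact Submodule.zero_mem _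
  · rw [comb_add, map_add]; exact Submodule.add_mem _ h h'
  · rw [comb_smul, Groth.L20.ModStalk.germ_smul E hx]
    exact Submodule.smul_mem _ _ h

/-- On a field, rows with unit minor killed by the quotient generate the killed combinations and the kernel. -/
theorem FieldOK.ker_eq {r ρ : ℕ} (hr : r + ρ = N) [Nontrivial Γ(S, ⊤)] (h : FieldOK f ε q r)
    (v : Fin ρ → Fin N → Γ(S, ⊤)) (hv : ∀ l, v l ∈ combKer f ε q ⊤) (s : Pl.Sub N ρ)
    (hs : ∀ m a, v m (Pl.enum s a) = if m = a then 1 else 0) :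
    combKer f ε q ⊤ = Submodule.span _ (Set.range v) ∧
      ∀ x : X, GenKerAt q (fun l => comb f ε ⊤ (v l)) x (show x ∈ f ⁻¹ᵁ ⊤ from trivial) := by
  obtain ⟨b⟩ := h.basis
  have h1 : combKer f ε q ⊤ = Submodule.span _ (Set.range v) :=
    Pl.ker_eq_span hr b (πL f ε q ⊤) h.span v hv s hs
  refine ⟨h1, fun x => ?_⟩
  refine le_antisymm ((h.gen x).le.trans (Submodule.span_le.2 ?_)) (spanGerm_le_ker q _ hv x _)
  rintro _ ⟨c, rfl⟩
  exact germ_comb_mem f ε v (h1 ▸ c.2) x trivial

end Groth.L02.Quot
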