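import Groth.Agent.L02.Quot.Pl
import Groth.Agent.L02.Quot.GenKer
import Groth.Agent.L17.BC.GenApply
import Groth.Agent.L15.FittFree
import Groth.Agent.L15.Ref.FreeLocus
import Groth.Agent.L16.QcqsPush
import Groth.Agent.L21.RR.Finite
import Groth.Agent.L16.EpiFrames
import Mathlib.AlgebraicGeometry.Morphisms.FinitePresentation

/-!
# Linear combinations of chosen sections and their base change
-/

set_option autoImplicit false
set_option linter.style.haveILetI false
set_option linter.unusedSectionVars false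
set_option backward.isDefEq.respectTransparency false

universe u

open CategoryTheory CategoryTheory.Limits AlgebraicGeometry TopologicalSpace Opposite

noncomputable section

namespace Groth.L02.Quot

open Groth.L18.Frame (rs ro rs_rs ro_ro rs_smul ro_self rs_self pull pull_rs pull_smul)
open Groth.L16.EpiFrames (app_rs)

variable {X S : Scheme.{u}} (f : X ⟶ S) {E F : X.Modules} {N : ℕ} (ε : Fin N → Γ(E, ⊤))

/-- Linear combinations with coefficients in functions of the base. -/
def comb (U : S.Opens) (c : Fin N → Γ(S, U)) : Γ(E, f ⁻¹ᵁ U) := ∑ i, f.app U (c i) • rs E le_top (ε i)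

theorem app_rs' (q : E ⟶ F) {V : X.Opens} (i : Fin N) :
    q.app V (rs E le_top (ε i)) = rs F le_top (q.app ⊤ (ε i)) := app_rs q le_top (ε i)

theorem app_comb (q : E ⟶ F) (U : S.Opens) (c : Fin N → Γ(S, U)) :
    q.app (f ⁻¹ᵁ U) (comb f ε U c) = comb f (fun i => q.app ⊤ (ε i)) U c := by
  simp only [comb, map_sum, Scheme.Modules.Hom.app_smul, app_rs']

theorem comb_add (U : S.Opens) (c d : Fin N → Γ(S, U)) : comb f ε U (c + d) = comb f ε U c + comb f ε U d := by
  simp only [comb, Pi.add_apply, map_add, add_smul, Finset.sum_add_distrib]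

theorem comb_smul (U : S.Opens) (a : Γ(S, U)) (c : Fin N → Γ(S, U)) :
    comb f ε U (a • c) = f.app U a • comb f ε U c := by
  simp only [comb, Pi.smul_apply, smul_eq_mul, map_mul, mul_smul, Finset.smul_sum]

theorem comb_zero (U : S.Opens) : comb f ε U 0 = 0 := by
  simp only [comb, Pi.zero_apply, map_zero, zero_smul, Finset.sum_const_zero]

theorem comb_single (U : S.Opens) (i : Fin N) : comb f ε U (Pi.single i 1) = rs E le_top (ε i) := by
  rw [comb, Finset.sum_eq_single i (fun j _ hj => by rw [Pi.single_eq_of_ne hj, map_zero, zero_smul])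
    (fun h => absurd (Finset.mem_univ i) h), Pi.single_eq_same, map_one, one_smul]

theorem comb_rs {U V : S.Opens} (h : V ≤ U) (c : Fin N → Γ(S, U)) :
    rs E (f.preimage_mono h) (comb f ε U c) = comb f ε V (fun i => ro h (c i)) := by
  simp only [comb, map_sum]
  refine Finset.sum_congr rfl fun i _ => ?_
  refine (rs_smul E (f.preimage_mono h) _ _).trans ?_
  rw [rs_rs]
  exact congrArg (· • _) (ConcreteCategory.congr_hom (f.naturality (homOfLE h).op) (c i)).symm

/-- The combinations killed by a morphism. -/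
def combKer (q : E ⟶ F) (U : S.Opens) : Submodule Γ(S, U) (Fin N → Γ(S, U)) where
  carrier := {c | q.app (f ⁻¹ᵁ U) (comb f ε U c) = 0}
  add_mem' {a b} ha hb := by
    show q.app _ _ = 0
    rw [comb_add, map_add, ha, hb, add_zero]
  zero_mem' := by
    show q.app _ _ = 0
    rw [comb_zero, map_zero]
  smul_mem' a c hc := by
    show q.app _ _ = 0
    rw [comb_smul, Scheme.Modules.Hom.app_smul, hc, smul_zero]

theorem mem_combKer {q : E ⟶ F} {U : S.Opens} {c : Fin N → Γ(S, U)} :
    c ∈ combKer f ε q U ↔ q.app (f ⁻¹ᵁ U) (comb f ε U c) = 0 := Iff.rfl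

theorem map_mem_combKer (q : E ⟶ F) {U V : S.Opens} (h : V ≤ U) {c : Fin N → Γ(S, U)} (hc : c ∈ combKer f ε q U) :
    (fun i => ro h (c i)) ∈ combKer f ε q V := by
  rw [mem_combKer f ε, ← comb_rs f ε h, app_rs, (mem_combKer f ε).1 hc]
  exact map_zero _

variable {X' S' : Scheme.{u}} (f' : X' ⟶ S') (g : X' ⟶ X) (u : S' ⟶ S) (w : g ≫ f = f' ≫ u)

theorem preimage_le {U : S.Opens} {V : S'.Opens} (hV : V ≤ u ⁻¹ᵁ U) (w : g ≫ f = f' ≫ u) :
    f' ⁻¹ᵁ V ≤ g ⁻¹ᵁ (f ⁻¹ᵁ U) := by
  rw [← Scheme.Hom.comp_preimage, w, Scheme.Hom.comp_preimage]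
  exact f'.preimage_mono hV

include w in
theorem pull_comb {U : S.Opens} {V : S'.Opens} (hV : V ≤ u ⁻¹ᵁ U) (c : Fin N → Γ(S, U)) :
    rs ((Scheme.Modules.pullback g).obj E) (preimage_le f f' g u hV w) (pull g E (f ⁻¹ᵁ U) (comb f ε U c)) =
      comb f' (fun i => pull g E ⊤ (ε i)) V (fun i => u.appLE U V hV (c i)) := by
  have hsum : pull g E (f ⁻¹ᵁ U) (comb f ε U c) =
      ∑ i, g.app (f ⁻¹ᵁ U) (f.app U (c i)) • rs ((Scheme.Modules.pullback g).obj E) le_top (pull g E ⊤ (ε i)) := by
    show ((Scheme.Modules.pullbackPushforwardAdjunction g).unit.app E).app _ _ = _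
    rw [comb, map_sum]
    refine Finset.sum_congr rfl fun i _ => ?_
    show pull g E _ _ = _
    rw [pull_smul, ← pull_rs g E (le_top : f ⁻¹ᵁ U ≤ ⊤)]
    rfl
  refine ((congrArg _ hsum).trans (map_sum _ _ _)).trans ?_
  refine Finset.sum_congr rfl fun i _ => ?_
  refine (rs_smul _ (preimage_le f f' g u hV w) _ _).trans ?_
  rw [rs_rs]
  refine congrArg (· • _) ?_
  have h1 : g.app (f ⁻¹ᵁ U) (f.app U (c i)) = (g ≫ f).app U (c i) := rfl
  have h2 : f'.app V (u.appLE U V hV (c i)) = (u.appLE U V hV ≫ f'.app V) (c i) := rfl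
  rw [h1, h2]
  have e : ∀ (k : X' ⟶ S) (hk : k = f' ≫ u) (hle : f' ⁻¹ᵁ V ≤ k ⁻¹ᵁ U),
      k.app U ≫ X'.presheaf.map (homOfLE hle).op = u.appLE U V hV ≫ f'.app V := by
    rintro _ rfl hle
    rw [Scheme.Hom.app_eq_appLE f', Scheme.Hom.appLE_comp_appLE]
    rfl
  exact ConcreteCategory.congr_hom (e _ w (preimage_le f f' g u hV w)) (c i)

end Groth.L02.Quot
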